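import Cfsg.Agent.Lib.PGOQuot.Main

/-!
The structure of `PGO`, `PSO` and the proper similarities modulo `Inn PΩ(Q)`.
-/

set_option autoImplicit false

namespace CfsgLib.PGOQuot

open Matrix Cfsg QuadraticMap Module
open CfsgLib.OrthSpinor

universe u

variable {ι : Type} [Fintype ι] [DecidableEq ι] {F : Type u} [Field F]

theorem pgoAut_eq (Q : QuadraticForm F (ι → F)) :
    pgoAut F ⇑Q = (⊤ : Subgroup ↥(simG Q)).map simAut :=
  autSubgroupOf_eq _ ⊤ fun _ =>
    ⟨fun ⟨g, hg, h⟩ => ⟨⟨g, hg⟩, trivial, h⟩, fun ⟨g, _, h⟩ => ⟨g, g.2, h⟩⟩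

/-- The special isometries inside the similarities. -/
def soSub (Q : QuadraticForm F (ι → F)) : Subgroup ↥(simG Q) :=
  (specialIsometryGL F ⇑Q).comap (simG Q).subtype

theorem psoAut_eq (Q : QuadraticForm F (ι → F)) :
    psoAut F ⇑Q = (soSub Q).map simAut :=
  autSubgroupOf_eq _ (soSub Q) fun _ =>
    ⟨fun ⟨g, hg, h⟩ => ⟨⟨g, iso_le_sim hg.1⟩, hg, h⟩, fun ⟨g, hg, h⟩ => ⟨g, hg, h⟩⟩

theorem mem_soSub_iff {Q : QuadraticForm F (ι → F)} {g : ↥(simG Q)} :
    g ∈ soSub Q ↔ ∃ o : ↥(isometryGroup F ⇑Q), detHom o = 1 ∧ isoToSim o = g := by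
  constructor
  · rintro ⟨h1, h2⟩
    exact ⟨⟨_, h1⟩, h2, Subtype.ext rfl⟩
  · rintro ⟨o, ho, rfl⟩
    exact ⟨o.2, ho⟩

theorem mem_map_Inn_iff {Q : QuadraticForm F (ι → F)} (g : ↥(simG Q)) :
    simAut g ∈ Cfsg.Inn (POmega F ⇑Q) ↔ outer g = 1 := by
  rw [outer, MonoidHom.comp_apply, QuotientGroup.mk'_apply, QuotientGroup.eq_one_iff]

namespace Ctx

variable [Fintype F] {Q : QuadraticForm F (ι → F)} {C : Ctx Q} (S : Sim C)

include C in
theorem z_ne_one (h : th (negI (Q := Q)) = 1) : C.z ≠ 1 := fun hz => by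
  rw [C.z_eq_one_iff.mp hz] at h
  exact absurd h (by decide)

namespace Sim

/-- The pair (square class, proper sign) in the four group. -/
noncomputable def chi : ↥(simG Q) →* Multiplicative (ZMod 2 × ZMod 2) :=
  MonoidHom.mk' (fun g => Multiplicative.ofAdd
    ((signEquiv (C.sq g)).toAdd,
      haveI := Classical.dec (C.eps g = 1); if C.eps g = 1 then 0 else 1)) (by
    intro g h
    simp only [map_mul, toAdd_mul, ← ofAdd_add, Prod.mk_add_mk]
    congr 2
    have hne : (-1 : Fˣ) ≠ 1 := fun e => C.h2 (by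
      have := congrArg Units.val e
      simp at this
      linear_combination -this)
    have h11 : (0 : ZMod 2) = 1 + 1 := by decide
    rcases S.eps_sq g with h1 | h1 <;> rcases S.eps_sq h with h3 | h3 <;>
      simp only [h1, h3, map_mul, mul_one, one_mul, neg_mul_neg, hne, if_true, if_false, add_zero, zero_add]
    exact h11)

theorem chi_eq_one (g : ↥(simG Q)) : S.chi g = 1 ↔ C.sq g = 1 ∧ C.eps g = 1 := by
  rw [chi, MonoidHom.mk'_apply, ofAdd_eq_one, Prod.mk_eq_zero, toAdd_eq_zero, signEquiv_eq_one]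
  by_cases h : C.eps g = 1 <;> simp [h]

include S in
theorem chi_surjective : Function.Surjective S.chi := by
  have h : ∀ x : Multiplicative (ZMod 2 × ZMod 2), x = 1 ∨ x = Multiplicative.ofAdd (1, 0) ∨
      x = Multiplicative.ofAdd (0, 1) ∨ x = Multiplicative.ofAdd (1, 0) * Multiplicative.ofAdd (0, 1) := by
    decide
  have hne : (-1 : Fˣ) ≠ 1 := fun e => C.h2 (by
    have := congrArg Units.val e
    simp at this
    linear_combination -this)
  have h1 : S.chi S.g = Multiplicative.ofAdd (1, 0) := by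
    simp [chi, S.hsq, S.heps, signEquiv]
  have h3 : S.chi (isoToSim C.r0) = Multiplicative.ofAdd (0, 1) := by
    simp [chi, C.sq_isoToSim, C.eps_isoToSim, C.r0_spec.1, hne]
  intro x
  rcases h x with rfl | rfl | rfl | rfl
  · exact ⟨1, map_one _⟩
  · exact ⟨_, h1⟩
  · exact ⟨_, h3⟩
  · exact ⟨S.g * isoToSim C.r0, by rw [map_mul, h1, h3]⟩

include S in
/-- `PGO / PSO` is a four group. -/
theorem pgo_mod_pso :
    ∃ φ : ↥(pgoAut F ⇑Q) →* Multiplicative (ZMod 2 × ZMod 2),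
      Function.Surjective φ ∧ φ.ker = (psoAut F ⇑Q).subgroupOf (pgoAut F ⇑Q) := by
  rw [pgoAut_eq, psoAut_eq]
  refine exists_hom_on_map simAut ⊤ _ (S.chi.comp (Subgroup.subtype ⊤)) ?_ ?_
  · exact fun x => ⟨⟨_, trivial⟩, (S.chi_surjective x).choose_spec⟩
  · rintro ⟨g, -⟩
    show simAut g ∈ _ ↔ S.chi g = 1
    rw [S.chi_eq_one]
    constructor
    · rintro ⟨k, hk, hkg⟩
      obtain ⟨o, ho, rfl⟩ := mem_soSub_iff.mp hk
      have h : simAut (g * (isoToSim o)⁻¹) = 1 := by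
        rw [map_mul, map_inv, hkg, mul_inv_cancel]
      obtain ⟨c, hc⟩ := exists_scal_of_simAut_eq_one C.h2 C.hnd C.five_le_card h
      have he : g = scalSim c * isoToSim o := by
        rw [← inv_mul_cancel_right g (isoToSim o)]
        congr 1
        exact Subtype.ext hc
      rw [he, map_mul, map_mul C.eps, C.sq_scalSim, C.sq_isoToSim, C.eps_scalSim, C.eps_isoToSim, ho]
      simp
    · rintro ⟨h1, h3⟩
      obtain ⟨c, o, rfl⟩ := C.exists_decomp h1
      rw [map_mul, C.eps_scalSim, C.eps_isoToSim, one_mul] at h3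
      refine ⟨isoToSim o, mem_soSub_iff.mpr ⟨o, h3, rfl⟩, ?_⟩
      ext x
      induction x using QuotientGroup.induction_on with
      | _ s =>
        rw [simAut_mk, simAut_mk]
        congr 1
        apply Subtype.ext
        apply Subtype.ext
        rw [conjOmega_coe, conjOmega_coe]
        show _ = scal c * (o : GL ι F) * _ * (scal c * (o : GL ι F))⁻¹
        rw [_root_.mul_inv_rev, isoToSim_coe]
        have e : ∀ a b x : GL ι F, a * b * x * (b⁻¹ * a⁻¹) = a * (b * x * b⁻¹) * a⁻¹ := fun a b x => by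
          group
        rw [e, scal_comm, mul_inv_cancel_right]

/-! ### Modulo inner automorphisms -/

include S in
theorem relIndex_pso :
    (th (negI (Q := Q)) = -1 → (Cfsg.Inn (POmega F ⇑Q)).relIndex (psoAut F ⇑Q) = 1) ∧
      (th (negI (Q := Q)) = 1 → (Cfsg.Inn (POmega F ⇑Q)).relIndex (psoAut F ⇑Q) = 2) := by
  rw [psoAut_eq]
  constructor
  · intro h
    rw [Subgroup.relIndex_eq_one]
    rintro _ ⟨g, hg, rfl⟩
    obtain ⟨o, ho, rfl⟩ := mem_soSub_iff.mp hg
    rw [mem_map_Inn_iff]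
    rcases C.outer_proper ho with ⟨h1, -⟩ | ⟨h1, -⟩
    · exact h1
    · rw [h1]; exact C.z_eq_one_iff.mpr h
  · intro h
    obtain ⟨φ, hφ, hker⟩ := exists_hom_of_image simAut (Cfsg.Inn (POmega F ⇑Q)) (soSub Q)
      (zmodTwoHom C.z C.z_mul_z) (zmodTwoHom_inj _ _ (z_ne_one h))
      (fun k hk => by
        obtain ⟨o, ho, rfl⟩ := mem_soSub_iff.mp hk
        rcases C.outer_proper ho with ⟨h1, -⟩ | ⟨h1, -⟩
        · exact ⟨1, by rw [map_one]; exact h1.symm⟩
        · exact ⟨Multiplicative.ofAdd 1, by rw [zmodTwoHom_one]; exact h1.symm⟩)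
      (fun x => by
        have hx : x = 1 ∨ x = Multiplicative.ofAdd 1 := by revert x; decide
        rcases hx with rfl | rfl
        · exact ⟨1, one_mem _, by simp⟩
        · obtain ⟨hd, ht⟩ := C.exists_z0.choose_spec
          exact ⟨_, mem_soSub_iff.mpr ⟨_, hd, rfl⟩, by rw [zmodTwoHom_one]; rfl⟩)
    rw [relIndex_eq_card _ _ φ hφ hker]
    simp

include S in
/-- All of `PGO` has image in any subgroup of `Out` holding the three generators. -/
theorem outer_mem (R : Subgroup (Out Q)) (hb : S.b ∈ R) (ht : C.t ∈ R) (hz : C.z ∈ R) (g : ↥(simG Q)) :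
    outer g ∈ R := by
  obtain ⟨e, he, h⟩ := S.outer_cases g
  have her : e ∈ R := by rcases he with rfl | rfl; exacts [R.one_mem, hz]
  rcases h with ⟨-, -, h⟩ | ⟨-, -, h⟩ | ⟨-, -, h⟩ | ⟨-, -, h⟩ <;> rw [h]
  exacts [her, R.mul_mem her ht, R.mul_mem her (R.inv_mem hb), R.mul_mem (R.mul_mem her ht) (R.inv_mem hb)]

include S in
theorem eps_mem (R : Subgroup (Out Q)) (hb : S.b ∈ R) (hz : C.z ∈ R) {g : ↥(simG Q)} (hg : C.eps g = 1) :
    outer g ∈ R := by
  obtain ⟨e, he, h⟩ := S.outer_cases g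
  have her : e ∈ R := by rcases he with rfl | rfl; exacts [R.one_mem, hz]
  have hne : (-1 : Fˣ) ≠ 1 := fun e => C.h2 (by
    have := congrArg Units.val e
    simp at this
    linear_combination -this)
  rcases h with ⟨-, -, h⟩ | ⟨-, h', h⟩ | ⟨-, -, h⟩ | ⟨-, h', h⟩
  · rw [h]; exact her
  · rw [hg] at h'; exact absurd h'.symm hne
  · rw [h]; exact R.mul_mem her (R.inv_mem hb)
  · rw [hg] at h'; exact absurd h'.symm hne

include S in
theorem t_ne : C.t ≠ 1 ∧ S.b ≠ 1 ∧ C.t * S.b ≠ 1 := by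
  have hne : (-1 : Fˣ) ≠ 1 := fun e => C.h2 (by
    have := congrArg Units.val e
    simp at this
    linear_combination -this)
  refine ⟨fun h => ?_, fun h => ?_, fun h => ?_⟩
  · have := (C.sq_of_outer_eq_one h).2
    rw [C.eps_isoToSim, C.r0_spec.1] at this
    exact hne this
  · have := (C.sq_of_outer_eq_one h).1
    rw [S.hsq] at this
    exact absurd this (by decide)
  · rw [t, b, ← map_mul] at h
    have := (C.sq_of_outer_eq_one h).1
    rw [map_mul, C.sq_isoToSim, S.hsq] at this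
    exact absurd this (by decide)

include S in
theorem pgo_mod_inn_split (h : th (negI (Q := Q)) = -1) :
    ∃ φ : ↥(pgoAut F ⇑Q) →* Multiplicative (ZMod 2 × ZMod 2),
      Function.Surjective φ ∧ φ.ker = (Cfsg.Inn (POmega F ⇑Q)).subgroupOf (pgoAut F ⇑Q) := by
  have hz := C.z_eq_one_iff.mpr h
  obtain ⟨ht1, hb1, htb1⟩ := S.t_ne
  have hbb : S.b * S.b = 1 := S.b_sq_one (Or.inr hz)
  have hcomm : C.t * S.b = S.b * C.t := by
    have h1 := S.b_t
    rw [hz, mul_one] at h1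
    calc C.t * S.b = S.b * C.t * S.b⁻¹ * S.b := by rw [h1]
      _ = S.b * C.t := by rw [inv_mul_cancel_right]
  rw [pgoAut_eq]
  obtain ⟨hr1, hr2⟩ := mem_range_kleinHom C.t S.b C.t_mul_t hbb hcomm
  refine exists_hom_of_image simAut _ ⊤ (kleinHom C.t S.b C.t_mul_t hbb hcomm)
    (kleinHom_inj _ _ _ _ _ ht1 hb1 htb1) (fun k _ => ?_) (fun x => ?_)
  · exact S.outer_mem _ hr2 hr1 (hz ▸ one_mem _) k
  · have hle : (kleinHom C.t S.b C.t_mul_t hbb hcomm).range ≤ (outer (Q := Q)).range := by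
      rintro _ ⟨y, rfl⟩
      simp only [kleinHom, zmodTwoHom, MonoidHom.mk'_apply]
      exact Subgroup.mul_mem _ (by split_ifs; exacts [one_mem _, ⟨_, rfl⟩])
        (by split_ifs; exacts [one_mem _, ⟨_, rfl⟩])
    obtain ⟨g, hg⟩ := hle ⟨x, rfl⟩
    exact ⟨g, trivial, hg⟩

include S in
theorem pgo_mod_inn_dihedral (h : th (negI (Q := Q)) = 1) :
    ∃ φ : ↥(pgoAut F ⇑Q) →* DihedralGroup 4,
      Function.Surjective φ ∧ φ.ker = (Cfsg.Inn (POmega F ⇑Q)).subgroupOf (pgoAut F ⇑Q) := by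
  classical
  have hz := z_ne_one (C := C) h
  have hzz := C.z_mul_z
  have htt := C.t_mul_t
  have hbsq : S.b * S.b = 1 ∨ S.b * S.b = C.z := by
    rcases Int.units_eq_one_or (th S.u) with h1 | h1
    · exact Or.inl (S.b_sq_one (Or.inl h1))
    · exact Or.inr (S.b_sq h1)
  have hbz := S.b_z hbsq
  have htz := C.t_mul_z
  have hbt : S.b * C.t = C.t * C.z * S.b := by rw [← S.b_t, inv_mul_cancel_right]
  have hbin : S.b⁻¹ = if S.b * S.b = 1 then S.b else C.z * S.b := by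
    refine inv_eq_of_mul_eq_one_right ?_
    rcases hbsq with h1 | h1
    · rw [if_pos h1, h1]
    · rw [if_neg (h1 ▸ hz), ← mul_assoc, hbz, mul_assoc, h1, hzz]
  obtain ⟨r, hr2, hconj, hrb⟩ : ∃ r : Out Q, r ^ 2 = C.z ∧ C.t * r * C.t⁻¹ = r⁻¹ ∧
      (r = S.b ∨ r = C.t * S.b) := by
    rcases hbsq with h1 | h1
    · refine ⟨C.t * S.b, ?_, ?_, Or.inr rfl⟩
      · rw [pow_two, mul_assoc, ← mul_assoc S.b, hbt, mul_assoc, h1, mul_one, ← mul_assoc, htt, one_mul]
      · rw [inv_eq_of_mul_eq_one_right htt, _root_.mul_inv_rev, inv_eq_of_mul_eq_one_right htt,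
          inv_eq_of_mul_eq_one_right h1, ← mul_assoc, htt, one_mul]
    · refine ⟨S.b, by rw [pow_two, h1], ?_, Or.inl rfl⟩
      rw [inv_eq_of_mul_eq_one_right htt, mul_assoc, hbt, ← mul_assoc, ← mul_assoc, htt, one_mul, hbin,
        if_neg (h1 ▸ hz)]
  have hr4 : r ^ 4 = 1 := by rw [show (4 : ℕ) = 2 + 2 from rfl, pow_add, hr2, hzz]
  set f := CfsgLib.Invol.dihedralHom (n := 4) C.t r htt hr4 hconj with hf
  have fr : f (DihedralGroup.r 1) = r := by
    show r ^ ((1 : ZMod 4).val : ℤ) = r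
    simp [show (1 : ZMod 4).val = 1 from rfl]
  have fs : f (DihedralGroup.sr 0) = C.t := by
    show C.t * r ^ ((0 : ZMod 4).val : ℤ) = C.t
    simp
  have ft : C.t ∈ f.range := ⟨_, fs⟩
  have fz : C.z ∈ f.range := by rw [← hr2]; exact pow_mem (MonoidHom.mem_range.mpr ⟨_, fr⟩) 2
  have fb : S.b ∈ f.range := by
    rcases hrb with h1 | h1
    · rw [← h1]; exact ⟨_, fr⟩
    · have h3 : C.t * r ∈ f.range := mul_mem ft (MonoidHom.mem_range.mpr ⟨_, fr⟩)
      rwa [h1, ← mul_assoc, htt, one_mul] at h3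
  rw [pgoAut_eq]
  refine exists_hom_of_image simAut _ ⊤ f (dihedralFour_inj f ?_) (fun k _ => S.outer_mem _ fb ft fz k)
    (fun x => ?_)
  · rw [show (DihedralGroup.r 2 : DihedralGroup 4) = DihedralGroup.r 1 * DihedralGroup.r 1 from rfl,
      map_mul, fr, ← pow_two, hr2]
    exact hz
  · have hle : f.range ≤ (outer (Q := Q)).range := by
      rintro _ ⟨y, rfl⟩
      have hr' : r ∈ (outer (Q := Q)).range := by
        rcases hrb with rfl | rfl
        · exact ⟨_, rfl⟩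
        · exact mul_mem ⟨_, rfl⟩ ⟨_, rfl⟩
      rcases y with i | i
      · exact zpow_mem hr' _
      · exact mul_mem ⟨_, rfl⟩ (zpow_mem hr' _)
    obtain ⟨g, hg⟩ := hle ⟨x, rfl⟩
    exact ⟨g, trivial, hg⟩

/-! ### The proper similarities -/

include S in
theorem proper_two (h : th (negI (Q := Q)) = -1) :
    ∃ φ : ↥((C.eps.ker).map simAut) →* Multiplicative (ZMod 2),
      Function.Surjective φ ∧ φ.ker = (Cfsg.Inn (POmega F ⇑Q)).subgroupOf (C.eps.ker.map simAut) := by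
  have hz := C.z_eq_one_iff.mpr h
  have hbb : S.b * S.b = 1 := S.b_sq_one (Or.inr hz)
  refine exists_hom_of_image simAut _ _ (zmodTwoHom S.b hbb) (zmodTwoHom_inj _ _ S.t_ne.2.1) ?_ ?_
  · intro k hk
    exact S.eps_mem (zmodTwoHom S.b hbb).range ⟨_, zmodTwoHom_one _ hbb⟩ (hz ▸ one_mem _) hk
  · intro x
    have hx : x = 1 ∨ x = Multiplicative.ofAdd 1 := by revert x; decide
    rcases hx with rfl | rfl
    · exact ⟨1, one_mem _, by simp⟩
    · exact ⟨S.g, S.heps, by rw [zmodTwoHom_one]; rfl⟩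

include S in
theorem proper_four (h : th (negI (Q := Q)) = 1) (hu : th S.u = -1) :
    ∃ φ : ↥((C.eps.ker).map simAut) →* Multiplicative (ZMod 4),
      Function.Surjective φ ∧ φ.ker = (Cfsg.Inn (POmega F ⇑Q)).subgroupOf (C.eps.ker.map simAut) := by
  have hb2 : S.b ^ 2 = C.z := by rw [pow_two, S.b_sq hu]
  have hb4 : S.b ^ 4 = 1 := by rw [show (4 : ℕ) = 2 + 2 from rfl, pow_add, hb2, C.z_mul_z]
  have fb : S.b ∈ (zmodFourHom S.b hb4).range := ⟨_, zmodFourHom_one _ hb4⟩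
  refine exists_hom_of_image simAut _ _ (zmodFourHom S.b hb4)
    (zmodFourHom_inj _ _ (hb2 ▸ z_ne_one h)) (fun k hk => ?_) (fun x => ?_)
  · exact S.eps_mem _ fb (hb2 ▸ pow_mem fb 2) hk
  · exact ⟨S.g ^ x.toAdd.val, pow_mem (show S.g ∈ C.eps.ker from S.heps) _, by
      rw [map_pow, map_pow]; rfl⟩

include S in
theorem proper_klein (h : th (negI (Q := Q)) = 1) (hu : th S.u = 1) :
    ∃ φ : ↥((C.eps.ker).map simAut) →* Multiplicative (ZMod 2 × ZMod 2),
      Function.Surjective φ ∧ φ.ker = (Cfsg.Inn (POmega F ⇑Q)).subgroupOf (C.eps.ker.map simAut) := by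
  have hbb : S.b * S.b = 1 := S.b_sq_one (Or.inl hu)
  have hbz : S.b * C.z = C.z * S.b := S.b_z (Or.inl hbb)
  have hne : S.b * C.z ≠ 1 := by
    intro h1
    obtain ⟨hd, -⟩ := C.exists_z0.choose_spec
    rw [b, z, ← map_mul] at h1
    have := (C.sq_of_outer_eq_one h1).1
    rw [map_mul, C.sq_isoToSim, S.hsq] at this
    exact absurd this (by decide)
  obtain ⟨hr1, hr2⟩ := mem_range_kleinHom S.b C.z hbb C.z_mul_z hbz
  refine exists_hom_of_image simAut _ _ (kleinHom S.b C.z hbb C.z_mul_z hbz)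
    (kleinHom_inj _ _ _ _ _ S.t_ne.2.1 (z_ne_one h) hne) (fun k hk => S.eps_mem _ hr1 hr2 hk) (fun x => ?_)
  have hle : (kleinHom S.b C.z hbb C.z_mul_z hbz).range ≤ C.eps.ker.map (outer (Q := Q)) := by
    rintro _ ⟨y, rfl⟩
    simp only [kleinHom, zmodTwoHom, MonoidHom.mk'_apply]
    obtain ⟨hd, -⟩ := C.exists_z0.choose_spec
    exact Subgroup.mul_mem _ (by split_ifs; exacts [one_mem _, ⟨S.g, S.heps, rfl⟩])
      (by split_ifs; exacts [one_mem _,
        ⟨isoToSim C.exists_z0.choose, (C.eps_isoToSim _).trans hd, rfl⟩])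
  obtain ⟨g, hg, hgx⟩ := hle ⟨x, rfl⟩
  exact ⟨g, hg, hgx⟩

end Sim

end Ctx

end CfsgLib.PGOQuot
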