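import Cfsg.Prelude.Def_LieTypeDatum
import Cfsg.Prelude.Def_KGroupFacts
import Cfsg.Agent.Lib.AutPSL.Quot
import Cfsg.Agent.Lib.OrthCrit.Trans

/-!
The action of the similarities of a quadratic form on `PΩ(Q)` and its kernel.
-/

set_option autoImplicit false

namespace CfsgLib.PGOQuot

open Matrix Cfsg QuadraticMap Module
open CfsgLib.Classical.Quad (NDPolar)
open CfsgLib.OrthSpinor

variable {ι : Type} [Fintype ι] [DecidableEq ι] {F : Type*} [Field F]
variable {Q : QuadraticForm F (ι → F)}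

/-- The similarity group of `Q`. -/
abbrev simG (Q : QuadraticForm F (ι → F)) : Subgroup (GL ι F) :=
  Geo.quadSimilarityGroup (F := F) ⇑Q

theorem iso_le_sim : isometryGroup F ⇑Q ≤ simG Q := fun g hg =>
  ⟨1, fun v => by
    rw [Units.val_one, one_mul]
    exact hg v v⟩

/-- Scalar matrices as invertible matrices. -/
def scal : Fˣ →* GL ι F := Units.map (Matrix.scalar ι : F →+* Matrix ι ι F).toMonoidHom

theorem scal_mulVec (c : Fˣ) (v : ι → F) : ((scal c : GL ι F) : Matrix ι ι F) *ᵥ v = (c : F) • v := by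
  funext i
  simp [scal, Matrix.mulVec_diagonal]

theorem scal_comm (c : Fˣ) (g : GL ι F) : scal c * g = g * scal c := by
  apply Units.ext
  rw [Units.val_mul, Units.val_mul]
  apply Matrix.toLin'.injective
  refine LinearMap.ext fun x => ?_
  simp only [Matrix.toLin'_apply, ← Matrix.mulVec_mulVec, scal_mulVec, Matrix.mulVec_smul]

theorem gl_ext {g h : GL ι F} (H : ∀ x, (g : Matrix ι ι F) *ᵥ x = (h : Matrix ι ι F) *ᵥ x) : g = h :=
  Units.ext (Matrix.toLin'.injective (LinearMap.ext H))

theorem scal_mem_simG (c : Fˣ) : scal c ∈ simG Q :=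
  ⟨c * c, fun v => by rw [scal_mulVec, QuadraticMap.map_smul, smul_eq_mul, Units.val_mul]⟩

theorem conj_mem (g : ↥(simG Q)) (s : ↥(isometryGroup F ⇑Q)) :
    (g : GL ι F) * s * (g : GL ι F)⁻¹ ∈ isometryGroup F ⇑Q := by
  obtain ⟨c, hc⟩ := g.2
  intro u _
  show Q ((((g : GL ι F) * s * (g : GL ι F)⁻¹ : GL ι F) : Matrix ι ι F) *ᵥ u) = Q u
  rw [Units.val_mul, Units.val_mul, ← Matrix.mulVec_mulVec, ← Matrix.mulVec_mulVec, hc]
  rw [show Q (((s : GL ι F) : Matrix ι ι F) *ᵥ _) = _ from s.2 _ u, ← hc, Matrix.mulVec_mulVec,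
    ← Units.val_mul, mul_inv_cancel, Units.val_one, Matrix.one_mulVec]

/-- Conjugation by a similarity on the isometry group. -/
def conjIso : ↥(simG Q) →* MulAut ↥(isometryGroup F ⇑Q) where
  toFun g :=
    { toFun := fun s => ⟨_, conj_mem g s⟩
      invFun := fun s => ⟨_, conj_mem g⁻¹ s⟩
      left_inv := fun s => Subtype.ext (by simp [mul_assoc])
      right_inv := fun s => Subtype.ext (by simp [mul_assoc])
      map_mul' := fun s t => Subtype.ext (by simp [mul_assoc]) }
  map_one' := MulEquiv.ext fun s => Subtype.ext (by simp)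
  map_mul' g h := MulEquiv.ext fun s => Subtype.ext (by simp [_root_.mul_inv_rev, mul_assoc])

theorem conjIso_coe (g : ↥(simG Q)) (s : ↥(isometryGroup F ⇑Q)) :
    ((conjIso g s : ↥(isometryGroup F ⇑Q)) : GL ι F) = (g : GL ι F) * s * (g : GL ι F)⁻¹ := rfl

theorem conjIso_mem (g : ↥(simG Q)) {s : ↥(isometryGroup F ⇑Q)} (hs : s ∈ Omega F ⇑Q) :
    conjIso g s ∈ Omega F ⇑Q := by
  have h : (Omega F ⇑Q).map (conjIso g).toMonoidHom = Omega F ⇑Q := by
    rw [Omega, commutator_def, Subgroup.map_commutator,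
      Subgroup.map_top_of_surjective _ (conjIso g).surjective]
  rw [← h]
  exact Subgroup.mem_map_of_mem _ hs

/-- Conjugation by a similarity on `Ω`. -/
def conjOmega : ↥(simG Q) →* MulAut ↥(Omega F ⇑Q) where
  toFun g :=
    { toFun := fun s => ⟨conjIso g s.1, conjIso_mem g s.2⟩
      invFun := fun s => ⟨conjIso g⁻¹ s.1, conjIso_mem g⁻¹ s.2⟩
      left_inv := fun s => Subtype.ext (show (conjIso g⁻¹ * conjIso g) s.1 = s.1 by
        rw [← map_mul, inv_mul_cancel, map_one]; rfl)
      right_inv := fun s => Subtype.ext (show (conjIso g * conjIso g⁻¹) s.1 = s.1 by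
        rw [← map_mul, mul_inv_cancel, map_one]; rfl)
      map_mul' := fun s t => Subtype.ext (map_mul _ _ _) }
  map_one' := MulEquiv.ext fun s => Subtype.ext (by simp)
  map_mul' g h := MulEquiv.ext fun s => Subtype.ext (by simp [map_mul])

/-- The automorphism of `PΩ(Q)` induced by a similarity. -/
def simAut : ↥(simG Q) →* MulAut (POmega F ⇑Q) := CfsgLib.AutPSL.descend.comp conjOmega

@[simp] theorem simAut_mk (g : ↥(simG Q)) (s : ↥(Omega F ⇑Q)) :
    simAut g (QuotientGroup.mk s) = QuotientGroup.mk (conjOmega g s) := rfl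

theorem conjOmega_coe (g : ↥(simG Q)) (s : ↥(Omega F ⇑Q)) :
    (((conjOmega g s : ↥(Omega F ⇑Q)) : ↥(isometryGroup F ⇑Q)) : GL ι F) =
      (g : GL ι F) * ((s : ↥(isometryGroup F ⇑Q)) : GL ι F) * (g : GL ι F)⁻¹ := rfl

theorem induced_iff (g : ↥(simG Q)) (β : MulAut (POmega F ⇑Q)) :
    IsInducedBySemilinearPOmega (⇑Q) (g : GL ι F) (RingEquiv.refl F) β ↔ β = simAut g := by
  constructor
  · intro h
    ext x
    induction x using QuotientGroup.induction_on with
    | _ s =>
      rw [simAut_mk]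
      refine h s _ ?_
      rw [conjOmega_coe, Units.val_mul, Units.val_mul]
      simp [Matrix.map_id']
  · rintro rfl s s' hs
    rw [simAut_mk]
    congr 1
    apply Subtype.ext
    apply Subtype.ext
    apply Units.ext
    rw [hs, conjOmega_coe, Units.val_mul, Units.val_mul]
    simp [Matrix.map_id']

/-- `autSubgroupOf` for the automorphisms induced by the similarities of a subgroup. -/
theorem autSubgroupOf_eq (P : (POmega F ⇑Q ≃* POmega F ⇑Q) → Prop) (K : Subgroup ↥(simG Q))
    (hP : ∀ β, P β ↔ ∃ g ∈ K,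
      IsInducedBySemilinearPOmega (⇑Q) (g : GL ι F) (RingEquiv.refl F) β) :
    autSubgroupOf P = K.map simAut := by
  refine le_antisymm ((Subgroup.closure_le _).mpr fun β hβ => ?_) fun β hβ =>
    Subgroup.subset_closure ?_
  · obtain ⟨g, hg, hind⟩ := (hP β).mp hβ
    exact ⟨g, hg, ((induced_iff g β).mp hind).symm⟩
  · obtain ⟨g, hg, rfl⟩ := hβ
    exact (hP _).mpr ⟨g, hg, (induced_iff g _).mpr rfl⟩

/-- The isometries inside the similarities. -/
def isoToSim : ↥(isometryGroup F ⇑Q) →* ↥(simG Q) := Subgroup.inclusion iso_le_sim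

@[simp] theorem isoToSim_coe (g : ↥(isometryGroup F ⇑Q)) : ((isoToSim g : ↥(simG Q)) : GL ι F) = g := rfl

theorem simAut_omega (w : ↥(Omega F ⇑Q)) :
    simAut (isoToSim (w : ↥(isometryGroup F ⇑Q))) = MulAut.conj (QuotientGroup.mk w : POmega F ⇑Q) := by
  ext x
  induction x using QuotientGroup.induction_on with
  | _ s =>
    rw [simAut_mk, MulAut.conj_apply, ← QuotientGroup.mk_inv, ← QuotientGroup.mk_mul,
      ← QuotientGroup.mk_mul]
    rfl

/-! ### The kernel -/

theorem finrank_ker_pair_ge (v w : ι → F) :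
    Fintype.card ι ≤ finrank F ↥(LinearMap.ker ((polarBilin Q v).prod (polarBilin Q w))) + 2 := by
  have h := LinearMap.finrank_range_add_finrank_ker ((polarBilin Q v).prod (polarBilin Q w))
  have h' := Submodule.finrank_le (LinearMap.range ((polarBilin Q v).prod (polarBilin Q w)))
  rw [finrank_fintype_fun_eq_card] at h
  rw [finrank_prod, finrank_self] at h'
  omega

variable [Fintype F]

theorem exists_two_orth (h2 : (2 : F) ≠ 0) (hnd : NDPolar Q) (hn : 5 ≤ Fintype.card ι)
    {v : ι → F} (hv : Q v ≠ 0) :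
    ∃ w w', Q w = Q v ∧ Q w' = Q v ∧ polar Q v w = 0 ∧ polar Q v w' = 0 ∧ polar Q w w' = 0 := by
  have hnd1 : ∀ x ∈ LinearMap.ker (polarBilin Q v),
      (∀ y ∈ LinearMap.ker (polarBilin Q v), polar Q y x = 0) → x = 0 := by
    intro x hx hxy
    refine hnd x fun y => ?_
    have hvv : polar Q v v ≠ 0 := by
      rw [CfsgLib.Classical.Quad.polar_self']; exact mul_ne_zero h2 hv
    have hy : y - (polar Q v y / polar Q v v) • v ∈ LinearMap.ker (polarBilin Q v) := by
      rw [LinearMap.mem_ker, polarBilin_apply_apply, polar_sub_right, polar_smul_right, smul_eq_mul,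
        div_mul_cancel₀ _ hvv, sub_self]
    have h1 := hxy _ hy
    have hxv : polar Q v x = 0 := hx
    rw [polar_sub_left, polar_smul_left, hxv, smul_zero, sub_zero] at h1
    rw [polar_comm]; exact h1
  have hr : Fintype.card ι ≤ finrank F ↥(LinearMap.ker (polarBilin Q v)) + 1 := by
    have h := LinearMap.finrank_range_add_finrank_ker (polarBilin Q v)
    have h' := Submodule.finrank_le (LinearMap.range (polarBilin Q v))
    rw [finrank_fintype_fun_eq_card] at h
    rw [finrank_self] at h'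
    omega
  obtain ⟨w, hw, hQw⟩ := CfsgLib.OrthCrit.exists_norm_mem h2 hnd1 (by omega) (Q v)
  set S := LinearMap.ker ((polarBilin Q v).prod (polarBilin Q w)) with hS
  have hmem : ∀ x, x ∈ S ↔ polar Q v x = 0 ∧ polar Q w x = 0 := fun x => by
    simp [hS, LinearMap.mem_ker, LinearMap.prod_apply]
  have hvw : polar Q v w = 0 := hw
  have hnd2 : ∀ x ∈ S, (∀ y ∈ S, polar Q y x = 0) → x = 0 := by
    intro x hx hxy
    refine hnd x fun y => ?_
    have hvv : polar Q v v ≠ 0 := by
      rw [CfsgLib.Classical.Quad.polar_self']; exact mul_ne_zero h2 hv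
    have hww : polar Q w w ≠ 0 := by
      rw [CfsgLib.Classical.Quad.polar_self', hQw]; exact mul_ne_zero h2 hv
    have hy : y - (polar Q v y / polar Q v v) • v - (polar Q w y / polar Q w w) • w ∈ S := by
      rw [hmem]
      simp only [polar_sub_right, polar_smul_right, smul_eq_mul, hvw, polar_comm Q w v]
      rw [div_mul_cancel₀ _ hvv, div_mul_cancel₀ _ hww]
      simp
    have h1 := hxy _ hy
    obtain ⟨hxv, hxw⟩ := (hmem x).mp hx
    rw [polar_sub_left, polar_sub_left, polar_smul_left, polar_smul_left, hxv, hxw, smul_zero,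
      smul_zero, sub_zero, sub_zero] at h1
    rw [polar_comm]; exact h1
  have hr2 := finrank_ker_pair_ge (Q := Q) v w
  obtain ⟨w', hw', hQw'⟩ := CfsgLib.OrthCrit.exists_norm_mem h2 hnd2 (by rw [hS]; omega) (Q v)
  obtain ⟨h1, h3⟩ := (hmem w').mp hw'
  exact ⟨w, w', hQw, hQw', hvw, h1, h3⟩

theorem pair_mem_Omega (h2 : (2 : F) ≠ 0) (hnd : NDPolar Q) (hn : 5 ≤ Fintype.card ι)
    {v w : ι → F} (hv : Q v ≠ 0) (hw : Q w ≠ 0) (hvw : Q w = Q v) :
    reflection hv * reflection hw ∈ Omega F ⇑Q := by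
  rw [OrthSpinor.mem_Omega_iff h2 (CfsgLib.Orth.ndPolar_iff.mp hnd) (by omega) one_ne_zero]
  classical
  refine ⟨by rw [map_mul, detHom_reflection, detHom_reflection, neg_mul_neg, one_mul], ?_⟩
  rw [map_mul, theta_reflection h2 one_ne_zero hv, theta_reflection h2 one_ne_zero hw, hvw]
  split_ifs <;> rfl

/-- A matrix commuting up to sign with `r_v r_w` preserves the span of `v` and `w`. -/
theorem mem_span_of_sign (h2 : (2 : F) ≠ 0) (hn : 5 ≤ Fintype.card ι) {v w : ι → F}
    (hv : Q v ≠ 0) (hw : Q w ≠ 0) (hvw : polar Q v w = 0) (g : GL ι F) (z : F)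
    (hz : z = 1 ∨ z = -1)
    (hg : ∀ x, (g : Matrix ι ι F) *ᵥ act Q (reflection hv * reflection hw) x =
      z • act Q (reflection hv * reflection hw) ((g : Matrix ι ι F) *ᵥ x)) :
    (g : Matrix ι ι F) *ᵥ v ∈ Submodule.span F {v, w} := by
  have hu : ∀ x, act Q (reflection hv * reflection hw) x =
      x - ((Q v)⁻¹ * polar Q v x) • v - ((Q w)⁻¹ * polar Q w x) • w := by
    intro x
    rw [act_mul, act_reflection hw, act_sub, act_smul, act_reflection_of_ortho hv hvw, act_reflection hv]
  have hwv : polar Q w v = 0 := by rw [polar_comm]; exact hvw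
  have huv : act Q (reflection hv * reflection hw) v = -v := by
    rw [hu, hwv, mul_zero, zero_smul, sub_zero, CfsgLib.Classical.Quad.polar_self', mul_left_comm,
      inv_mul_cancel₀ hv, mul_one, two_smul]
    abel
  have hneg : ∀ x, act Q (reflection hv * reflection hw) x = -x → x ∈ Submodule.span F {v, w} := by
    intro x hx
    rw [hu] at hx
    have h3 : (2 : F) • x = ((Q v)⁻¹ * polar Q v x) • v + ((Q w)⁻¹ * polar Q w x) • w := by
      linear_combination (norm := module) hx
    rw [← one_smul F x, ← inv_mul_cancel₀ h2, ← smul_smul, h3]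
    exact Submodule.smul_mem _ _ (add_mem (Submodule.smul_mem _ _ (Submodule.subset_span (by simp)))
      (Submodule.smul_mem _ _ (Submodule.subset_span (by simp))))
  rcases hz with rfl | rfl
  · refine hneg _ ?_
    have h := hg v
    rw [huv, Matrix.mulVec_neg, one_smul] at h
    exact h.symm
  · exfalso
    set S := LinearMap.ker ((polarBilin Q v).prod (polarBilin Q w)) with hS
    have hle : S.map (Matrix.mulVecLin (g : Matrix ι ι F)) ≤ Submodule.span F {v, w} := by
      rintro _ ⟨x, hx, rfl⟩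
      have hx' : polar Q v x = 0 ∧ polar Q w x = 0 := by
        simpa [hS, LinearMap.mem_ker, LinearMap.prod_apply] using hx
      have h := hg x
      rw [hu x, hx'.1, hx'.2, mul_zero, mul_zero, zero_smul, zero_smul, sub_zero, sub_zero,
        neg_one_smul] at h
      refine hneg _ ?_
      simp only [Matrix.mulVecLin_apply]
      linear_combination (norm := module) h
    have hinj : Function.Injective (Matrix.mulVecLin (g : Matrix ι ι F)) := fun x y hxy => by
      have h := congrArg (fun a => ((g⁻¹ : GL ι F) : Matrix ι ι F) *ᵥ a) hxy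
      simpa [Matrix.mulVec_mulVec, ← Units.val_mul] using h
    have h1 := Submodule.finrank_mono hle
    rw [← (Submodule.equivMapOfInjective _ hinj S).finrank_eq] at h1
    classical
    have h3 := finrank_span_le_card (R := F) ({v, w} : Set (ι → F))
    have h4 : ({v, w} : Set (ι → F)).toFinset.card ≤ 2 := by
      rw [Set.toFinset_insert, Set.toFinset_singleton]
      exact Finset.card_insert_le _ _
    have h5 := finrank_ker_pair_ge (Q := Q) v w
    rw [← hS] at h5
    omega

/-- Up to sign, only scalars commute with all of `Ω`. -/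
theorem exists_scal_of_sign (h2 : (2 : F) ≠ 0) (hnd : NDPolar Q) (hn : 5 ≤ Fintype.card ι)
    (g : GL ι F)
    (hg : ∀ s ∈ Omega F ⇑Q, ∃ z : F, (z = 1 ∨ z = -1) ∧
      ∀ x, (g : Matrix ι ι F) *ᵥ act Q s x = z • act Q s ((g : Matrix ι ι F) *ᵥ x)) :
    ∃ c : Fˣ, g = scal c := by
  have heig : ∀ v, Q v ≠ 0 → ∃ l : F, (g : Matrix ι ι F) *ᵥ v = l • v := by
    intro v hv
    obtain ⟨w, w', hw, hw', h1, h3, h4⟩ := exists_two_orth h2 hnd hn hv
    have hw0 : Q w ≠ 0 := hw ▸ hv
    have hw'0 : Q w' ≠ 0 := hw' ▸ hv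
    obtain ⟨z, hz, hgz⟩ := hg _ (pair_mem_Omega h2 hnd hn hv hw0 hw)
    obtain ⟨z', hz', hgz'⟩ := hg _ (pair_mem_Omega h2 hnd hn hv hw'0 hw')
    have k1 := mem_span_of_sign h2 hn hv hw0 h1 g z hz hgz
    have k2 := mem_span_of_sign h2 hn hv hw'0 h3 g z' hz' hgz'
    obtain ⟨a, b, hab⟩ := Submodule.mem_span_pair.mp k1
    obtain ⟨a', b', hab'⟩ := Submodule.mem_span_pair.mp k2
    have hb : b = 0 := by
      have h := congrArg (polar (⇑Q) w) (hab.trans hab'.symm)
      simp only [polar_add_right, polar_smul_right, polar_comm Q w v, h1, h4, smul_eq_mul, mul_zero,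
        zero_add, add_zero, CfsgLib.Classical.Quad.polar_self'] at h
      exact (mul_eq_zero.mp h).resolve_right (mul_ne_zero h2 hw0)
    exact ⟨a, by rw [← hab, hb, zero_smul, add_zero]⟩
  obtain ⟨b, hb, hbn⟩ := exists_orthogonalBasis h2 (CfsgLib.Orth.ndPolar_iff.mp hnd)
  choose l hl using fun i => heig (b i) (hbn i)
  have hcoef : ∀ (c : Fin (Fintype.card ι) → F), ∑ i, c i • b i = 0 → ∀ i, c i = 0 :=
    Fintype.linearIndependent_iff.mp b.linearIndependent
  have hall : ∀ i j, l i = l j := by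
    intro i j
    rcases eq_or_ne i j with rfl | hij
    · rfl
    by_cases hQ : Q (b i + b j) = 0
    · obtain ⟨k, hki, hkj⟩ : ∃ k : Fin (Fintype.card ι), k ≠ i ∧ k ≠ j := by
        have hlt : ({i, j} : Finset (Fin (Fintype.card ι))).card < Fintype.card (Fin (Fintype.card ι)) := by
          rw [Fintype.card_fin]
          have := Finset.card_insert_le i ({j} : Finset (Fin (Fintype.card ι)))
          rw [Finset.card_singleton] at this
          omega
        obtain ⟨k, hk⟩ := Finset.exists_mem_notMem_of_card_lt_card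
          (s := ({i, j} : Finset _)) (t := Finset.univ) hlt
        exact ⟨k, by have := hk.2; simp at this; exact this.1, by have := hk.2; simp at this; exact this.2⟩
      have hQ3 : Q (b i + b j + b k) ≠ 0 := by
        rw [OrthSpinor.map_add', hQ, polar_add_left, hb i k hki.symm, hb j k hkj.symm]
        simpa using hbn k
      obtain ⟨μ, hμ⟩ := heig _ hQ3
      rw [Matrix.mulVec_add, Matrix.mulVec_add, hl, hl, hl] at hμ
      have h0 : ∑ t, (Pi.single i (l i - μ) + Pi.single j (l j - μ) + Pi.single k (l k - μ) :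
          Fin (Fintype.card ι) → F) t • b t = 0 := by
        simp only [Pi.add_apply, add_smul, Finset.sum_add_distrib, Pi.single_apply, ite_smul,
          zero_smul, Finset.sum_ite_eq', Finset.mem_univ, if_true]
        linear_combination (norm := module) hμ
      have hi := hcoef _ h0 i
      have hj := hcoef _ h0 j
      simp [Pi.single_apply, hij, hki.symm, hij.symm, hkj.symm, sub_eq_zero] at hi hj
      rw [hi, hj]
    · obtain ⟨μ, hμ⟩ := heig _ hQ
      rw [Matrix.mulVec_add, hl, hl] at hμ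
      have h0 : ∑ t, (Pi.single i (l i - μ) + Pi.single j (l j - μ) :
          Fin (Fintype.card ι) → F) t • b t = 0 := by
        simp only [Pi.add_apply, add_smul, Finset.sum_add_distrib, Pi.single_apply, ite_smul,
          zero_smul, Finset.sum_ite_eq', Finset.mem_univ, if_true]
        linear_combination (norm := module) hμ
      have hi := hcoef _ h0 i
      have hj := hcoef _ h0 j
      simp [Pi.single_apply, hij, hij.symm, sub_eq_zero] at hi hj
      rw [hi, hj]
  set c := l ⟨0, by omega⟩ with hc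
  have hgx : ∀ x, (g : Matrix ι ι F) *ᵥ x = c • x := by
    intro x
    have h : Matrix.toLin' (g : Matrix ι ι F) = c • LinearMap.id :=
      b.ext fun i => by
        rw [Matrix.toLin'_apply, hl, LinearMap.smul_apply, LinearMap.id_apply, hall i ⟨0, by omega⟩]
    exact congrArg (fun f : (ι → F) →ₗ[F] (ι → F) => f x) h
  have hc0 : c ≠ 0 := by
    intro h0
    obtain ⟨v, hv⟩ : ∃ v, Q v ≠ 0 := ⟨_, hbn ⟨0, by omega⟩⟩
    have h := congrArg (fun a => ((g⁻¹ : GL ι F) : Matrix ι ι F) *ᵥ a) (hgx v)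
    simp only [Matrix.mulVec_mulVec, ← Units.val_mul, inv_mul_cancel, Units.val_one,
      Matrix.one_mulVec, h0, zero_smul, Matrix.mulVec_zero] at h
    exact hv (by rw [h, QuadraticMap.map_zero])
  exact ⟨Units.mk0 c hc0, gl_ext fun x => by rw [hgx, scal_mulVec, Units.val_mk0]⟩

theorem act_central (h2 : (2 : F) ≠ 0) (hnd : NDPolar Q) (hn : 5 ≤ Fintype.card ι)
    {k : ↥(Omega F ⇑Q)} (hk : k ∈ Subgroup.center ↥(Omega F ⇑Q)) :
    ∃ z : F, (z = 1 ∨ z = -1) ∧ ∀ x, act Q k.1 x = z • x := by
  obtain ⟨c, hc⟩ := exists_scal_of_sign h2 hnd hn ((k : ↥(isometryGroup F ⇑Q)) : GL ι F) fun s hs =>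
    ⟨1, Or.inl rfl, fun x => by
      have h := congrArg Subtype.val (Subgroup.mem_center_iff.mp hk ⟨s, hs⟩)
      have h' := congrArg (fun y => act Q y x) h
      simp only [Subgroup.coe_mul, act_mul] at h'
      rw [one_smul]
      exact h'.symm⟩
  have hk' : ∀ x, act Q k.1 x = (c : F) • x := fun x => by
    show _ *ᵥ x = _
    rw [hc, scal_mulVec]
  obtain ⟨v, hv⟩ := CfsgLib.OrthSpinor.exists_norm h2 (CfsgLib.Orth.ndPolar_iff.mp hnd) (by omega) 1
  have h := Q_act Q k.1 v
  rw [hk', QuadraticMap.map_smul, hv, smul_eq_mul, mul_one] at h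
  exact ⟨c, mul_self_eq_one_iff.mp h, hk'⟩

/-- The kernel of the action on `PΩ` consists of scalars. -/
theorem exists_scal_of_simAut_eq_one (h2 : (2 : F) ≠ 0) (hnd : NDPolar Q)
    (hn : 5 ≤ Fintype.card ι) {g : ↥(simG Q)} (hg : simAut g = 1) :
    ∃ c : Fˣ, (g : GL ι F) = scal c := by
  refine exists_scal_of_sign h2 hnd hn _ fun s hs => ?_
  have h := congrArg (fun β : MulAut (POmega F ⇑Q) => β (QuotientGroup.mk (⟨s, hs⟩ : ↥(Omega F ⇑Q)))) hg
  simp only [simAut_mk, MulAut.one_apply] at h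
  obtain ⟨z, hz, hzx⟩ := act_central h2 hnd hn (QuotientGroup.eq.mp h.symm)
  refine ⟨z, hz, fun x => ?_⟩


  have key := hzx (((g : GL ι F) : Matrix ι ι F) *ᵥ x)
  rw [Subgroup.coe_mul, Subgroup.coe_inv, act_mul] at key
  have key' := congrArg (act Q s) key
  rw [act_act_inv, act_smul] at key'
  rw [← key']
  show _ = ((((conjOmega g ⟨s, hs⟩ : ↥(Omega F ⇑Q)) : ↥(isometryGroup F ⇑Q)) : GL ι F) : Matrix ι ι F) *ᵥ _
  rw [conjOmega_coe]
  simp only [Units.val_mul, ← Matrix.mulVec_mulVec]
  rw [Matrix.mulVec_mulVec x ((g⁻¹ : GL ι F) : Matrix ι ι F), ← Units.val_mul, inv_mul_cancel,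
    Units.val_one, Matrix.one_mulVec]
  rfl

end CfsgLib.PGOQuot
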