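import Cfsg.Agent.Lib.OrthGeom.MaxSingFamilies
import Cfsg.Agent.Lib.PGOQuot.Conj

/-!
When a similarity of a split form preserves the two classes of maximal totally singular subspaces.
-/

set_option autoImplicit false

namespace CfsgLib.PGOQuot

open Matrix Cfsg QuadraticMap Module
open CfsgLib.Classical.Quad (NDPolar)
open CfsgLib.OrthCrit (IsMaxSing)

variable {ι : Type} [Fintype ι] [DecidableEq ι] {F : Type*} [Field F]
variable {Q : QuadraticForm F (ι → F)} {n : ℕ}

theorem polar_eq_zero_of_singular {U : Submodule F (ι → F)} (hU : ∀ x ∈ U, Q x = 0) {x y : ι → F}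
    (hx : x ∈ U) (hy : y ∈ U) : polar Q x y = 0 := by
  simp [polar, hU _ (add_mem hx hy), hU x hx, hU y hy]

theorem isMaxTotallySingular_iff (hnd : NDPolar Q) (hι : Fintype.card ι = 2 * n)
    {U0 : Submodule F (ι → F)} (h0 : IsMaxSing Q U0) (U : Submodule F (ι → F)) :
    IsMaxTotallySingular ⇑Q U ↔ IsMaxSing Q U := by
  constructor
  · rintro ⟨hU, hmax⟩
    have hU' : ∀ x ∈ U, Q x = 0 := hU
    set P := LinearMap.BilinForm.orthogonal (polarBilin Q) U ⊓ U0 with hP
    have hW : ∀ x ∈ U ⊔ P, Q x = 0 := by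
      intro x hx
      obtain ⟨a, ha, b, hb, rfl⟩ := Submodule.mem_sup.mp hx
      rw [QuadraticMap.map_add (⇑Q), hU' a ha, h0.1 b hb.2, show polar Q a b = 0 from hb.1 a ha]
      simp
    have heq := hmax (U ⊔ P) hW le_sup_left
    refine ⟨hU', ?_⟩
    have hP' : P = LinearMap.BilinForm.orthogonal (polarBilin Q) (U ⊔ U0) := by
      refine le_antisymm ?_ fun x hx => ⟨fun y hy => hx y (Submodule.mem_sup_left hy),
        h0.mem_of_orth hnd fun y hy => hx y (Submodule.mem_sup_right hy)⟩
      intro x hx y hy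
      obtain ⟨a, ha, b, hb, rfl⟩ := Submodule.mem_sup.mp hy
      show polar Q (a + b) x = 0
      rw [polar_add_left, show polar Q a x = 0 from hx.1 a ha, h0.polar_eq_zero hb hx.2, add_zero]
    have hd := CfsgLib.Orth.finrank_polar_orthogonal hnd (U ⊔ U0)
    rw [← hP'] at hd
    have h1 := Submodule.finrank_sup_add_finrank_inf_eq U P
    rw [heq] at h1
    have h2 := Submodule.finrank_sup_add_finrank_inf_eq U U0
    have h3 : finrank F ↥(U ⊓ P) ≤ finrank F ↥(U ⊓ U0) :=
      Submodule.finrank_mono (inf_le_inf_left U inf_le_right)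
    have hle : U ≤ LinearMap.BilinForm.orthogonal (polarBilin Q) U := fun a ha b hb =>
      polar_eq_zero_of_singular hU' hb ha
    have hdU := CfsgLib.Orth.finrank_polar_orthogonal hnd U
    have h4 := Submodule.finrank_mono hle
    have h5 := Submodule.finrank_le (U ⊔ U0)
    have := h0.2
    rw [finrank_fintype_fun_eq_card, hι] at *
    omega
  · intro hU
    refine ⟨hU.1, fun W hW hle => le_antisymm (fun w hw => ?_) hle⟩
    exact hU.mem_of_orth hnd fun y hy => polar_eq_zero_of_singular hW (hle hy) hw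

theorem isMaxSing_image {g : GL ι F} {c : F}
    (hg : ∀ v, Q ((g : Matrix ι ι F) *ᵥ v) = c * Q v) {U : Submodule F (ι → F)} (hU : IsMaxSing Q U) :
    IsMaxSing Q (U.map (Matrix.mulVecLin (g : Matrix ι ι F))) := by
  have hinj : Function.Injective (Matrix.mulVecLin (g : Matrix ι ι F)) := fun x y hxy => by
    have h := congrArg (fun a => ((g⁻¹ : GL ι F) : Matrix ι ι F) *ᵥ a) hxy
    simpa [Matrix.mulVec_mulVec, ← Units.val_mul] using h
  refine ⟨?_, ?_⟩
  · rintro _ ⟨x, hx, rfl⟩
    rw [Matrix.mulVecLin_apply, hg, hU.1 x hx, mul_zero]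
  · rw [← (Submodule.equivMapOfInjective _ hinj U).finrank_eq]
    exact hU.2

/-- Preservation of the classes is decided on one maximal singular subspace. -/
theorem preserves_iff (hnd : NDPolar Q) (hι : Fintype.card ι = 2 * n) {g : GL ι F} {c : F}
    (hg : ∀ v, Q ((g : Matrix ι ι F) *ᵥ v) = c * Q v) {U0 : Submodule F (ι → F)} (h0 : IsMaxSing Q U0) :
    PreservesSingularClasses ⇑Q (g : Matrix ι ι F) ↔
      Even (n - finrank F ↥(U0 ⊓ U0.map (Matrix.mulVecLin (g : Matrix ι ι F)))) := by
  set L := Matrix.mulVecLin (g : Matrix ι ι F) with hL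
  have hV : finrank F (ι → F) = 2 * n := by rw [finrank_fintype_fun_eq_card, hι]
  have hinj : Function.Injective L := fun x y hxy => by
    have h := congrArg (fun a => ((g⁻¹ : GL ι F) : Matrix ι ι F) *ᵥ a) hxy
    simpa [hL, Matrix.mulVec_mulVec, ← Units.val_mul] using h
  have hdim : ∀ {U : Submodule F (ι → F)}, IsMaxSing Q U → finrank F U = n := fun hU => by
    have := hU.2; omega
  constructor
  · intro h
    have := h U0 ((isMaxTotallySingular_iff hnd hι h0 U0).mpr h0)
    rwa [SameParityClass, hdim h0] at this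
  · intro h W hW
    have hW' := (isMaxTotallySingular_iff hnd hι h0 W).mp hW
    have hgW := isMaxSing_image hg hW'
    have hgU := isMaxSing_image hg h0
    have e1 := CfsgLib.OrthGeom.parity_triple hnd hV h0 hgW hW'
    have e2 := CfsgLib.OrthGeom.parity_triple hnd hV hgU hgW h0
    have hmap : finrank F ↥(U0.map L ⊓ W.map L) = finrank F ↥(U0 ⊓ W) := by
      rw [← Submodule.map_inf L hinj]
      exact ((Submodule.equivMapOfInjective L hinj _).finrank_eq).symm
    rw [← hL] at e1 e2
    rw [hmap] at e2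
    rw [SameParityClass, hdim hW']
    show Even (n - finrank F ↥(W ⊓ W.map L))
    have l1 : finrank F ↥(W ⊓ W.map L) ≤ n := hdim hW' ▸ Submodule.finrank_mono inf_le_left
    have l2 : finrank F ↥(U0 ⊓ U0.map L) ≤ n := hdim h0 ▸ Submodule.finrank_mono inf_le_left
    rw [← ZMod.natCast_eq_zero_iff_even, Nat.cast_sub l2] at h
    rw [← ZMod.natCast_eq_zero_iff_even, Nat.cast_sub l1]
    have hsymm : finrank F ↥(W ⊓ U0) = finrank F ↥(U0 ⊓ W) := by rw [inf_comm]
    rw [hsymm] at e1
    linear_combination h + e1 + e2 - ((finrank F ↥(U0 ⊓ W) : ZMod 2) +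
      (finrank F ↥(U0 ⊓ W.map L) : ZMod 2) + finrank F ↥(W ⊓ W.map L) + n) *
        CharTwo.two_eq_zero (R := ZMod 2) - (0 : ZMod 2)

/-- For a scalar times an isometry: preservation means determinant one. -/
theorem even_scal_mul_iff (h2 : (2 : F) ≠ 0) (hnd : NDPolar Q) (hι : Fintype.card ι = 2 * n)
    {U0 : Submodule F (ι → F)} (h0 : IsMaxSing Q U0) (c : Fˣ) (o : ↥(isometryGroup F ⇑Q)) :
    Even (n - finrank F ↥(U0 ⊓ U0.map
      (Matrix.mulVecLin ((scal c * (o : GL ι F) : GL ι F) : Matrix ι ι F)))) ↔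
        CfsgLib.OrthSpinor.detHom o = 1 := by
  rw [CfsgLib.OrthCrit.detHom_eq_one_iff hnd h2,
    ← CfsgLib.OrthCrit.even_sub_finrank_inf_map hnd (CfsgLib.OrthCrit.regular_of_two_ne_zero h2) h0.1
      (by have := h0.2; rw [finrank_fintype_fun_eq_card, hι] at this; omega) hι o]
  have e : U0.map (Matrix.mulVecLin ((scal c * (o : GL ι F) : GL ι F) : Matrix ι ι F)) =
      U0.map (Matrix.mulVecLin ((o : GL ι F) : Matrix ι ι F)) := by
    rw [show Matrix.mulVecLin ((scal c * (o : GL ι F) : GL ι F) : Matrix ι ι F) =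
      (c : F) • Matrix.mulVecLin ((o : GL ι F) : Matrix ι ι F) from LinearMap.ext fun x => by
        rw [Matrix.mulVecLin_apply, Units.val_mul, ← Matrix.mulVec_mulVec, scal_mulVec]; rfl,
      Submodule.map_smul _ _ _ c.ne_zero]
  rw [e]

/-- A similarity fixing `U0` does not change the parity. -/
theorem finrank_fix {g : GL ι F} {U0 W : Submodule F (ι → F)}
    (hfix : U0.map (Matrix.mulVecLin (g : Matrix ι ι F)) = U0) :
    finrank F ↥(U0 ⊓ W.map (Matrix.mulVecLin (g : Matrix ι ι F))) = finrank F ↥(U0 ⊓ W) := by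
  have hinj : Function.Injective (Matrix.mulVecLin (g : Matrix ι ι F)) := fun x y hxy => by
    have h := congrArg (fun a => ((g⁻¹ : GL ι F) : Matrix ι ι F) *ᵥ a) hxy
    simpa [Matrix.mulVec_mulVec, ← Units.val_mul] using h
  conv_lhs => rw [← hfix, ← Submodule.map_inf _ hinj]
  exact ((Submodule.equivMapOfInjective _ hinj _).finrank_eq).symm

end CfsgLib.PGOQuot
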