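import Cfsg.Agent.Lib.PGOQuot.Invariants

/-!
The spinor norm of the torus element scaling several hyperbolic pairs by `ν`, `ν⁻¹`.
-/

set_option autoImplicit false

namespace CfsgLib.PGOQuot

open Matrix Cfsg QuadraticMap Module
open CfsgLib.OrthSpinor

variable {ι : Type} [Fintype ι] [DecidableEq ι] {F : Type*} [Field F] [Fintype F]
variable {Q : QuadraticForm F (ι → F)}

/-- Two reflections scaling one hyperbolic pair. -/
theorem exists_pair_scale (h2 : (2 : F) ≠ 0) {ν : F} (hν : ν ≠ 0) (hns : ¬ IsSquare ν) {e f : ι → F}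
    (he : Q e = 0) (hf : Q f = 0) (hef : polar Q e f = 1) :
    ∃ u : ↥(isometryGroup F ⇑Q), detHom u = 1 ∧ theta (Q := Q) 1 u = -1 ∧
      ∀ y, act Q u y = y + ((ν - 1) * polar Q f y) • e + ((ν⁻¹ - 1) * polar Q e y) • f := by
  have hQ : ∀ s : F, Q (e + s • f) = s := fun s => by
    rw [QuadraticMap.map_add (⇑Q), he, QuadraticMap.map_smul, hf, polar_smul_right, hef]
    simp
  have hp : ∀ (s : F) (y : ι → F), polar Q (e + s • f) y = polar Q e y + s * polar Q f y := fun s y => by
    rw [polar_add_left, polar_smul_left, smul_eq_mul]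
  have h1 : Q (e + (1 : F) • f) ≠ 0 := by rw [hQ]; exact one_ne_zero
  have h3 : Q (e + ν • f) ≠ 0 := by rw [hQ]; exact hν
  refine ⟨reflection h1 * reflection h3,
    by rw [map_mul, detHom_reflection, detHom_reflection, neg_mul_neg, one_mul], ?_, fun y => ?_⟩
  · rw [map_mul, theta_reflection_of_square h2 one_ne_zero h1 (by rw [hQ, mul_one]; exact IsSquare.one),
      theta_reflection_of_nonsquare h2 one_ne_zero h3 (by rwa [hQ, one_mul]), mul_one]
  · rw [act_mul, act_reflection h1, act_reflection h3, hp, hQ, hQ]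
    simp only [polar_sub_right, polar_smul_right, hp, smul_eq_mul, polar_add_right,
      CfsgLib.Classical.Quad.polar_self', he, hf, mul_zero, hef, polar_comm Q f e]
    match_scalars <;> field_simp <;> ring

/-- The product over a family of pairwise orthogonal hyperbolic pairs. -/
theorem exists_torus (h2 : (2 : F) ≠ 0) {ν : F} (hν : ν ≠ 0) (hns : ¬ IsSquare ν) {κ : Type}
    [DecidableEq κ] (e f : κ → ι → F) (he : ∀ i, Q (e i) = 0) (hf : ∀ i, Q (f i) = 0)
    (hef : ∀ i j, polar Q (e i) (f j) = if i = j then 1 else 0)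
    (hee : ∀ i j, polar Q (e i) (e j) = 0) (hff : ∀ i j, polar Q (f i) (f j) = 0) (s : Finset κ) :
    ∃ u : ↥(isometryGroup F ⇑Q), detHom u = 1 ∧ theta (Q := Q) 1 u = (-1) ^ s.card ∧
      ∀ y, act Q u y = y + ∑ i ∈ s,
        (((ν - 1) * polar Q (f i) y) • e i + ((ν⁻¹ - 1) * polar Q (e i) y) • f i) := by
  induction s using Finset.induction_on with
  | empty => exact ⟨1, map_one _, by simp, fun y => by simp⟩
  | insert j s hj ih =>
    obtain ⟨u, hu1, hu2, hu3⟩ := ih
    obtain ⟨p, hp1, hp2, hp3⟩ := exists_pair_scale (Q := Q) h2 hν hns (he j) (hf j)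
      (by rw [hef, if_pos rfl])
    refine ⟨p * u, by rw [map_mul, hp1, hu1, one_mul], ?_, fun y => ?_⟩
    · rw [map_mul, hp2, hu2, Finset.card_insert_of_notMem hj, pow_succ']
    · rw [act_mul, hp3, hu3]
      have h1 : polar Q (f j) (∑ i ∈ s,
          (((ν - 1) * polar Q (f i) y) • e i + ((ν⁻¹ - 1) * polar Q (e i) y) • f i)) = 0 := by
        rw [← polarBilin_apply_apply, map_sum]
        refine Finset.sum_eq_zero fun i hi => ?_
        have hij : i ≠ j := fun h => hj (h ▸ hi)
        simp [polar_comm Q (f j) (e i), hef, hij, hff]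
      have h3 : polar Q (e j) (∑ i ∈ s,
          (((ν - 1) * polar Q (f i) y) • e i + ((ν⁻¹ - 1) * polar Q (e i) y) • f i)) = 0 := by
        rw [← polarBilin_apply_apply, map_sum]
        refine Finset.sum_eq_zero fun i hi => ?_
        have hij : j ≠ i := fun h => hj (h ▸ hi)
        simp [hef, hij, hee]
      rw [polar_add_right, polar_add_right, h1, h3, add_zero, add_zero, Finset.sum_insert hj]
      abel

/-- A dichotomy for signs: `(-1)^k`. -/
theorem neg_one_pow_units (k : ℕ) : (Even k → (-1 : ℤˣ) ^ k = 1) ∧ (Odd k → (-1 : ℤˣ) ^ k = -1) :=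
  ⟨fun h => h.neg_one_pow, fun h => h.neg_one_pow⟩

end CfsgLib.PGOQuot
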