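import Cfsg.Agent.Lib.PGOQuot.Quotients
import Cfsg.Agent.Lib.PGOQuot.Split
import Cfsg.Agent.Lib.PGOQuot.Torus
import Cfsg.Agent.S0790

/-!
The plus type model.
-/

set_option autoImplicit false

namespace CfsgLib.PGOQuot.Plus

open Matrix Cfsg QuadraticMap Module
open CfsgLib.OrthSpinor
open CfsgLib.OrthCrit (plusForm halfSpace)

universe u

variable {F : Type u} [Field F] [Fintype F] {m : ℕ}

theorem two_ne_zero' (hodd : Odd (Fintype.card F)) : (2 : F) ≠ 0 := fun h => by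
  haveI : CharP F 2 := CharTwo.of_one_ne_zero_of_two_eq_zero one_ne_zero h
  have he : Fintype.card F % 2 = 0 := FiniteField.even_card_of_char_two (ringChar.eq F 2)
  have := Nat.odd_iff.mp hodd
  omega

/-- The hypotheses for the plus form. -/
def ctx (hodd : Odd (Fintype.card F)) (hm : 3 ≤ m) : Ctx (plusForm m F) where
  n := m
  hι := by simp; omega
  hn := hm
  h2 := two_ne_zero' hodd
  hnd := CfsgLib.OrthCrit.ndPolar_plusForm m

theorem diag_mulVec (ν : F) (v : Fin m ⊕ Fin m → F) (k : Fin m ⊕ Fin m) :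
    (Matrix.diagonal (Sum.elim (fun _ : Fin m => ν) fun _ : Fin m => (1 : F)) *ᵥ v) k =
      Sum.elim (fun i => ν * v (Sum.inl i)) (fun i => v (Sum.inr i)) k := by
  rw [Matrix.mulVec_diagonal]
  rcases k with i | i <;> simp

theorem exists_sim (hodd : Odd (Fintype.card F)) (hm : 3 ≤ m) :
    ∃ S : Ctx.Sim (ctx hodd hm), Ctx.th S.u = (-1) ^ m ∧
      (halfSpace F m).map (Matrix.mulVecLin ((S.g : GL (Fin m ⊕ Fin m) F) : Matrix (Fin m ⊕ Fin m) (Fin m ⊕ Fin m) F)) =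
        halfSpace F m := by
  classical
  set C := ctx (F := F) hodd hm
  obtain ⟨ν, hν, hns⟩ := exists_nonsquare' (F := F) C.h2
  set D : Matrix (Fin m ⊕ Fin m) (Fin m ⊕ Fin m) F :=
    Matrix.diagonal (Sum.elim (fun _ : Fin m => ν) fun _ : Fin m => (1 : F)) with hD
  have hdet : D.det = ν ^ m := by simp [hD, Fintype.prod_sum_type]
  let g : GL (Fin m ⊕ Fin m) F :=
    Matrix.GeneralLinearGroup.mkOfDetNeZero D (hdet ▸ pow_ne_zero _ hν)
  have hsim : ∀ v, plusForm m F ((g : Matrix (Fin m ⊕ Fin m) (Fin m ⊕ Fin m) F) *ᵥ v) = ((Units.mk0 ν hν : Fˣ) : F) * plusForm m F v := by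
    intro v
    show Cfsg.quadFormPlus m F (D *ᵥ v) = ν * Cfsg.quadFormPlus m F v
    simp only [Cfsg.quadFormPlus, hD, diag_mulVec, Sum.elim_inl, Sum.elim_inr, Finset.mul_sum, mul_assoc]
  let G : ↥(simG (plusForm m F)) := ⟨g, ⟨_, hsim⟩⟩
  have hmu : C.mu G = Units.mk0 ν hν := C.mu_eq hsim
  have heps : C.eps G = 1 := by
    rw [C.eps_apply, hmu, mul_inv_eq_one]
    exact Units.ext hdet
  obtain ⟨u, hu1, hu2, hu3⟩ := exists_torus (Q := plusForm m F) C.h2 hν hns
    (fun i => Pi.single (Sum.inl i) 1) (fun i => Pi.single (Sum.inr i) 1)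
    (fun i => by simp [Cfsg.quadFormPlus, Pi.single_apply])
    (fun i => by simp [Cfsg.quadFormPlus, Pi.single_apply])
    (fun i j => by simp [CfsgLib.OrthCrit.polar_plusForm, Pi.single_apply, eq_comm])
    (fun i j => by simp [CfsgLib.OrthCrit.polar_plusForm, Pi.single_apply])
    (fun i j => by simp [CfsgLib.OrthCrit.polar_plusForm, Pi.single_apply])
    (Finset.univ : Finset (Fin m))
  refine ⟨⟨G, ?_, heps, Units.mk0 ν hν, u, ?_⟩, by rw [hu2, Finset.card_univ, Fintype.card_fin], ?_⟩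
  · rw [Ctx.sq, MonoidHom.comp_apply, hmu, sqSign_eq_neg_one_iff]
    exact hns
  · refine Subtype.ext (gl_ext fun x => ?_)
    show ((g * g : GL (Fin m ⊕ Fin m) F) : Matrix (Fin m ⊕ Fin m) (Fin m ⊕ Fin m) F) *ᵥ x =
      ((scal (Units.mk0 ν hν) * (u : GL (Fin m ⊕ Fin m) F) : GL (Fin m ⊕ Fin m) F) : Matrix (Fin m ⊕ Fin m) (Fin m ⊕ Fin m) F) *ᵥ x
    rw [Units.val_mul, Units.val_mul, ← Matrix.mulVec_mulVec, ← Matrix.mulVec_mulVec, scal_mulVec]
    show D *ᵥ (D *ᵥ x) = ν • act (plusForm m F) u x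
    rw [hu3]
    funext k
    simp only [hD, diag_mulVec, Pi.smul_apply, Pi.add_apply, Finset.sum_apply, smul_eq_mul]
    rcases k with i | i
    · simp [CfsgLib.OrthCrit.polar_plusForm, Pi.single_apply]
      left
      ring
    · simp [CfsgLib.OrthCrit.polar_plusForm, Pi.single_apply]
      field_simp
      ring
  · refine Submodule.eq_of_le_of_finrank_eq ?_ ?_
    · rintro _ ⟨x, hx, rfl⟩
      have h : ∀ i, x (Sum.inr i) = 0 := fun i => congrFun (show _ = _ from hx) i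
      show LinearMap.funLeft F F Sum.inr (D *ᵥ x) = 0
      funext i
      simp [LinearMap.funLeft_apply, hD, diag_mulVec, h]
    · refine (Submodule.equivMapOfInjective _ ?_ _).finrank_eq.symm
      intro x y hxy
      have h := congrArg (fun a => ((g⁻¹ : GL (Fin m ⊕ Fin m) F) : Matrix (Fin m ⊕ Fin m) (Fin m ⊕ Fin m) F) *ᵥ a) hxy
      simpa [G, Matrix.mulVec_mulVec, ← Units.val_mul] using h

theorem preserves_iff_eps (hodd : Odd (Fintype.card F)) (hm : 3 ≤ m) (g : ↥(simG (plusForm m F))) :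
    PreservesSingularClasses (Cfsg.quadFormPlus m F) ((g : GL (Fin m ⊕ Fin m) F) : Matrix (Fin m ⊕ Fin m) (Fin m ⊕ Fin m) F) ↔
      (ctx (F := F) hodd hm).eps g = 1 := by
  set C := ctx (F := F) hodd hm
  obtain ⟨S, -, hfix⟩ := exists_sim (F := F) hodd hm
  have h0 := CfsgLib.OrthGeom.isMaxSing_halfSpace (K := F) (m := m)
  refine (preserves_iff (Q := plusForm m F) C.hnd C.hι (C.mu_spec g) h0).trans ?_
  have hsq1 : ∀ g' : ↥(simG (plusForm m F)), C.sq g' = 1 →
      (Even (m - finrank F ↥(halfSpace F m ⊓ (halfSpace F m).map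
        (Matrix.mulVecLin ((g' : GL (Fin m ⊕ Fin m) F) : Matrix (Fin m ⊕ Fin m) (Fin m ⊕ Fin m) F)))) ↔ C.eps g' = 1) := by
    intro g' hg'
    obtain ⟨c, o, rfl⟩ := C.exists_decomp hg'
    rw [map_mul, C.eps_scalSim, C.eps_isoToSim, one_mul]
    exact even_scal_mul_iff C.h2 C.hnd C.hι h0 c o
  rcases Int.units_eq_one_or (C.sq g) with h | h
  · exact hsq1 g h
  · have h' := hsq1 (S.g⁻¹ * g) (by rw [map_mul, map_inv, S.hsq, h]; decide)
    rw [map_mul, map_inv, S.heps, inv_one, one_mul] at h'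
    rw [← h']
    have e : ((g : GL (Fin m ⊕ Fin m) F) : Matrix (Fin m ⊕ Fin m) (Fin m ⊕ Fin m) F) =
        ((S.g : GL (Fin m ⊕ Fin m) F) : Matrix (Fin m ⊕ Fin m) (Fin m ⊕ Fin m) F) *
          (((S.g⁻¹ * g : ↥(simG (plusForm m F))) : GL (Fin m ⊕ Fin m) F) : Matrix (Fin m ⊕ Fin m) (Fin m ⊕ Fin m) F) := by
      rw [← Units.val_mul, ← Subgroup.coe_mul, mul_inv_cancel_left]
    rw [e, Matrix.mulVecLin_mul, Submodule.map_comp, finrank_fix hfix]
    exact Iff.rfl

theorem inndiag_eq (hodd : Odd (Fintype.card F)) (hm : 3 ≤ m) :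
    inndiagPOmegaPlus m F = ((ctx (F := F) hodd hm).eps.ker).map simAut := by
  set C := ctx (F := F) hodd hm
  have key := preserves_iff_eps (F := F) hodd hm
  exact autSubgroupOf_eq (Q := plusForm m F) _ C.eps.ker fun _ =>
    ⟨fun ⟨g, hg, hp, h⟩ => ⟨⟨g, hg⟩, (key ⟨g, hg⟩).mp hp, h⟩,
      fun ⟨g, hg, h⟩ => ⟨g, g.2, (key g).mpr hg, h⟩⟩

theorem th_negI (hodd : Odd (Fintype.card F)) (hm : 3 ≤ m) :
    ((Odd m ∧ Fintype.card F % 4 = 3) → Ctx.th (Ctx.negI (Q := plusForm m F)) = -1) ∧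
      (¬(Odd m ∧ Fintype.card F % 4 = 3) → Ctx.th (Ctx.negI (Q := plusForm m F)) = 1) := by
  have h : Ctx.th (Ctx.negI (Q := plusForm m F)) = 1 ↔ Fintype.card F ^ m % 4 = 1 :=
    (ctx (F := F) hodd hm).th_negI_eq_one_iff.trans (Cfsg.Agent.S0790.result rfl hodd m (by omega))
  have hq : Fintype.card F % 4 = 1 ∨ Fintype.card F % 4 = 3 := by
    have := Nat.odd_iff.mp hodd; omega
  constructor
  · rintro ⟨hmo, h3⟩
    rcases Int.units_eq_one_or (Ctx.th (Ctx.negI (Q := plusForm m F))) with h' | h'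
    · exfalso
      have := h.mp h'
      obtain ⟨k, rfl⟩ := hmo
      rw [Nat.pow_mod, h3, pow_add, pow_mul, Nat.mul_mod, Nat.pow_mod] at this
      norm_num at this
    · exact h'
  · intro hn
    refine h.mpr ?_
    rcases hq with hq | hq
    · rw [Nat.pow_mod, hq]; simp
    · obtain ⟨k, rfl⟩ : Even m := by
        rcases Nat.even_or_odd m with he | ho
        · exact he
        · exact absurd ⟨ho, hq⟩ hn
      rw [Nat.pow_mod, hq, ← two_mul, pow_mul, Nat.pow_mod]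
      norm_num

end CfsgLib.PGOQuot.Plus
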