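import Cfsg.Agent.Lib.PGOQuot.Quotients
import Cfsg.Agent.Lib.PGOQuot.Split
import Cfsg.Agent.Lib.PGOQuot.Torus
import Cfsg.Agent.S0791

/-!
The minus type model, and its classes of singular subspaces over the quadratic extension.
-/

set_option autoImplicit false

namespace CfsgLib.PGOQuot.Minus

open Matrix Cfsg QuadraticMap Module
open CfsgLib.OrthSpinor
open CfsgLib.OrthCrit (plusForm minusForm IsMaxSing)

universe u

variable {F : Type u} [Field F] {m : ℕ}

/-- The index type of the minus form. -/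
abbrev Idx (m : ℕ) : Type := (Fin m ⊕ Fin m) ⊕ Fin 2

/-- Anisotropy of the binary part. -/
abbrev Aniso (a b : F) : Prop := ∀ z₁ z₂ : F, z₁ ^ 2 + a * z₁ * z₂ + b * z₂ ^ 2 = 0 → z₁ = 0 ∧ z₂ = 0

theorem disc_ne (h2 : (2 : F) ≠ 0) {a b : F} (hab : Aniso a b) : 4 * b - a ^ 2 ≠ 0 := by
  intro h
  exact h2 (hab (-a) 2 (by linear_combination h)).2

variable [Fintype F]

theorem two_ne_zero' (hodd : Odd (Fintype.card F)) : (2 : F) ≠ 0 := fun h => by
  haveI : CharP F 2 := CharTwo.of_one_ne_zero_of_two_eq_zero one_ne_zero h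
  have he : Fintype.card F % 2 = 0 := FiniteField.even_card_of_char_two (ringChar.eq F 2)
  have := Nat.odd_iff.mp hodd
  omega

/-- The hypotheses for the minus form. -/
def ctx (hodd : Odd (Fintype.card F)) (hm : 3 ≤ m) {a b : F} (hab : Aniso a b) :
    Ctx (minusForm m F a b) where
  n := m + 1
  hι := by simp; omega
  hn := by omega
  h2 := two_ne_zero' hodd
  hnd := CfsgLib.OrthCrit.ndPolar_minusForm m a b hab fun h => absurd h (two_ne_zero' hodd)

/-- The matrix of multiplication by `w₁ + w₂ θ`. -/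
def mulMat (a b w₁ w₂ : F) : Matrix (Fin 2) (Fin 2) F := !![w₁, -(b * w₂); w₂, w₁ + a * w₂]

/-- The similarity matrix. -/
def simMat (a b w₁ w₂ : F) (ν : F) : Matrix (Idx m) (Idx m) F :=
  Matrix.fromBlocks (Matrix.diagonal (Sum.elim (fun _ : Fin m => ν) fun _ : Fin m => (1 : F))) 0 0
    (mulMat a b w₁ w₂)

omit [Fintype F] in
theorem simMat_mulVec (a b w₁ w₂ ν : F) (v : Idx m → F) :
    simMat (m := m) a b w₁ w₂ ν *ᵥ v = Sum.elim
      (Sum.elim (fun i => ν * v (.inl (.inl i))) fun i => v (.inl (.inr i)))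
      ![w₁ * v (.inr 0) + -(b * w₂) * v (.inr 1), w₂ * v (.inr 0) + (w₁ + a * w₂) * v (.inr 1)] := by
  funext k
  rw [simMat, Matrix.fromBlocks_mulVec]
  rcases k with (i | i) | i
  · simp [Matrix.mulVec_diagonal]
  · simp [Matrix.mulVec_diagonal]
  · fin_cases i <;> simp [mulMat, Matrix.mulVec, dotProduct, Fin.sum_univ_two]

omit [Fintype F] in
theorem polar_inr (a b : F) (v x : Idx m → F) (h : ∀ k, v (.inl k) = 0) :
    polar (⇑(minusForm m F a b)) v x = 2 * (v (.inr 0) * x (.inr 0)) +
      a * (v (.inr 0) * x (.inr 1) + v (.inr 1) * x (.inr 0)) + 2 * b * (v (.inr 1) * x (.inr 1)) := by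
  rw [CfsgLib.OrthCrit.polar_minusForm, CfsgLib.OrthCrit.polar_plusForm]
  simp [h]

theorem exists_sim (hodd : Odd (Fintype.card F)) (hm : 3 ≤ m) {a b : F} (hab : Aniso a b) :
    ∃ S : Ctx.Sim (ctx hodd hm hab), Ctx.th S.u = (-1) ^ (m + 1) := by
  classical
  set C := ctx (F := F) hodd hm hab
  obtain ⟨ν, hν, hns⟩ := exists_nonsquare' (F := F) C.h2
  obtain ⟨s, t, hst⟩ := binary_universal (F := F) C.h2 one_ne_zero (disc_ne C.h2 hab) (4 * ν)
  obtain ⟨w₁, hw₁⟩ : ∃ w₁, 2 * w₁ + a * t = s :=
    ⟨(s - a * t) / 2, by rw [mul_div_cancel₀ _ C.h2]; ring⟩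
  have hw : w₁ ^ 2 + a * w₁ * t + b * t ^ 2 = ν := by
    refine mul_left_cancel₀ (mul_ne_zero C.h2 C.h2) ?_
    subst hw₁
    linear_combination hst
  set D : Matrix (Idx m) (Idx m) F := simMat a b w₁ t ν with hD
  have hdet : D.det = ν ^ (m + 1) := by
    rw [hD, simMat, Matrix.det_fromBlocks_zero₂₁, Matrix.det_diagonal, mulMat, Matrix.det_fin_two_of,
      Fintype.prod_sum_type]
    simp only [Sum.elim_inl, Sum.elim_inr, Finset.prod_const, Finset.card_univ, Fintype.card_fin, one_pow,
      mul_one, pow_succ]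
    linear_combination ν ^ m * hw
  let g : GL (Idx m) F := Matrix.GeneralLinearGroup.mkOfDetNeZero D (hdet ▸ pow_ne_zero _ hν)
  have hsim : ∀ v, minusForm m F a b ((g : Matrix (Idx m) (Idx m) F) *ᵥ v) =
      ((Units.mk0 ν hν : Fˣ) : F) * minusForm m F a b v := by
    intro v
    show Cfsg.quadFormMinus m F a b (D *ᵥ v) = ν * Cfsg.quadFormMinus m F a b v
    simp only [Cfsg.quadFormMinus, hD, simMat_mulVec, Sum.elim_inl, Sum.elim_inr, mul_add, Finset.mul_sum,
      Matrix.cons_val_zero, Matrix.cons_val_one, mul_assoc]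
    rw [← hw]
    ring
  let G : ↥(simG (minusForm m F a b)) := ⟨g, ⟨_, hsim⟩⟩
  have hmu : C.mu G = Units.mk0 ν hν := C.mu_eq hsim
  have heps : C.eps G = 1 := by
    rw [C.eps_apply, hmu, mul_inv_eq_one]
    exact Units.ext hdet
  obtain ⟨u, hu1, hu2, hu3⟩ := exists_torus (Q := minusForm m F a b) C.h2 hν hns
    (fun i => Pi.single (Sum.inl (Sum.inl i)) 1) (fun i => Pi.single (Sum.inl (Sum.inr i)) 1)
    (fun i => by simp [Cfsg.quadFormMinus, Pi.single_apply])
    (fun i => by simp [Cfsg.quadFormMinus, Pi.single_apply])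
    (fun i j => by simp [CfsgLib.OrthCrit.polar_minusForm, CfsgLib.OrthCrit.polar_plusForm, Pi.single_apply, eq_comm])
    (fun i j => by simp [CfsgLib.OrthCrit.polar_minusForm, CfsgLib.OrthCrit.polar_plusForm, Pi.single_apply])
    (fun i j => by simp [CfsgLib.OrthCrit.polar_minusForm, CfsgLib.OrthCrit.polar_plusForm, Pi.single_apply])
    (Finset.univ : Finset (Fin m))
  set e : Idx m → F := Sum.elim (fun _ => 0) ![1, 0] with he
  set w : Idx m → F := Sum.elim (fun _ => 0) ![w₁, t] with hwdef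
  have hQe : minusForm m F a b e = 1 := by simp [he, Cfsg.quadFormMinus]
  have hQw : minusForm m F a b w = ν := by
    simp [hwdef, Cfsg.quadFormMinus]
    linear_combination hw
  have he0 : minusForm m F a b e ≠ 0 := by rw [hQe]; exact one_ne_zero
  have hw0 : minusForm m F a b w ≠ 0 := by rw [hQw]; exact hν
  refine ⟨⟨G, ?_, heps, Units.mk0 ν hν, reflection hw0 * reflection he0 * u, ?_⟩, ?_⟩
  · rw [Ctx.sq, MonoidHom.comp_apply, hmu, sqSign_eq_neg_one_iff]
    exact hns
  · refine Subtype.ext (gl_ext fun x => ?_)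
    show ((g * g : GL (Idx m) F) : Matrix (Idx m) (Idx m) F) *ᵥ x =
      ((scal (Units.mk0 ν hν) * ((reflection hw0 * reflection he0 * u :
        ↥(isometryGroup F ⇑(minusForm m F a b))) : GL (Idx m) F) : GL (Idx m) F) : Matrix (Idx m) (Idx m) F) *ᵥ x
    rw [Units.val_mul, Units.val_mul, ← Matrix.mulVec_mulVec, ← Matrix.mulVec_mulVec, scal_mulVec]
    show D *ᵥ (D *ᵥ x) = ν • act (minusForm m F a b) (reflection hw0 * reflection he0 * u) x
    rw [act_mul, act_mul, act_reflection hw0, act_reflection he0, hu3, hQe, hQw,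
      polar_inr a b e _ (fun k => by simp [he]), polar_inr a b w _ (fun k => by simp [hwdef])]
    funext k
    simp only [hD, simMat_mulVec, Pi.smul_apply, Pi.add_apply, Pi.sub_apply, Finset.sum_apply, smul_eq_mul]
    rcases k with (i | i) | i
    · simp [CfsgLib.OrthCrit.polar_minusForm, CfsgLib.OrthCrit.polar_plusForm, Pi.single_apply, he, hwdef]
      left
      ring
    · simp [CfsgLib.OrthCrit.polar_minusForm, CfsgLib.OrthCrit.polar_plusForm, Pi.single_apply, he, hwdef]
      field_simp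
      ring
    · fin_cases i <;>
        simp [CfsgLib.OrthCrit.polar_minusForm, CfsgLib.OrthCrit.polar_plusForm, Pi.single_apply, he, hwdef] <;>
        field_simp <;> rw [← hw] <;> ring
  · rw [map_mul, map_mul, hu2, Finset.card_univ, Fintype.card_fin,
      theta_reflection_of_nonsquare C.h2 one_ne_zero hw0 (by rwa [hQw, one_mul]),
      theta_reflection_of_square C.h2 one_ne_zero he0 (by rw [hQe, mul_one]; exact IsSquare.one), one_mul,
      pow_succ']

/-! ### Over the quadratic extension -/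

section Ext

variable {K : Type u} [Field K] [Algebra F K]

omit [Fintype F] in
theorem minusForm_map (a b : F) (y : Idx m → F) :
    minusForm m K (algebraMap F K a) (algebraMap F K b) (algebraMap F K ∘ y) =
      algebraMap F K (minusForm m F a b y) := by
  simp [Cfsg.quadFormMinus, map_sum]

omit [Fintype F] in
theorem map_mulVec (g : Matrix (Idx m) (Idx m) F) (y : Idx m → F) :
    g.map (algebraMap F K) *ᵥ (algebraMap F K ∘ y) = algebraMap F K ∘ (g *ᵥ y) := by
  funext k
  exact ((algebraMap F K).map_mulVec g y k).symm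

omit [Fintype F] in
theorem sim_map (hK : finrank F K = 2) {a b : F} {g : Matrix (Idx m) (Idx m) F} {c : F}
    (hg : ∀ v, minusForm m F a b (g *ᵥ v) = c * minusForm m F a b v) (x : Idx m → K) :
    minusForm m K (algebraMap F K a) (algebraMap F K b) (g.map (algebraMap F K) *ᵥ x) =
      algebraMap F K c * minusForm m K (algebraMap F K a) (algebraMap F K b) x := by
  haveI : Module.Finite F K := Module.finite_of_finrank_eq_succ hK
  let B := Module.finBasisOfFinrankEq F K hK
  set QK := minusForm m K (algebraMap F K a) (algebraMap F K b) with hQK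
  obtain ⟨y, z, rfl⟩ : ∃ y z : Idx m → F,
      B 0 • (algebraMap F K ∘ y) + B 1 • (algebraMap F K ∘ z) = x := by
    refine ⟨fun k => B.repr (x k) 0, fun k => B.repr (x k) 1, funext fun k => ?_⟩
    have h := B.sum_repr (x k)
    rw [Fin.sum_univ_two, Algebra.smul_def, Algebra.smul_def] at h
    simp only [Pi.add_apply, Pi.smul_apply, Function.comp_apply, smul_eq_mul]
    linear_combination h
  have hp : ∀ y z : Idx m → F, polar QK (algebraMap F K ∘ y) (algebraMap F K ∘ z) =
      algebraMap F K (polar (minusForm m F a b) y z) := by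
    intro y z
    simp only [polar, hQK, map_sub]
    rw [← minusForm_map, ← minusForm_map, ← minusForm_map]
    congr 3
    funext k
    simp
  have hpg : ∀ y z, polar (minusForm m F a b) (g *ᵥ y) (g *ᵥ z) = c * polar (minusForm m F a b) y z := by
    intro y z
    simp only [polar, ← Matrix.mulVec_add, hg]
    ring
  simp only [Matrix.mulVec_add, Matrix.mulVec_smul, map_mulVec, QuadraticMap.map_add (⇑QK),
    QuadraticMap.map_smul, polar_smul_left, polar_smul_right, hp, hpg, smul_eq_mul]
  simp only [hQK, minusForm_map, hg, map_mul]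
  ring

theorem isSquare_algebraMap (hodd : Odd (Fintype.card F)) (hK : finrank F K = 2) (c : F) :
    IsSquare (algebraMap F K c) := by
  by_cases hc : c = 0
  · simp [hc]
  haveI : Module.Finite F K := Module.finite_of_finrank_eq_succ hK
  haveI : Finite K := Module.finite_of_finite F
  haveI := Fintype.ofFinite K
  have hcard : Fintype.card K = Fintype.card F ^ 2 := by rw [Module.card_eq_pow_finrank (K := F) (V := K), hK]
  have hchK : ringChar K ≠ 2 := fun h => by
    haveI : CharP K 2 := ringChar.of_eq h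
    refine two_ne_zero' hodd ((algebraMap F K).injective ?_)
    rw [map_ofNat, map_zero]
    exact CharTwo.two_eq_zero
  refine (FiniteField.isSquare_iff hchK (by simpa using hc)).mpr ?_
  obtain ⟨k, hk⟩ := hodd
  have h1 : c ^ (2 * k) = 1 := by
    have := FiniteField.pow_card_sub_one_eq_one c hc
    rwa [hk, Nat.add_sub_cancel] at this
  rw [hcard, hk, show (2 * k + 1) ^ 2 / 2 = 2 * k * (k + 1) by
    rw [show (2 * k + 1) ^ 2 = 2 * (2 * k * (k + 1)) + 1 by ring]; omega, pow_mul, ← map_pow, h1, map_one,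
    one_pow]

/-- The parametrisation of a maximal singular subspace over `K`. -/
def splitMap (m : ℕ) (θ : K) : (Fin m → K) × K →ₗ[K] (Idx m → K) where
  toFun p := Sum.elim (Sum.elim p.1 0) ![-θ * p.2, p.2]
  map_add' p p' := by
    funext k
    rcases k with (i | i) | i
    · simp
    · simp
    · fin_cases i <;> simp <;> ring
  map_smul' c p := by
    funext k
    rcases k with (i | i) | i
    · simp
    · simp
    · fin_cases i <;> simp <;> ring

/-- Preservation of the classes over a quadratic extension is properness. -/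
theorem preserves_map_iff (hodd : Odd (Fintype.card F)) (hm : 3 ≤ m) {a b : F} (hab : Aniso a b)
    (hK : finrank F K = 2) (g : ↥(simG (minusForm m F a b))) :
    PreservesSingularClasses (Cfsg.quadFormMinus m K (algebraMap F K a) (algebraMap F K b))
      (((g : GL (Idx m) F) : Matrix (Idx m) (Idx m) F).map (algebraMap F K)) ↔
        (ctx hodd hm hab).eps g = 1 := by
  set C := ctx (F := F) hodd hm hab
  set φ := algebraMap F K with hφ
  set QK := minusForm m K (φ a) (φ b)
  have h2 : (2 : K) ≠ 0 := fun h => C.h2 (φ.injective (by rw [map_ofNat, map_zero]; exact h))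
  obtain ⟨s, hs⟩ := isSquare_algebraMap (K := K) hodd hK (a ^ 2 - 4 * b)
  rw [map_sub, map_pow, map_mul, map_ofNat] at hs
  obtain ⟨θ, hθ⟩ : ∃ θ : K, 2 * θ = φ a + s := ⟨(φ a + s) / 2, mul_div_cancel₀ _ h2⟩
  have hroot : θ ^ 2 - φ a * θ + φ b = 0 := by
    refine mul_left_cancel₀ (mul_ne_zero h2 h2) ?_
    linear_combination (2 * θ - φ a + s) * hθ - hs
  have hnd : CfsgLib.Classical.Quad.NDPolar QK := by
    intro x hx
    have hl : x ∘ Sum.inl = 0 := CfsgLib.OrthCrit.ndPolar_plusForm m _ fun y => by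
      have h := hx (Sum.elim y 0)
      simpa [QK, CfsgLib.OrthCrit.polar_minusForm] using h
    have h0 := hx (Pi.single (Sum.inr 0) 1)
    have h1 := hx (Pi.single (Sum.inr 1) 1)
    simp [QK, CfsgLib.OrthCrit.polar_minusForm, CfsgLib.OrthCrit.polar_plusForm, Pi.single_apply] at h0 h1
    have hd : (4 : K) * φ b - φ a ^ 2 ≠ 0 := by
      have := (map_ne_zero φ).mpr (disc_ne C.h2 hab)
      rwa [map_sub, map_pow, map_mul, map_ofNat] at this
    have hy : x (Sum.inr 1) = 0 := (mul_eq_zero.mp (show (4 * φ b - φ a ^ 2) * x (Sum.inr 1) = 0 by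
      linear_combination 2 * h1 - φ a * h0)).resolve_left hd
    rw [hy, mul_zero, add_zero] at h0
    funext k
    rcases k with i | i
    · exact congrFun hl i
    · fin_cases i
      · exact (mul_eq_zero.mp h0).resolve_left h2
      · exact hy
  set U0 := LinearMap.range (splitMap m θ) with hU0
  have h0 : IsMaxSing QK U0 := by
    refine ⟨?_, ?_⟩
    · rintro _ ⟨p, rfl⟩
      simp [QK, splitMap, Cfsg.quadFormMinus]
      linear_combination p.2 ^ 2 * hroot
    · rw [hU0, LinearMap.finrank_range_of_inj, finrank_prod, finrank_self, finrank_fintype_fun_eq_card,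
        finrank_fintype_fun_eq_card]
      · simp; omega
      · intro p p' h
        refine Prod.ext (funext fun i => ?_) ?_
        · exact congrFun h (Sum.inl (Sum.inl i))
        · exact congrFun h (Sum.inr 1)
  let gK : GL (Idx m) K := Matrix.GeneralLinearGroup.map φ (g : GL (Idx m) F)
  have hgK : ∀ x, QK ((gK : Matrix (Idx m) (Idx m) K) *ᵥ x) = φ (C.mu g) * QK x :=
    sim_map hK (C.mu_spec g)
  refine (preserves_iff (Q := QK) hnd C.hι hgK h0).trans ?_
  obtain ⟨r, hr⟩ := isSquare_algebraMap (K := K) hodd hK (C.mu g : F)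
  have hr0 : r ≠ 0 := fun h => (map_ne_zero φ).mpr (C.mu g).ne_zero (by rw [hφ, hr, h, mul_zero])
  set l : Kˣ := Units.mk0 r hr0
  have hmem : (scal l : GL (Idx m) K)⁻¹ * gK ∈ isometryGroup K ⇑QK := by
    intro x _
    show QK ((((scal l)⁻¹ * gK : GL (Idx m) K) : Matrix (Idx m) (Idx m) K) *ᵥ x) = QK x
    rw [← map_inv, Units.val_mul, ← Matrix.mulVec_mulVec, scal_mulVec, QuadraticMap.map_smul, hgK,
      smul_eq_mul, Units.val_inv_eq_inv_val, Units.val_mk0, hφ, hr]
    field_simp
  have hgeq : gK = scal l * ((⟨_, hmem⟩ : ↥(isometryGroup K ⇑QK)) : GL (Idx m) K) := by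
    rw [mul_inv_cancel_left]
  rw [show (gK : Matrix (Idx m) (Idx m) K) =
      ((scal l * ((⟨_, hmem⟩ : ↥(isometryGroup K ⇑QK)) : GL (Idx m) K) : GL (Idx m) K) :
        Matrix (Idx m) (Idx m) K) from congrArg Units.val hgeq,
    even_scal_mul_iff h2 hnd C.hι h0]
  have hdl : ((Matrix.GeneralLinearGroup.det (scal l : GL (Idx m) K) : Kˣ) : K) = φ ((C.mu g : F) ^ C.n) := by
    show Matrix.det (Matrix.scalar (Idx m) r) = _
    rw [Matrix.scalar_apply, Matrix.det_diagonal, Finset.prod_const, Finset.card_univ, C.hι, pow_mul,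
      map_pow, hφ, hr, _root_.sq]
  have hd : ((detHom (⟨_, hmem⟩ : ↥(isometryGroup K ⇑QK)) : Kˣ) : K) = φ (C.eps g : F) := by
    have h1 : Matrix.GeneralLinearGroup.det gK = Matrix.GeneralLinearGroup.det (scal l : GL (Idx m) K) *
        detHom (⟨_, hmem⟩ : ↥(isometryGroup K ⇑QK)) := by
      exact (congrArg (fun x : GL (Idx m) K => Matrix.GeneralLinearGroup.det x) hgeq).trans
        (map_mul Matrix.GeneralLinearGroup.det _ _)
    have h3 := congrArg Units.val h1
    rw [Units.val_mul, hdl] at h3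
    have h4 : ((Matrix.GeneralLinearGroup.det gK : Kˣ) : K) =
        φ ((Matrix.GeneralLinearGroup.det (g : GL (Idx m) F) : Fˣ) : F) :=
      (RingHom.map_det φ ((g : GL (Idx m) F) : Matrix (Idx m) (Idx m) F)).symm
    rw [h4] at h3
    rw [C.eps_apply, Units.val_mul, map_mul, h3, Units.val_inv_eq_inv_val, Units.val_pow_eq_pow_val,
      map_inv₀, mul_comm (φ _) (_ : K), mul_assoc, mul_inv_cancel₀ ((map_ne_zero φ).mpr (pow_ne_zero _
        (C.mu g).ne_zero)), mul_one]
  constructor
  · intro h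
    rw [h, Units.val_one, ← map_one φ] at hd
    exact Units.ext (φ.injective hd.symm)
  · intro h
    rw [h, Units.val_one, map_one] at hd
    exact Units.ext hd

end Ext

open Polynomial in
theorem inndiag_eq (hodd : Odd (Fintype.card F)) (hm : 3 ≤ m) {a b : F} (hab : Aniso a b) :
    inndiagPOmegaMinus m F a b = ((ctx (F := F) hodd hm hab).eps.ker).map simAut := by
  obtain ⟨ν, hν, hns⟩ := exists_nonsquare' (F := F) (two_ne_zero' hodd)
  set f : F[X] := X ^ 2 - C ν with hf
  have hdeg : f.natDegree = 2 := by rw [hf, natDegree_X_pow_sub_C]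
  have hirr : Irreducible f := by
    refine irreducible_of_degree_le_three_of_not_isRoot (by rw [hdeg]; simp) fun x hx => hns ⟨x, ?_⟩
    rw [hf, IsRoot, eval_sub, eval_pow, eval_X, eval_C, sub_eq_zero] at hx
    rw [← hx, _root_.sq]
  haveI : Fact (Irreducible f) := ⟨hirr⟩
  have hK : finrank F (AdjoinRoot f) = 2 := by
    rw [(AdjoinRoot.powerBasis hirr.ne_zero).finrank, AdjoinRoot.powerBasis_dim, hdeg]
  exact autSubgroupOf_eq (Q := minusForm m F a b) _ (ctx (F := F) hodd hm hab).eps.ker fun _ =>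
    ⟨fun ⟨g, hg, ⟨K, i1, i2, hK', hp⟩, h⟩ =>
      ⟨⟨g, hg⟩, (@preserves_map_iff F _ m _ K i1 i2 hodd hm a b hab hK' ⟨g, hg⟩).mp hp, h⟩,
      fun ⟨g, hg, h⟩ => ⟨g, g.2,
        ⟨AdjoinRoot f, inferInstance, inferInstance, hK, (preserves_map_iff hodd hm hab hK g).mpr hg⟩, h⟩⟩

theorem th_negI (hodd : Odd (Fintype.card F)) (hm : 3 ≤ m) {a b : F} (hab : Aniso a b) :
    ((Even m ∧ Fintype.card F % 4 = 3) → Ctx.th (Ctx.negI (Q := minusForm m F a b)) = 1) ∧
      (¬(Even m ∧ Fintype.card F % 4 = 3) → Ctx.th (Ctx.negI (Q := minusForm m F a b)) = -1) := by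
  have h : Ctx.th (Ctx.negI (Q := minusForm m F a b)) = 1 ↔ Fintype.card F ^ (m + 1) % 4 = 3 :=
    (ctx (F := F) hodd hm hab).th_negI_eq_one_iff.trans
      (Cfsg.Agent.S0791.result rfl hodd (m + 1) (by omega) a b hab)
  have hq : Fintype.card F % 4 = 1 ∨ Fintype.card F % 4 = 3 := by
    have := Nat.odd_iff.mp hodd; omega
  constructor
  · rintro ⟨⟨k, rfl⟩, h3⟩
    refine h.mpr ?_
    rw [Nat.pow_mod, h3, pow_add, ← two_mul, pow_mul, Nat.mul_mod, Nat.pow_mod]
    norm_num
  · intro hn
    rcases Int.units_eq_one_or (Ctx.th (Ctx.negI (Q := minusForm m F a b))) with h' | h'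
    · exfalso
      have hh := h.mp h'
      rcases hq with hq | hq
      · rw [Nat.pow_mod, hq] at hh; simp at hh
      · rcases Nat.even_or_odd m with he | ⟨k, rfl⟩
        · exact hn ⟨he, hq⟩
        · rw [Nat.pow_mod, hq, show 2 * k + 1 + 1 = 2 * (k + 1) by ring, pow_mul, Nat.pow_mod] at hh
          norm_num at hh
    · exact h'

end CfsgLib.PGOQuot.Minus
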