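import Cfsg.Agent.Lib.PGOQuot.Skew
import Cfsg.Agent.Lib.FormsDisc.Decomp

/-!
An improper similarity whose square is scalar commutes with an element of `SO` outside `Ω`.
-/

set_option autoImplicit false

namespace CfsgLib.PGOQuot

open Matrix Cfsg QuadraticMap Module
open CfsgLib.OrthSpinor

variable {ι : Type} [Fintype ι] [DecidableEq ι] {F : Type*} [Field F] [Fintype F]
variable {Q : QuadraticForm F (ι → F)}

namespace Ctx

variable (C : Ctx Q)

include C in
/-- The second quadratic form `pol(x, g x)` of a self-adjoint map is not a multiple of the first. -/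
theorem exists_self_orth (g : GL ι F) {d : F}
    (hsym : ∀ x y, polar Q ((g : Matrix ι ι F) *ᵥ x) y = polar Q x ((g : Matrix ι ι F) *ᵥ y))
    (hgg : ∀ x, (g : Matrix ι ι F) *ᵥ ((g : Matrix ι ι F) *ᵥ x) = d • x) (hns : ¬ IsSquare d) :
    ∃ v, Q v ≠ 0 ∧ polar Q v ((g : Matrix ι ι F) *ᵥ v) = 0 := by
  set B : LinearMap.BilinForm F (ι → F) :=
    LinearMap.compl₂ (polarBilin Q) (Matrix.mulVecLin (g : Matrix ι ι F)) with hB
  set R : QuadraticForm F (ι → F) := LinearMap.BilinMap.toQuadraticMap B with hR
  have hRa : ∀ x, R x = polar Q x ((g : Matrix ι ι F) *ᵥ x) := fun x => rfl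
  have hRp : ∀ x y, polar R x y = 2 * polar Q ((g : Matrix ι ι F) *ᵥ x) y := by
    intro x y
    rw [polar, hRa, hRa, hRa, Matrix.mulVec_add, polar_add_left, polar_add_right, polar_add_right,
      polar_comm Q y ((g : Matrix ι ι F) *ᵥ x), ← hsym x y]
    ring
  have hndR : CfsgLib.Classical.Quad.NDPolar R := by
    intro x hx
    have h1 : (g : Matrix ι ι F) *ᵥ x = 0 := C.hnd _ fun y => by
      have h := hx y
      rw [hRp] at h
      exact (mul_eq_zero.mp h).resolve_left C.h2
    have h3 := hgg x
    rw [h1, Matrix.mulVec_zero] at h3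
    exact (smul_eq_zero.mp h3.symm).resolve_left fun h => hns (h ▸ IsSquare.zero)
  by_contra hcon
  have hall : ∀ x, R x = 0 → Q x = 0 := fun x hx => by
    by_contra hQ
    exact hcon ⟨x, hQ, hx⟩
  obtain ⟨e, he0, he⟩ := CfsgLib.FormsDisc.exists_singular_of_three R
    (by rw [finrank_fintype_fun_eq_card]; have := C.five_le_card; omega)
  have hsing : ∀ z, R z = 0 → polar R e z = 0 → polar Q e z = 0 := by
    intro z hz hez
    have h1 : R (e + z) = 0 := by rw [QuadraticMap.map_add (⇑R), he, hz, hez]; simp
    have h3 := hall _ h1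
    rwa [QuadraticMap.map_add (⇑Q), hall e he, hall z hz, zero_add, zero_add] at h3
  have hkey : ∀ z, polar R e z = 0 → polar Q e z = 0 := by
    intro z hez
    by_cases hz : R z = 0
    · exact hsing z hz hez
    obtain ⟨f0, hf0⟩ : ∃ f0, polar R e f0 ≠ 0 := by
      by_contra! h
      exact he0 (hndR e h)
    have hzz : polar R z z ≠ 0 := by
      rw [CfsgLib.Classical.Quad.polar_self']; exact mul_ne_zero C.h2 hz
    set f := (polar R e f0)⁻¹ • (f0 - (polar R z f0 / polar R z z) • z) with hfdef
    have hef : polar R e f = 1 := by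
      rw [hfdef, polar_smul_right, polar_sub_right, polar_smul_right, hez, smul_eq_mul, smul_eq_mul,
        mul_zero, sub_zero, inv_mul_cancel₀ hf0]
    have hzf : polar R z f = 0 := by
      rw [hfdef, polar_smul_right, polar_sub_right, polar_smul_right, smul_eq_mul, smul_eq_mul,
        div_mul_cancel₀ _ hzz, sub_self, mul_zero]
    set L := (polarBilin R e).prod ((polarBilin R f).prod (polarBilin R z)) with hL
    have hmem : ∀ x, x ∈ LinearMap.ker L ↔ polar R e x = 0 ∧ polar R f x = 0 ∧ polar R z x = 0 := fun x => by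
      simp [hL, LinearMap.mem_ker, LinearMap.prod_apply]
    have hee : polar R e e = 0 := by rw [CfsgLib.Classical.Quad.polar_self', he, mul_zero]
    have hnd3 : ∀ x ∈ LinearMap.ker L, (∀ y ∈ LinearMap.ker L, polar R y x = 0) → x = 0 := by
      intro x hx hxy
      refine hndR x fun y => ?_
      obtain ⟨hxe, hxf, hxz⟩ := (hmem x).mp hx
      have hy : y - polar R e y • f - ((polar R f y - polar R e y * polar R f f) • e +
          (polar R z y / polar R z z) • z) ∈ LinearMap.ker L := by
        rw [hmem]
        simp only [polar_sub_right, polar_add_right, polar_smul_right, smul_eq_mul, hef, hee, hez,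
          polar_comm R f e, polar_comm R z e, hzf, polar_comm R f z, div_mul_cancel₀ _ hzz]
        refine ⟨by ring, by ring, by ring⟩
      have h1 := hxy _ hy
      simp only [polar_sub_left, polar_add_left, polar_smul_left, hxe, hxf, hxz, smul_zero, add_zero,
        sub_zero] at h1
      rw [polar_comm]; exact h1
    have hr : 2 ≤ finrank F ↥(LinearMap.ker L) := by
      have h := LinearMap.finrank_range_add_finrank_ker L
      have h' := Submodule.finrank_le (LinearMap.range L)
      rw [finrank_fintype_fun_eq_card] at h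
      rw [finrank_prod, finrank_prod, finrank_self] at h'
      have := C.five_le_card
      omega
    obtain ⟨x, hx, hQx⟩ := CfsgLib.OrthCrit.exists_norm_mem C.h2 hnd3 hr (-R z)
    obtain ⟨hex, -, hzx⟩ := (hmem x).mp hx
    have h1 := hsing (z + x) (by rw [QuadraticMap.map_add (⇑R), hzx, hQx]; ring)
      (by rw [polar_add_right, hez, hex, add_zero])
    have h3 := hsing (z - x) (by rw [OrthSpinor.map_sub', hzx, hQx]; ring)
      (by rw [polar_sub_right, hez, hex, sub_zero])
    rw [polar_add_right] at h1
    rw [polar_sub_right] at h3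
    exact (mul_eq_zero.mp (show (2 : F) * polar Q e z = 0 by linear_combination h1 + h3)).resolve_left C.h2
  have hge : (g : Matrix ι ι F) *ᵥ e ≠ 0 := by
    intro h
    have h3 := hgg e
    rw [h, Matrix.mulVec_zero] at h3
    exact he0 ((smul_eq_zero.mp h3.symm).resolve_left fun h => hns (h ▸ IsSquare.zero))
  obtain ⟨f1, hf1⟩ : ∃ f1, polar Q ((g : Matrix ι ι F) *ᵥ e) f1 ≠ 0 := by
    by_contra! h
    exact hge (C.hnd _ h)
  set k := polar Q e f1 / polar Q ((g : Matrix ι ι F) *ᵥ e) f1 with hk
  have hek : e = k • ((g : Matrix ι ι F) *ᵥ e) := by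
    rw [← sub_eq_zero]
    refine C.hnd _ fun x => ?_
    set s := polar Q ((g : Matrix ι ι F) *ᵥ e) x / polar Q ((g : Matrix ι ι F) *ᵥ e) f1 with hs
    have h := hkey (x - s • f1) (by
      rw [hRp, polar_sub_right, polar_smul_right, smul_eq_mul, hs, div_mul_cancel₀ _ hf1, sub_self,
        mul_zero])
    rw [polar_sub_right, polar_smul_right, smul_eq_mul] at h
    rw [polar_sub_left, polar_smul_left, smul_eq_mul, hk, ← h, hs]
    field_simp
  have h1 : (g : Matrix ι ι F) *ᵥ e = (k * d) • e := by
    conv_lhs => rw [hek, Matrix.mulVec_smul, hgg, smul_smul]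
  have h2 : ((1 : F) - k * (k * d)) • e = 0 := by
    rw [sub_smul, one_smul, mul_smul k (k * d), ← h1, ← hek, sub_self]
  have h3 := (smul_eq_zero.mp h2).resolve_right he0
  have hk0 : k ≠ 0 := fun h => by simp [h] at h3
  exact hns ⟨k⁻¹, by field_simp; linear_combination -h3⟩

/-- An element of `SO \ Ω` commuting with an improper similarity of scalar square. -/
theorem exists_commuting_z (g : ↥(simG Q)) (heps : C.eps g = -1) (c : Fˣ) (hgg : g * g = scalSim c) :
    ∃ o : ↥(isometryGroup F ⇑Q), detHom o = 1 ∧ th o = -1 ∧ g * isoToSim o = isoToSim o * g := by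
  have hne : (-1 : Fˣ) ≠ 1 := fun e => C.h2 (by
    have := congrArg Units.val e
    simp at this
    linear_combination -this)
  set G : Matrix ι ι F := ((g : GL ι F) : Matrix ι ι F) with hG
  have hG2 : ∀ x, G *ᵥ (G *ᵥ x) = (c : F) • x := fun x => by
    rw [← scal_mulVec c x, Matrix.mulVec_mulVec]
    exact congrArg (fun y : ↥(simG Q) => ((y : GL ι F) : Matrix ι ι F) *ᵥ x) hgg
  have hp : ∀ x y, polar Q (G *ᵥ x) (G *ᵥ y) = (C.mu g : F) * polar Q x y := by
    intro x y
    simp only [polar, ← Matrix.mulVec_add, hG, C.mu_spec]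
    ring
  have hadj : ∀ x y, (c : F) * polar Q (G *ᵥ x) y = (C.mu g : F) * polar Q x (G *ᵥ y) := by
    intro x y
    rw [← hp x (G *ᵥ y), hG2, polar_smul_right, smul_eq_mul]
  have hmu : (C.mu g : F) * C.mu g = (c : F) * c := by
    have h := congrArg C.mu hgg
    rw [map_mul, C.mu_scalSim] at h
    exact congrArg Units.val h
  have hmc : (C.mu g : F) = c := by
    rcases mul_self_eq_mul_self_iff.mp hmu with h | h
    · exact h
    · exfalso
      refine hne (heps.symm.trans (C.eps_eq_one_of_skew (g : GL ι F) (fun x y => ?_) g fun x => rfl))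
      have h1 := hadj x y
      rw [h] at h1
      exact mul_left_cancel₀ c.ne_zero (by linear_combination h1)
  have hsym : ∀ x y, polar Q (G *ᵥ x) y = polar Q x (G *ᵥ y) := fun x y =>
    mul_left_cancel₀ c.ne_zero (by rw [hadj, hmc])
  have hcomm : ∀ o : ↥(isometryGroup F ⇑Q), conjIso g o = o → g * isoToSim o = isoToSim o * g := by
    intro o ho
    apply Subtype.ext
    have h := congrArg (fun s : ↥(isometryGroup F ⇑Q) => (s : GL ι F)) ho
    simp only [conjIso_coe] at h
    exact mul_inv_eq_iff_eq_mul.mp h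
  by_cases hc : IsSquare (c : F)
  · obtain ⟨e, he⟩ := hc
    have he0 : e ≠ 0 := fun h => c.ne_zero (by rw [he, h, mul_zero])
    set L := Matrix.mulVecLin G with hL
    set P := LinearMap.ker (L - e • LinearMap.id) with hP
    set N := LinearMap.ker (L + e • LinearMap.id) with hN
    have memP : ∀ x, x ∈ P ↔ G *ᵥ x = e • x := fun x => by
      simp [hP, hL, LinearMap.mem_ker, sub_eq_zero]
    have memN : ∀ x, x ∈ N ↔ G *ᵥ x = -(e • x) := fun x => by
      simp [hN, hL, LinearMap.mem_ker, eq_neg_iff_add_eq_zero]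
    have hPN : ∀ x ∈ P, ∀ y ∈ N, polar Q x y = 0 := by
      intro x hx y hy
      have h := hsym x y
      rw [(memP x).mp hx, (memN y).mp hy, polar_smul_left, polar_neg_right, polar_smul_right,
        smul_eq_mul] at h
      exact (mul_eq_zero.mp (show (2 * e) * polar Q x y = 0 by linear_combination h)).resolve_left
        (mul_ne_zero C.h2 he0)
    have hdec : ∀ x, ∃ p ∈ P, ∃ q ∈ N, x = p + q := by
      intro x
      refine ⟨(2 : F)⁻¹ • (x + e⁻¹ • (G *ᵥ x)), ?_, (2 : F)⁻¹ • (x - e⁻¹ • (G *ᵥ x)), ?_, ?_⟩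
      · rw [memP, Matrix.mulVec_smul, Matrix.mulVec_add, Matrix.mulVec_smul, hG2, he]
        match_scalars <;> field_simp
      · rw [memN, Matrix.mulVec_smul, Matrix.mulVec_sub, Matrix.mulVec_smul, hG2, he]
        match_scalars <;> field_simp
      · have h2 := C.h2
        match_scalars <;> field_simp <;> ring
    have hPnd : ∀ x ∈ P, (∀ y ∈ P, polar Q y x = 0) → x = 0 := by
      intro x hx h
      refine C.hnd x fun y => ?_
      obtain ⟨p, hp', q, hq, rfl⟩ := hdec y
      rw [polar_add_right, hPN x hx q hq, add_zero, polar_comm, h p hp']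
    have hNnd : ∀ x ∈ N, (∀ y ∈ N, polar Q y x = 0) → x = 0 := by
      intro x hx h
      refine C.hnd x fun y => ?_
      obtain ⟨p, hp', q, hq, rfl⟩ := hdec y
      rw [polar_add_right, polar_comm Q x p, hPN p hp' x hx, zero_add, polar_comm, h q hq]
    have hsum : Fintype.card ι ≤ finrank F P + finrank F N := by
      have htop : P ⊔ N = ⊤ := eq_top_iff.mpr fun x _ => by
        obtain ⟨p, hp', q, hq, rfl⟩ := hdec x
        exact Submodule.add_mem_sup hp' hq
      have h := Submodule.finrank_add_le_finrank_add_finrank P N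
      rwa [htop, finrank_top, finrank_fintype_fun_eq_card] at h
    obtain ⟨S, hS, hSd, s, hs0, hSs⟩ : ∃ S : Submodule F (ι → F),
        (∀ x ∈ S, (∀ y ∈ S, polar Q y x = 0) → x = 0) ∧ 2 ≤ finrank F S ∧
          ∃ s : F, s ≠ 0 ∧ ∀ x ∈ S, G *ᵥ x = s • x := by
      by_cases h : 2 ≤ finrank F P
      · exact ⟨P, hPnd, h, e, he0, fun x hx => (memP x).mp hx⟩
      · exact ⟨N, hNnd, by have := C.five_le_card; omega, -e, neg_ne_zero.mpr he0, fun x hx => by
          rw [(memN x).mp hx, neg_smul]⟩
    obtain ⟨ν, hν, hns⟩ := exists_nonsquare' (F := F) C.h2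
    obtain ⟨v, hvS, hv⟩ := CfsgLib.OrthCrit.exists_norm_mem C.h2 hS hSd 1
    obtain ⟨w, hwS, hw⟩ := CfsgLib.OrthCrit.exists_norm_mem C.h2 hS hSd ν
    have hv0 : Q v ≠ 0 := hv ▸ one_ne_zero
    have hw0 : Q w ≠ 0 := hw ▸ hν
    have hfix : ∀ {x : ι → F} (hx : Q x ≠ 0), x ∈ S → conjIso g (reflection hx) = reflection hx := by
      intro x hx hxS
      obtain ⟨h', hh⟩ := C.conj_reflection_sim g hx
      rw [hh, reflection_congr (hSs x hxS) h', reflection_smul hx hs0]
    refine ⟨reflection hv0 * reflection hw0,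
      by rw [map_mul, detHom_reflection, detHom_reflection, neg_mul_neg, one_mul], ?_,
      hcomm _ (by rw [map_mul, hfix hv0 hvS, hfix hw0 hwS])⟩
    rw [map_mul, theta_reflection_of_square C.h2 one_ne_zero hv0 (by rw [hv, mul_one]; exact IsSquare.one),
      theta_reflection_of_nonsquare C.h2 one_ne_zero hw0 (by rwa [hw, one_mul]), mul_one]
  · obtain ⟨v, hv, hvg⟩ := C.exists_self_orth (g : GL ι F) hsym hG2 hc
    have hQw : Q (G *ᵥ v) = (c : F) * Q v := by rw [hG, C.mu_spec, hmc]
    have hw : Q (G *ᵥ v) ≠ 0 := by rw [hQw]; exact mul_ne_zero c.ne_zero hv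
    have hconjv : conjIso g (reflection hv) = reflection hw := by
      obtain ⟨h', hh⟩ := C.conj_reflection_sim g hv
      exact hh
    have hconjw : conjIso g (reflection hw) = reflection hv := by
      obtain ⟨h', hh⟩ := C.conj_reflection_sim g hw
      rw [hh, reflection_congr (hG2 v) h', reflection_smul hv c.ne_zero]
    have hswap : reflection hw * reflection hv = reflection hv * reflection hw := by
      have h := conj_reflection (reflection hv) hw
      rw [reflection_congr (act_reflection_of_ortho hv hvg) _, OrthSpinor.reflection_inv] at h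
      calc reflection hw * reflection hv
          = reflection hv * reflection hw * reflection hv * reflection hv := by rw [h]
        _ = _ := by rw [mul_assoc _ (reflection hv), reflection_mul_self, mul_one]
    refine ⟨reflection hv * reflection hw,
      by rw [map_mul, detHom_reflection, detHom_reflection, neg_mul_neg, one_mul], ?_,
      hcomm _ (by rw [map_mul, hconjv, hconjw, hswap])⟩
    rw [map_mul]
    by_cases hsq : IsSquare (Q v)
    · rw [theta_reflection_of_square C.h2 one_ne_zero hv (by rwa [one_mul]),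
        theta_reflection_of_nonsquare C.h2 one_ne_zero hw ?_, mul_one]
      rw [one_mul, hQw]
      intro h
      refine hc ?_
      have := h.mul hsq.inv
      rwa [mul_assoc, mul_inv_cancel₀ hv, mul_one] at this
    · rw [theta_reflection_of_nonsquare C.h2 one_ne_zero hv (by rwa [one_mul]),
        theta_reflection_of_square C.h2 one_ne_zero hw ?_, one_mul]
      rw [one_mul, hQw]
      exact CfsgLib.OrthSpinor.isSquare_mul_of_not hc hsq

end Ctx

end CfsgLib.PGOQuot
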