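import Cfsg.Agent.Lib.Orth.Spinor

/-!
Finite reduced rings: the norm equation `a ^ 2 - d b ^ 2 = ν`; trace forms `τ(x y)` on finite fields.
-/

set_option autoImplicit false

namespace CfsgLib.PGOQuot

open Matrix Module

universe u v

/-- In a finite reduced ring in which `2` is a unit, `a ^ 2 - d b ^ 2` takes every value (`d` a unit). -/
theorem exists_pell {R : Type u} [CommRing R] [Finite R] [IsReduced R] (h2 : IsUnit (2 : R)) {d : R}
    (hd : IsUnit d) (ν : R) : ∃ a b : R, a * a - d * (b * b) = ν := by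
  haveI : IsArtinianRing R := inferInstance
  have h : ∀ m : MaximalSpectrum R, ∃ p : (R ⧸ m.asIdeal) × (R ⧸ m.asIdeal),
      p.1 * p.1 - Ideal.Quotient.mk m.asIdeal d * (p.2 * p.2) = Ideal.Quotient.mk m.asIdeal ν := by
    intro m
    haveI := m.isMaximal
    haveI : Finite (R ⧸ m.asIdeal) := Finite.of_surjective _ Ideal.Quotient.mk_surjective
    let _ : Field (R ⧸ m.asIdeal) := Ideal.Quotient.field m.asIdeal
    let _ : Fintype (R ⧸ m.asIdeal) := Fintype.ofFinite _
    have h2' : (2 : R ⧸ m.asIdeal) ≠ 0 := by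
      have := h2.map (Ideal.Quotient.mk m.asIdeal)
      rw [map_ofNat] at this
      exact this.ne_zero
    obtain ⟨s, t, hst⟩ := CfsgLib.OrthSpinor.binary_universal h2' (one_ne_zero)
      (neg_ne_zero.mpr (hd.map (Ideal.Quotient.mk m.asIdeal)).ne_zero) (Ideal.Quotient.mk m.asIdeal ν)
    exact ⟨(s, t), by rw [← hst]; ring⟩
  choose p hp using h
  have hm : ∀ (f : ∀ m : MaximalSpectrum R, R ⧸ m.asIdeal) (m : MaximalSpectrum R),
      Ideal.Quotient.mk m.asIdeal ((IsArtinianRing.equivPi R).symm f) = f m := fun f m =>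
    congrFun ((IsArtinianRing.equivPi R).apply_symm_apply f) m
  refine ⟨(IsArtinianRing.equivPi R).symm fun m => (p m).1, (IsArtinianRing.equivPi R).symm fun m => (p m).2,
    (IsArtinianRing.equivPi R).injective (funext fun m => ?_)⟩
  set A := (IsArtinianRing.equivPi R).symm fun m => (p m).1 with hA
  set B := (IsArtinianRing.equivPi R).symm fun m => (p m).2 with hB
  show Ideal.Quotient.mk m.asIdeal (A * A - d * (B * B)) = Ideal.Quotient.mk m.asIdeal ν
  rw [map_sub, map_mul, map_mul, map_mul, hA, hB, hm, hm]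
  exact hp m

variable {F : Type u} [Field F]

/-- The Gram matrix of `c τ(x y)` on a field extension. -/
theorem det_gram_tau {L : Type v} [Field L] [Algebra F L] {κ : Type} [Fintype κ] [DecidableEq κ]
    (b : Basis κ F L) (τ : L →ₗ[F] F) (hτ : τ ≠ 0) (c : L) :
    (Matrix.of fun i j => τ (c * (b i * b j))).det =
        Algebra.norm F c * (Matrix.of fun i j => τ (b i * b j)).det ∧
      (Matrix.of fun i j => τ (b i * b j)).det ≠ 0 := by
  refine ⟨?_, fun h => hτ ?_⟩
  · rw [Algebra.norm_eq_matrix_det b, ← Matrix.det_transpose (Algebra.leftMulMatrix b c), ← Matrix.det_mul]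
    congr 1
    ext i j
    rw [Matrix.mul_apply, Matrix.of_apply, ← mul_assoc]
    conv_lhs => rw [← b.sum_repr (c * b i), Finset.sum_mul, map_sum]
    refine Finset.sum_congr rfl fun k _ => ?_
    rw [smul_mul_assoc, map_smul, smul_eq_mul, Matrix.transpose_apply, Algebra.leftMulMatrix_eq_repr_mul]
    rfl
  · obtain ⟨w, hw, hw0⟩ := Matrix.exists_mulVec_eq_zero_iff.mpr h
    set y := ∑ j, w j • b j with hy
    have hy0 : y ≠ 0 := fun e => hw (funext fun j => by
      have h1 : (∑ i, w i • b i) = 0 := e
      exact Fintype.linearIndependent_iff.mp b.linearIndependent w h1 j)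
    have hb : τ.comp (LinearMap.mulRight F y) = 0 := b.ext fun i => by
      have h1 := congrFun hw0 i
      simp only [Matrix.mulVec, dotProduct, Matrix.of_apply, Pi.zero_apply] at h1
      rw [LinearMap.comp_apply, LinearMap.mulRight_apply, LinearMap.zero_apply, hy, Finset.mul_sum, map_sum,
        ← h1]
      refine Finset.sum_congr rfl fun j _ => ?_
      rw [mul_smul_comm, map_smul, smul_eq_mul, mul_comm]
    refine LinearMap.ext fun x => ?_
    have h1 := LinearMap.congr_fun hb (x * y⁻¹)
    rwa [LinearMap.comp_apply, LinearMap.mulRight_apply, inv_mul_cancel_right₀ hy0] at h1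

end CfsgLib.PGOQuot
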