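import Cfsg.Agent.Lib.PGOQuot.Invariants
import Cfsg.Agent.Lib.Orth.SignSubgroup
import Cfsg.Agent.Lib.FormsDisc.Basic

/-!
The isometry negating a non-degenerate subspace and fixing its orthogonal: determinant and spinor sign.
-/

set_option autoImplicit false

namespace CfsgLib.PGOQuot

open Matrix Cfsg QuadraticMap Module
open CfsgLib.OrthSpinor

universe u

variable {ι : Type} [Fintype ι] [DecidableEq ι] {F : Type u} [Field F]

/-- The polar Gram matrix of a family of vectors. -/
def gramFam (Q : QuadraticForm F (ι → F)) {k : Type} (v : k → ι → F) : Matrix k k F :=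
  Matrix.of fun i j => polar Q (v i) (v j)

omit [Fintype ι] [DecidableEq ι] in
theorem exists_coeff {Q : QuadraticForm F (ι → F)} {k : Type} [Fintype k] [DecidableEq k] (v : k → ι → F)
    (hdet : (gramFam Q v).det ≠ 0) (x : ι → F) :
    ∃ c : k → F, ∀ j, polar Q (v j) (x - ∑ i, c i • v i) = 0 := by
  set b : k → F := fun j => polar Q (v j) x with hb
  refine ⟨(gramFam Q v)⁻¹ *ᵥ b, fun j => ?_⟩
  have h : gramFam Q v *ᵥ ((gramFam Q v)⁻¹ *ᵥ b) = b := by
    rw [Matrix.mulVec_mulVec, Matrix.mul_nonsing_inv _ (Ne.isUnit hdet), Matrix.one_mulVec]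
  have h' := congrFun h j
  rw [polar_sub_right, sub_eq_zero, ← polarBilin_apply_apply, ← polarBilin_apply_apply, map_sum]
  refine (congrFun hb j).symm.trans (h'.symm.trans ?_)
  show ∑ i, gramFam Q v j i * _ = _
  refine Finset.sum_congr rfl fun i _ => ?_
  rw [map_smul, smul_eq_mul, mul_comm]
  rfl

namespace Ctx

variable [Fintype F] {Q : QuadraticForm F (ι → F)} (C : Ctx Q)

include C in
theorem th_reflection {v : ι → F} (hv : Q v ≠ 0) :
    th (reflection hv) = -sqSign (Units.mk0 (Q v) hv) := by
  by_cases h : IsSquare (Q v)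
  · rw [(sqSign_eq_one_iff _).mpr h, th,
      theta_reflection_of_square C.h2 one_ne_zero hv (by rwa [one_mul])]
  · rw [(sqSign_eq_neg_one_iff _).mpr h, th,
      theta_reflection_of_nonsquare C.h2 one_ne_zero hv (by rwa [one_mul]), neg_neg]

include C in
/-- The involution of a non-degenerate subspace given by a family with invertible Gram matrix. -/
theorem exists_subspace_invol {k : Type} [Fintype k] [DecidableEq k] (v : k → ι → F)
    (hdet : (gramFam Q v).det ≠ 0) :
    ∃ g : ↥(isometryGroup F ⇑Q), detHom g = (-1) ^ Fintype.card k ∧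
      th g = (-1) ^ Fintype.card k * sqSign (Units.mk0 (2 : F) C.h2) ^ Fintype.card k *
        sqSign (Units.mk0 _ hdet) ∧
      (∀ i, act Q g (v i) = -v i) ∧ ∀ x, (∀ i, polar Q (v i) x = 0) → act Q g x = x := by
  classical
  set B : LinearMap.BilinForm F (ι → F) := polarBilin Q with hB
  have hBa : ∀ x y, B x y = polar Q x y := fun x y => rfl
  have hli : LinearIndependent F v := by
    rw [Fintype.linearIndependent_iff]
    intro c hc
    refine congrFun (Matrix.eq_zero_of_mulVec_eq_zero hdet (funext fun j => ?_))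
    have h : B (v j) (∑ i, c i • v i) = 0 := by rw [hc, map_zero]
    rw [map_sum] at h
    refine Eq.trans (Finset.sum_congr rfl fun i _ => ?_) h
    rw [map_smul, smul_eq_mul, mul_comm, hBa]
    rfl
  set L := Submodule.span F (Set.range v) with hL
  let bv : Basis k F ↥L := Basis.span hli
  have hperp : ∀ x, (∀ i, polar Q (v i) x = 0) → ∀ l ∈ L, B l x = 0 := by
    intro x hx l hl
    induction hl using Submodule.span_induction with
    | mem y hy => obtain ⟨i, rfl⟩ := hy; exact hx i
    | zero => rw [map_zero, LinearMap.zero_apply]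
    | add y z _ _ hy hz => rw [map_add, LinearMap.add_apply, hy, hz, add_zero]
    | smul a y _ hy => rw [map_smul, LinearMap.smul_apply, hy, smul_zero]
  set L' := B.orthogonal L with hL'
  have hcompl : IsCompl L L' := by
    refine ⟨?_, ?_⟩
    · rw [disjoint_iff, Submodule.eq_bot_iff]
      rintro x ⟨hx, hx'⟩
      obtain ⟨c, rfl⟩ := (Submodule.mem_span_range_iff_exists_fun F).mp hx
      have hc : c = 0 := Matrix.eq_zero_of_mulVec_eq_zero hdet (funext fun j => by
        have h : B (v j) (∑ i, c i • v i) = 0 :=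
          (LinearMap.BilinForm.mem_orthogonal_iff.mp hx') (v j) (Submodule.subset_span ⟨j, rfl⟩)
        rw [map_sum] at h
        refine Eq.trans (Finset.sum_congr rfl fun i _ => ?_) h
        rw [map_smul, smul_eq_mul, mul_comm, hBa]
        rfl)
      simp [hc]
    · rw [codisjoint_iff, eq_top_iff]
      intro x _
      obtain ⟨c, hc⟩ := exists_coeff v hdet x
      rw [← add_sub_cancel (∑ i, c i • v i) x]
      exact Submodule.add_mem_sup (Submodule.sum_mem _ fun i _ =>
        Submodule.smul_mem _ _ (Submodule.subset_span ⟨i, rfl⟩))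
        (LinearMap.BilinForm.mem_orthogonal_iff.mpr fun l hl => hperp _ hc l hl)
  let _ : Invertible (2 : F) := invertibleOfNonzero C.h2
  have hsymm : ∀ x y, B x y = B y x := fun x y => polar_comm Q x y
  obtain ⟨b₁, hb₁⟩ := LinearMap.BilinForm.exists_orthogonal_basis (B := B.restrict L)
    ⟨fun x y => hsymm _ _⟩
  obtain ⟨b₂, hb₂⟩ := LinearMap.BilinForm.exists_orthogonal_basis (B := B.restrict L')
    ⟨fun x y => hsymm _ _⟩
  rw [LinearMap.isOrthoᵢ_def] at hb₁ hb₂
  let b : Basis (Fin (finrank F ↥L) ⊕ Fin (finrank F ↥L')) F (ι → F) :=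
    (b₁.prod b₂).map (Submodule.prodEquivOfIsCompl L L' hcompl)
  have hbl : ∀ i, b (.inl i) = (b₁ i : ι → F) := fun i => by simp [b]
  have hbr : ∀ i, b (.inr i) = (b₂ i : ι → F) := fun i => by simp [b]
  have hbo : ∀ i j, i ≠ j → polar (⇑Q) (b i) (b j) = 0 := by
    rintro (i | i) (j | j) hij
    · rw [hbl, hbl]; exact hb₁ i j fun h => hij (by rw [h])
    · rw [hbl, hbr]; exact LinearMap.BilinForm.mem_orthogonal_iff.mp (b₂ j).2 _ (b₁ i).2
    · rw [hbl, hbr, polar_comm]; exact LinearMap.BilinForm.mem_orthogonal_iff.mp (b₂ i).2 _ (b₁ j).2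
    · rw [hbr, hbr]; exact hb₂ i j fun h => hij (by rw [h])
  have hne : ∀ i, Q (b i) ≠ 0 := by
    intro i h
    refine b.ne_zero i (C.hnd _ fun y => ?_)
    conv_lhs => rw [← b.sum_repr y, ← polarBilin_apply_apply, map_sum]
    refine Finset.sum_eq_zero fun j _ => ?_
    rw [map_smul, polarBilin_apply_apply, smul_eq_mul]
    rcases eq_or_ne i j with rfl | hij
    · rw [CfsgLib.Classical.Quad.polar_self', h, mul_zero, mul_zero]
    · rw [hbo i j hij, mul_zero]
  let s : Fin (finrank F ↥L) ⊕ Fin (finrank F ↥L') → ℤˣ := Sum.elim (fun _ => -1) fun _ => 1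
  have hcard : finrank F ↥L = Fintype.card k := finrank_span_eq_card hli
  set g := signIso C.h2 b hbo s with hg
  have hprod : ∀ {A : Type u} [CommGroup A] (φ : ↥(isometryGroup F ⇑Q) →* A),
      φ g = ∏ i : Fin (finrank F ↥L), φ (reflection (hne (.inl i))) := by
    intro A _ φ
    have hs : s = ∏ i : Fin (finrank F ↥L) ⊕ Fin (finrank F ↥L'), Pi.mulSingle i (s i) :=
      (Finset.univ_prod_mulSingle s).symm
    calc φ g = (φ.comp (signIso C.h2 b hbo)) (∏ i, Pi.mulSingle i (s i)) := by rw [← hs]; rfl
      _ = ∏ i, φ (signIso C.h2 b hbo (Pi.mulSingle i (s i))) := map_prod _ _ _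
      _ = _ := by
        rw [Fintype.prod_sum_type]
        simp only [s, Sum.elim_inl, Sum.elim_inr, Pi.mulSingle_one, map_one, Finset.prod_const_one,
          mul_one, signIso_single C.h2 b hbo _ (hne _)]
  refine ⟨g, ?_, ?_, fun i => ?_, fun x hx => ?_⟩
  · have h := hprod (A := Fˣ) detHom
    rw [h]
    simp [detHom_reflection, hcard]
  · have h := hprod (A := ULift.{u} ℤˣ) (MulEquiv.ulift.symm.toMonoidHom.comp (th (Q := Q)))
    have h' : th g = ∏ i : Fin (finrank F ↥L), th (reflection (hne (.inl i))) := by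
      have := congrArg MulEquiv.ulift h
      simpa [map_prod] using this
    rw [h']
    simp only [C.th_reflection]
    rw [Finset.prod_neg, Finset.card_univ, Fintype.card_fin,
      show ((-1 : ℤˣ)) ^ finrank F ↥L = (-1) ^ Fintype.card k by rw [hcard], mul_assoc, ← map_pow, ← map_prod,
      ← map_mul]
    congr 1
    obtain ⟨d, hd, hgd⟩ := CfsgLib.FormsDisc.gram_det_basis (B.restrict L) b₁ bv
    have hd1 : (Matrix.of fun i j => (B.restrict L) (b₁ i) (b₁ j)).det =
        2 ^ Fintype.card k * ∏ i : Fin (finrank F ↥L), Q (b (.inl i)) := by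
      rw [show (Matrix.of fun i j => (B.restrict L) (b₁ i) (b₁ j)) =
        Matrix.diagonal fun i => 2 * Q (b (.inl i)) from ?_]
      · rw [Matrix.det_diagonal, Finset.prod_mul_distrib, Finset.prod_const, Finset.card_univ,
          Fintype.card_fin]
        exact congrArg (· * _) (congrArg ((2 : F) ^ ·) hcard)
      ext i j
      rcases eq_or_ne i j with rfl | hij
      · rw [Matrix.diagonal_apply_eq, Matrix.of_apply, hbl]
        exact CfsgLib.Classical.Quad.polar_self' _
      · rw [Matrix.diagonal_apply_ne _ hij, Matrix.of_apply]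
        exact hb₁ i j hij
    have hd2 : (Matrix.of fun i j => (B.restrict L) (bv i) (bv j)) = gramFam Q v := by
      ext i j
      show polar Q (bv i : ι → F) (bv j : ι → F) = polar Q (v i) (v j)
      rw [Module.Basis.coe_span_apply, Module.Basis.coe_span_apply]
    rw [hd1, hd2] at hgd
    set P := ∏ i : Fin (finrank F ↥L), Units.mk0 (Q (b (.inl i))) (hne _)
    have hP : (P : F) = ∏ i : Fin (finrank F ↥L), Q (b (.inl i)) := by simp [P, Units.coe_prod]
    have hgd' : (Units.mk0 (2 : F) C.h2) ^ Fintype.card k * P =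
        Units.mk0 _ hdet * (Units.mk0 d hd * Units.mk0 d hd) := Units.ext (by
      simp only [Units.val_mul, Units.val_pow_eq_pow_val, Units.val_mk0, hP]
      linear_combination hgd)
    have h1 := congrArg sqSign hgd'
    rw [map_mul, map_mul, map_mul, Int.units_mul_self, mul_one] at h1
    rw [map_mul, ← h1, ← mul_assoc, Int.units_mul_self, one_mul]
  · rw [hg, act_signIso]
    have hmem : v i ∈ L := Submodule.subset_span ⟨i, rfl⟩
    have h : ∀ l ∈ L, signLin b s l = -l := by
      intro l hl
      have : (signLin b s).comp L.subtype = -L.subtype := b₁.ext fun j => by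
        simp only [LinearMap.comp_apply, Submodule.subtype_apply, LinearMap.neg_apply, ← hbl,
          signLin_apply, s, Sum.elim_inl]
        simp
      exact LinearMap.congr_fun this ⟨l, hl⟩
    exact h _ hmem
  · rw [hg, act_signIso]
    have hmem : x ∈ L' := LinearMap.BilinForm.mem_orthogonal_iff.mpr (hperp x hx)
    have : (signLin b s).comp L'.subtype = L'.subtype := b₂.ext fun j => by
      simp only [LinearMap.comp_apply, Submodule.subtype_apply, ← hbr, signLin_apply, s, Sum.elim_inr]
      simp
    exact LinearMap.congr_fun this ⟨x, hmem⟩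

end Ctx

end CfsgLib.PGOQuot
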