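import Cfsg.Agent.Lib.PGOQuot.GraphTwo
import Cfsg.Agent.Lib.PGOQuot.SubspaceInvol
import Cfsg.Agent.Lib.PGOQuot.CentRing

/-!
An isometry `h` of odd prime order prime to the characteristic: its fixed space, the ring generated by
`h + h⁻¹` on the complement, and a similarity with non-square multiplier commuting with `h`.
-/

set_option autoImplicit false
set_option linter.unusedSectionVars false
set_option linter.style.haveILetI false

namespace CfsgLib.PGOQuot

open Matrix Cfsg QuadraticMap Module Polynomial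
open CfsgLib.OrthSpinor

universe u

variable {ι : Type} [Fintype ι] [DecidableEq ι] {F : Type u} [Field F] [Fintype F]

namespace Ctx

variable {Q : QuadraticForm F (ι → F)}

/-- An isometry of odd prime order prime to the characteristic. -/
structure SS (C : Ctx Q) where
  h : ↥(isometryGroup F ⇑Q)
  r : ℕ
  hr : r.Prime
  hro : Odd r
  hrF : (r : F) ≠ 0
  hh : h ^ r = 1

theorem polar_eq_dot (x y : ι → F) : polar Q x y = x ⬝ᵥ (gram Q *ᵥ y) := by
  rw [← polarBilin_apply_apply]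
  conv_lhs => rw [← Matrix.toBilin'_toMatrix' (polarBilin Q : LinearMap.BilinForm F (ι → F))]
  rw [Matrix.toBilin'_apply']

omit [Fintype F] in
theorem matrix_ext_dot {Z Z' : Matrix ι ι F} (h : ∀ x y, x ⬝ᵥ (Z *ᵥ y) = x ⬝ᵥ (Z' *ᵥ y)) : Z = Z' := by
  refine Matrix.toBilin'.injective (LinearMap.ext fun x => LinearMap.ext fun y => ?_)
  rw [Matrix.toBilin'_apply', Matrix.toBilin'_apply']
  exact h x y

theorem polar_mulVec_left {A B : Matrix ι ι F} (h : Aᵀ * gram Q = gram Q * B) (x y : ι → F) :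
    polar Q (A *ᵥ x) y = polar Q x (B *ᵥ y) := by
  rw [polar_eq_dot, polar_eq_dot, Matrix.mulVec_mulVec, ← h, ← Matrix.mulVec_mulVec,
    ← Matrix.vecMul_transpose, ← Matrix.dotProduct_mulVec]

namespace SS

variable {C : Ctx Q} (T : SS C)

theorem two_le : 3 ≤ T.r := by
  obtain ⟨s, hs⟩ := T.hro
  have := T.hr.two_le
  omega

/-- The matrix of `h`. -/
def H : Matrix ι ι F := ((T.h : GL ι F) : Matrix ι ι F)

/-- Polynomials in `h`. -/
noncomputable def Φ : F[X] →ₐ[F] Matrix ι ι F := aeval T.H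

theorem H_pow : T.H ^ T.r = 1 := by
  rw [H, ← Units.val_pow_eq_pow_val, ← SubmonoidClass.coe_pow, T.hh]
  rfl

theorem Φ_X_pow : T.Φ (X ^ T.r) = 1 := by rw [Φ, aeval_X_pow, T.H_pow]

theorem Φ_comm (f g : F[X]) : T.Φ f * T.Φ g = T.Φ g * T.Φ f := by
  rw [← map_mul, ← map_mul, mul_comm]

/-- The inverse. -/
noncomputable def hi (T : SS C) : F[X] := X ^ (T.r - 1)

/-- `h + h⁻¹`. -/
noncomputable def sp (T : SS C) : F[X] := X + T.hi

/-- `h - h⁻¹`. -/
noncomputable def dp (T : SS C) : F[X] := X - T.hi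

/-- The projection on the fixed space. -/
noncomputable def p0 (T : SS C) : F[X] :=
  Polynomial.C (T.r : F)⁻¹ * ∑ i ∈ Finset.range T.r, X ^ i

theorem X_mul_hi : X * T.hi = X ^ T.r := by
  rw [hi, ← pow_succ', show T.r - 1 + 1 = T.r by have := T.two_le; omega]

theorem Φ_X_hi : T.Φ X * T.Φ T.hi = 1 := by rw [← map_mul, T.X_mul_hi, T.Φ_X_pow]

theorem Φ_hi : T.Φ T.hi = (((T.h : GL ι F)⁻¹ : GL ι F) : Matrix ι ι F) := by
  calc T.Φ T.hi = ((((T.h : GL ι F)⁻¹ : GL ι F) : Matrix ι ι F) * T.H) * T.Φ T.hi := by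
        rw [H, Units.inv_mul, one_mul]
    _ = _ := by rw [mul_assoc, show T.H = T.Φ X by rw [Φ, aeval_X], T.Φ_X_hi, mul_one]

theorem X_mul_p0 : T.Φ X * T.Φ T.p0 = T.Φ T.p0 := by
  rw [← sub_eq_zero, ← map_mul, ← map_sub, show X * T.p0 - T.p0 =
    Polynomial.C (T.r : F)⁻¹ * ((X - 1) * ∑ i ∈ Finset.range T.r, X ^ i) by rw [p0]; ring,
    mul_geom_sum, map_mul, map_sub, T.Φ_X_pow, map_one, sub_self, mul_zero]

theorem hi_mul_p0 : T.Φ T.hi * T.Φ T.p0 = T.Φ T.p0 := by
  conv_lhs => rw [← T.X_mul_p0, ← mul_assoc, T.Φ_comm T.hi X, T.Φ_X_hi, one_mul]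

theorem dp_mul_p0 : T.Φ T.dp * T.Φ T.p0 = 0 := by
  rw [dp, map_sub, sub_mul, T.X_mul_p0, T.hi_mul_p0, sub_self]

theorem pow_mul_p0 (i : ℕ) : T.Φ X ^ i * T.Φ T.p0 = T.Φ T.p0 := by
  induction i with
  | zero => rw [pow_zero, one_mul]
  | succ i ih => rw [pow_succ, mul_assoc, T.X_mul_p0, ih]

theorem hi_pow_mul_p0 (i : ℕ) : T.Φ T.hi ^ i * T.Φ T.p0 = T.Φ T.p0 := by
  induction i with
  | zero => rw [pow_zero, one_mul]
  | succ i ih => rw [pow_succ, mul_assoc, T.hi_mul_p0, ih]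

theorem p0_idem : T.Φ T.p0 * T.Φ T.p0 = T.Φ T.p0 := by
  conv_lhs => arg 1; rw [p0, map_mul, map_sum]
  simp only [map_pow, mul_assoc, Finset.sum_mul, T.pow_mul_p0, Finset.sum_const, Finset.card_range]
  rw [← map_nsmul, ← map_mul, nsmul_eq_mul, ← mul_assoc, ← Polynomial.C_eq_natCast, ← Polynomial.C_mul,
    inv_mul_cancel₀ T.hrF, Polynomial.C_1, one_mul]

theorem p0_fix {x : ι → F} (hx : T.H *ᵥ x = x) : T.Φ T.p0 *ᵥ x = x := by
  have hp : ∀ i : ℕ, T.Φ X ^ i *ᵥ x = x := by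
    intro i
    induction i with
    | zero => rw [pow_zero, Matrix.one_mulVec]
    | succ i ih =>
      rw [pow_succ, ← Matrix.mulVec_mulVec]
      rw [show T.Φ X = T.H from aeval_X _] at ih ⊢
      rw [hx, ih]
  rw [p0, map_mul, map_sum, ← Matrix.mulVec_mulVec, Matrix.sum_mulVec]
  simp only [map_pow, hp, Finset.sum_const, Finset.card_range]
  rw [Φ, aeval_C, Algebra.algebraMap_eq_smul_one, Matrix.smul_mulVec, Matrix.one_mulVec, ← Nat.cast_smul_eq_nsmul F,
    smul_smul, inv_mul_cancel₀ T.hrF, one_smul]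

theorem H_fix {x : ι → F} : T.H *ᵥ (T.Φ T.p0 *ᵥ x) = T.Φ T.p0 *ᵥ x := by
  rw [Matrix.mulVec_mulVec, show T.H = T.Φ X from (aeval_X _).symm, T.X_mul_p0]

/-- `h - h⁻¹` plus the fixed projection is invertible. -/
theorem dp_add_p0_injective {x : ι → F} (hx : (T.Φ T.dp + T.Φ T.p0) *ᵥ x = 0) : x = 0 := by
  have h1 := congrArg (T.Φ T.p0 *ᵥ ·) hx
  simp only [Matrix.mulVec_mulVec, Matrix.mulVec_zero, mul_add, T.Φ_comm T.p0 T.dp, T.dp_mul_p0,
    T.p0_idem, zero_add] at h1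
  rw [Matrix.add_mulVec, h1, add_zero, dp, map_sub, Matrix.sub_mulVec, sub_eq_zero] at hx
  rw [← h1]
  refine (T.p0_fix ?_).symm
  have hX : T.H = T.Φ X := (aeval_X _).symm
  have hx2 : T.H ^ 2 *ᵥ x = x := by
    rw [pow_two, ← Matrix.mulVec_mulVec, hX, hx, Matrix.mulVec_mulVec, T.Φ_X_hi, Matrix.one_mulVec]
  obtain ⟨s, hs⟩ := T.hro
  have hx3 : ∀ i : ℕ, (T.H ^ 2) ^ i *ᵥ x = x := fun i => by
    induction i with
    | zero => rw [pow_zero, Matrix.one_mulVec]
    | succ i ih => rw [pow_succ, ← Matrix.mulVec_mulVec, hx2, ih]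
  calc T.H *ᵥ x = T.H *ᵥ ((T.H ^ 2) ^ s *ᵥ x) := by rw [hx3]
    _ = T.H ^ T.r *ᵥ x := by rw [Matrix.mulVec_mulVec, hs, ← pow_mul, ← pow_succ']
    _ = x := by rw [T.H_pow, Matrix.one_mulVec]

theorem adjoint_X : (T.Φ X)ᵀ * gram Q = gram Q * T.Φ T.hi := by
  have h := C.gram_sim (isoToSim T.h)
  rw [C.mu_isoToSim, Units.val_one, one_smul, isoToSim_coe] at h
  rw [show T.Φ X = T.H from aeval_X _, T.Φ_hi, H]
  conv_rhs => rw [← h]
  rw [mul_assoc, Units.mul_inv, mul_one]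

theorem adjoint_hi : (T.Φ T.hi)ᵀ * gram Q = gram Q * T.Φ X := by
  have h := congrArg (fun Z => (T.Φ T.hi)ᵀ * Z * T.Φ X) T.adjoint_X
  simp only [← mul_assoc, ← Matrix.transpose_mul, T.Φ_X_hi, Matrix.transpose_one, one_mul] at h
  rw [mul_assoc ((T.Φ T.hi)ᵀ * gram Q), T.Φ_comm T.hi X, T.Φ_X_hi, mul_one] at h
  exact h.symm

theorem adjoint_sp : (T.Φ T.sp)ᵀ * gram Q = gram Q * T.Φ T.sp := by
  rw [sp, map_add, Matrix.transpose_add, add_mul, T.adjoint_X, T.adjoint_hi, mul_add, add_comm]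

theorem adjoint_dp : (T.Φ T.dp)ᵀ * gram Q = gram Q * -T.Φ T.dp := by
  rw [dp, map_sub, Matrix.transpose_sub, sub_mul, T.adjoint_X, T.adjoint_hi, neg_sub, mul_sub]

theorem adjoint_p0 : (T.Φ T.p0)ᵀ * gram Q = gram Q * T.Φ T.p0 := by
  have hadj : ∀ i : ℕ, (T.Φ X ^ i)ᵀ * gram Q = gram Q * T.Φ T.hi ^ i := by
    intro i
    induction i with
    | zero => simp
    | succ i ih =>
      rw [pow_succ, Matrix.transpose_mul, mul_assoc, ih, ← mul_assoc, T.adjoint_X, mul_assoc, ← pow_succ']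
  set P' := (T.r : F)⁻¹ • ∑ i ∈ Finset.range T.r, T.Φ T.hi ^ i with hP'
  have h1 : T.Φ T.p0 = (T.r : F)⁻¹ • ∑ i ∈ Finset.range T.r, T.Φ X ^ i := by
    rw [p0, map_mul, map_sum, Φ, aeval_C, Algebra.algebraMap_eq_smul_one, smul_mul_assoc, one_mul]
    simp only [map_pow]
  have h3 : P' * T.Φ X = P' := by
    rw [hP', smul_mul_assoc]
    congr 1
    rw [← sub_eq_zero, ← mul_sub_one]
    have h0 := congrArg T.Φ (geom_sum_mul T.hi T.r)
    rw [map_mul, map_sum, map_sub, map_sub, map_one] at h0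
    simp only [map_pow] at h0
    have hone : T.Φ T.hi ^ T.r = 1 := by
      rw [← map_pow, hi, ← pow_mul, mul_comm, pow_mul, map_pow, T.Φ_X_pow, one_pow]
    rw [hone, sub_self] at h0
    have h5 : (∑ i ∈ Finset.range T.r, T.Φ T.hi ^ i) * (T.Φ X - 1) =
        -((∑ i ∈ Finset.range T.r, T.Φ T.hi ^ i) * (T.Φ T.hi - 1)) * T.Φ X := by
      rw [neg_mul, mul_assoc, sub_mul, T.Φ_comm T.hi X, T.Φ_X_hi, one_mul, ← mul_neg, neg_sub]
    rw [h5, h0, neg_zero, zero_mul]
  have h4 : P' = T.Φ T.p0 := by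
    have h3' : ∀ i : ℕ, P' * T.Φ X ^ i = P' := fun i => by
      induction i with
      | zero => rw [pow_zero, mul_one]
      | succ i ih => rw [pow_succ, ← mul_assoc, ih, h3]
    have e1 : P' * T.Φ T.p0 = P' := by
      rw [h1, mul_smul_comm, Finset.mul_sum]
      simp only [h3', Finset.sum_const, Finset.card_range]
      rw [← Nat.cast_smul_eq_nsmul F, smul_smul, inv_mul_cancel₀ T.hrF, one_smul]
    have e2 : P' * T.Φ T.p0 = T.Φ T.p0 := by
      rw [hP', smul_mul_assoc, Finset.sum_mul]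
      simp only [T.hi_pow_mul_p0, Finset.sum_const, Finset.card_range]
      rw [← Nat.cast_smul_eq_nsmul F, smul_smul, inv_mul_cancel₀ T.hrF, one_smul]
    exact e1.symm.trans e2
  conv_rhs => rw [← h4]
  rw [h1, Matrix.transpose_smul, smul_mul_assoc, Matrix.transpose_sum, Finset.sum_mul]
  simp only [hadj]
  rw [← Finset.mul_sum, hP', mul_smul_comm]

/-- Polynomials in `h + h⁻¹`. -/
noncomputable def A (T : SS C) : F[X] →ₐ[F] Matrix ι ι F := T.Φ.comp (aeval T.sp)

theorem adjoint_A (f : F[X]) : (T.A f)ᵀ * gram Q = gram Q * T.A f := by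
  induction f using Polynomial.induction_on with
  | C a => rw [A, AlgHom.comp_apply, aeval_C, AlgHom.commutes, Algebra.algebraMap_eq_smul_one,
      Matrix.transpose_smul, Matrix.transpose_one, smul_mul_assoc, one_mul, mul_smul_comm, mul_one]
  | add f g hf hg => rw [map_add, Matrix.transpose_add, add_mul, hf, hg, mul_add]
  | monomial n a ih =>
    rw [pow_succ, ← mul_assoc, map_mul, Matrix.transpose_mul, mul_assoc, ih, ← mul_assoc,
      show T.A X = T.Φ T.sp by rw [A, AlgHom.comp_apply, aeval_X], T.adjoint_sp, mul_assoc,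
      show T.Φ T.sp = T.A X by rw [A, AlgHom.comp_apply, aeval_X], ← map_mul, ← map_mul, mul_comm]

theorem A_comm (f g : F[X]) : T.A f * T.Φ g = T.Φ g * T.A f := T.Φ_comm _ _

theorem dp_sq : T.Φ T.dp * T.Φ T.dp = T.A (X ^ 2 - Polynomial.C 4) := by
  rw [A, AlgHom.comp_apply, ← map_mul, ← sub_eq_zero, ← map_sub, map_sub (aeval (R := F) T.sp), map_pow (aeval (R := F) T.sp), aeval_X, aeval_C]
  rw [show T.dp * T.dp - (T.sp ^ 2 - algebraMap F F[X] 4) = 4 - 4 * (X * T.hi) by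
    rw [dp, sp, map_ofNat]; ring]
  rw [T.X_mul_hi, map_sub, map_mul, T.Φ_X_pow, mul_one, sub_self]

/-- The annihilator of the moved space in `F[X]`. -/
noncomputable def ann (T : SS C) : Ideal F[X] where
  carrier := {f | T.A f * T.Φ (1 - T.p0) = 0}
  add_mem' {f g} hf hg := by
    show T.A (f + g) * T.Φ (1 - T.p0) = 0
    rw [map_add, add_mul, show T.A f * T.Φ (1 - T.p0) = 0 from hf,
      show T.A g * T.Φ (1 - T.p0) = 0 from hg, add_zero]
  zero_mem' := by show T.A 0 * T.Φ (1 - T.p0) = 0; rw [map_zero, zero_mul]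
  smul_mem' c f hf := by
    show T.A (c * f) * T.Φ (1 - T.p0) = 0
    rw [map_mul, mul_assoc, show T.A f * T.Φ (1 - T.p0) = 0 from hf, mul_zero]

theorem mem_ann {f : F[X]} : f ∈ T.ann ↔ T.A f * T.Φ (1 - T.p0) = 0 := Iff.rfl

/-- The ring generated by `h + h⁻¹` on the moved space. -/
abbrev Rg (T : SS C) : Type u := F[X] ⧸ T.ann

theorem eq_iff {f g : F[X]} : (Ideal.Quotient.mk T.ann f = Ideal.Quotient.mk T.ann g) ↔
    T.A f * T.Φ (1 - T.p0) = T.A g * T.Φ (1 - T.p0) := by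
  rw [Ideal.Quotient.eq, T.mem_ann, map_sub, sub_mul, sub_eq_zero]

instance finite_Rg : Finite T.Rg := by
  refine Finite.of_injective (fun y : T.Rg => T.A y.out * T.Φ (1 - T.p0)) fun y z hyz => ?_
  rw [← Ideal.Quotient.mk_out y, ← Ideal.Quotient.mk_out z]
  exact T.eq_iff.mpr hyz

theorem exists_frob : ∃ N : ℕ, 2 ≤ N ∧ ∀ g : F[X], T.Φ g ^ N = T.Φ g := by
  set q := Fintype.card F
  have hq : 2 ≤ q := Fintype.one_lt_card
  have hcop : q.Coprime T.r := by
    rw [Nat.coprime_comm, T.hr.coprime_iff_not_dvd]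
    intro hdvd
    haveI := Fact.mk T.hr
    have h' : T.r ∣ Nat.card (Multiplicative F) := by
      rwa [Nat.card_eq_fintype_card, Fintype.card_multiplicative]
    obtain ⟨x, hx⟩ := exists_prime_orderOf_dvd_card' T.r h'
    have h0 : T.r • x.toAdd = 0 := by
      rw [← toAdd_pow, ← hx, pow_orderOf_eq_one]; rfl
    rw [nsmul_eq_mul, mul_eq_zero] at h0
    refine T.hr.ne_one ?_
    rw [← hx, orderOf_eq_one_iff]
    exact Multiplicative.toAdd.injective (h0.resolve_left T.hrF)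
  refine ⟨q ^ (T.r - 1), le_trans hq (Nat.le_self_pow (by have := T.two_le; omega) _), fun g => ?_⟩
  have hit : ∀ (j : ℕ) (g : F[X]), T.Φ g ^ q ^ j = aeval (T.H ^ q ^ j) g := by
    intro j
    induction j with
    | zero => intro g; simp [Φ]
    | succ j ih =>
      intro g
      rw [pow_succ q, pow_mul, ih, ← map_pow, ← FiniteField.expand_card, Polynomial.expand_aeval, ← pow_mul]
  have hmod : q ^ (T.r - 1) % T.r = 1 := by
    have h := Nat.ModEq.pow_totient hcop
    rw [Nat.totient_prime T.hr] at h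
    rw [h, Nat.mod_eq_of_lt T.hr.one_lt]
  rw [hit, show T.H ^ q ^ (T.r - 1) = T.H from ?_]
  · rfl
  · rw [← Nat.mod_add_div (q ^ (T.r - 1)) T.r, hmod, pow_add, pow_one, pow_mul, T.H_pow, one_pow, mul_one]

instance reduced_Rg : IsReduced T.Rg := by
  obtain ⟨N, hN, hfrob⟩ := T.exists_frob
  refine ⟨fun y ⟨n, hn⟩ => ?_⟩
  obtain ⟨f, rfl⟩ := Ideal.Quotient.mk_surjective y
  have hfix : Ideal.Quotient.mk T.ann f ^ N = Ideal.Quotient.mk T.ann f := by
    rw [← map_pow, T.eq_iff, map_pow, A, AlgHom.comp_apply, hfrob]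
  have hpow : ∀ j : ℕ, Ideal.Quotient.mk T.ann f ^ N ^ j = Ideal.Quotient.mk T.ann f := fun j => by
    induction j with
    | zero => rw [pow_zero, pow_one]
    | succ j ih => rw [pow_succ, pow_mul, ih, hfix]
  have hle : n ≤ N ^ n := (Nat.lt_pow_self (by omega)).le
  rw [← hpow n, ← Nat.add_sub_cancel' hle, pow_add, hn, zero_mul]

theorem two_unit : IsUnit (2 : T.Rg) := by
  have h := (Ne.isUnit C.h2).map (algebraMap F T.Rg)
  rwa [map_ofNat] at h

theorem disc_unit : IsUnit (Ideal.Quotient.mk T.ann (X ^ 2 - Polynomial.C 4)) := by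
  haveI : IsArtinianRing T.Rg := inferInstance
  refine IsArtinianRing.isUnit_of_mem_nonZeroDivisors (mem_nonZeroDivisors_iff_right.mpr fun y hy => ?_)
  obtain ⟨f, rfl⟩ := Ideal.Quotient.mk_surjective y
  rw [← map_mul, Ideal.Quotient.eq_zero_iff_mem, T.mem_ann] at hy
  rw [Ideal.Quotient.eq_zero_iff_mem, T.mem_ann]
  rw [mul_comm f, map_mul, mul_assoc, ← T.dp_sq] at hy
  refine Matrix.toLin'.injective (LinearMap.ext fun x => ?_)
  simp only [Matrix.toLin'_apply, map_zero, LinearMap.zero_apply]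
  set Y := T.A f * T.Φ (1 - T.p0) with hY
  have hP : T.Φ T.p0 * Y = 0 := by
    rw [hY, ← mul_assoc, ← T.A_comm, mul_assoc, map_sub, map_one, mul_sub, mul_one, T.p0_idem, sub_self,
      mul_zero]
  have h1 : (T.Φ T.dp + T.Φ T.p0) * ((T.Φ T.dp + T.Φ T.p0) * Y) = 0 := by
    rw [add_mul (T.Φ T.dp) (T.Φ T.p0) Y, hP, add_zero, add_mul, ← mul_assoc, hy, ← mul_assoc (T.Φ T.p0),
      T.Φ_comm T.p0 T.dp, mul_assoc, hP, mul_zero, add_zero]
  refine T.dp_add_p0_injective (T.dp_add_p0_injective ?_)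
  rw [Matrix.mulVec_mulVec, Matrix.mulVec_mulVec, mul_assoc, h1, Matrix.zero_mulVec]

/-- The fixed space. -/
noncomputable def fixed (T : SS C) : Submodule F (ι → F) := LinearMap.range (Matrix.mulVecLin (T.Φ T.p0))

theorem mem_fixed {x : ι → F} : x ∈ T.fixed ↔ T.Φ T.p0 *ᵥ x = x := by
  constructor
  · rintro ⟨y, rfl⟩
    rw [Matrix.mulVecLin_apply, Matrix.mulVec_mulVec, T.p0_idem]
  · exact fun h => ⟨x, h⟩

theorem fixed_nondeg : ∀ x ∈ T.fixed, (∀ y ∈ T.fixed, polar Q y x = 0) → x = 0 := by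
  intro x hx h
  refine C.hnd x fun y => ?_
  rw [polar_comm, ← T.mem_fixed.mp hx, ← polar_mulVec_left T.adjoint_p0]
  exact h _ ⟨y, rfl⟩

theorem fixed_gram_ne {k : Type} [Fintype k] [DecidableEq k] (b : Basis k F ↥T.fixed) :
    (gramFam Q fun i => (b i : ι → F)).det ≠ 0 := by
  intro h
  obtain ⟨c, hc, hc0⟩ := Matrix.exists_mulVec_eq_zero_iff.mpr h
  refine hc (funext fun j => ?_)
  have hx : (∑ i, c i • b i) = 0 := by
    refine Subtype.ext (T.fixed_nondeg _ (∑ i, c i • b i).2 fun y hy => ?_)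
    have hb : ((polarBilin Q).compl₂ T.fixed.subtype).comp T.fixed.subtype ⟨y, hy⟩ (∑ i, c i • b i) = 0 := by
      have he : ∀ l, ((polarBilin Q).compl₂ T.fixed.subtype).comp T.fixed.subtype (b l) (∑ i, c i • b i) = 0 := by
        intro l
        rw [map_sum]
        refine Eq.trans (Finset.sum_congr rfl fun i _ => ?_) (congrFun hc0 l)
        rw [map_smul, smul_eq_mul, mul_comm]
        rfl
      have hf : (((polarBilin Q).compl₂ T.fixed.subtype).comp T.fixed.subtype).flip (∑ i, c i • b i) = 0 :=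
        b.ext fun l => he l
      exact LinearMap.congr_fun hf ⟨y, hy⟩
    exact hb
  exact Fintype.linearIndependent_iff.mp b.linearIndependent c hx j

theorem finrank_fixed_even : Even (finrank F ↥T.fixed) := by
  let b := Module.finBasis F ↥T.fixed
  obtain ⟨g, hg, -, hgv, hgo⟩ := C.exists_subspace_invol _ (T.fixed_gram_ne b)
  have hneg : ∀ x ∈ T.fixed, act Q g x = -x := by
    intro x hx
    have he : (Matrix.mulVecLin ((g : GL ι F) : Matrix ι ι F)).comp T.fixed.subtype = -T.fixed.subtype :=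
      b.ext fun i => hgv i
    exact LinearMap.congr_fun he ⟨x, hx⟩
  have hmat : ((g : GL ι F) : Matrix ι ι F) = 1 - 2 • T.Φ T.p0 := by
    refine Matrix.toLin'.injective (LinearMap.ext fun x => ?_)
    simp only [Matrix.toLin'_apply, Matrix.sub_mulVec, Matrix.one_mulVec, Matrix.smul_mulVec]
    have hx : x = T.Φ T.p0 *ᵥ x + (x - T.Φ T.p0 *ᵥ x) := (add_sub_cancel _ _).symm
    have h2 : act Q g (x - T.Φ T.p0 *ᵥ x) = x - T.Φ T.p0 *ᵥ x := hgo _ fun i => by
      rw [← T.mem_fixed.mp (b i).2, polar_mulVec_left T.adjoint_p0, Matrix.mulVec_sub, Matrix.mulVec_mulVec,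
        T.p0_idem, sub_self, polar_zero_right]
    have h3 : act Q g (T.Φ T.p0 *ᵥ x) = -(T.Φ T.p0 *ᵥ x) := hneg _ ⟨x, rfl⟩
    have h4 := act_add Q g (T.Φ T.p0 *ᵥ x) (x - T.Φ T.p0 *ᵥ x)
    rw [← hx, h2, h3] at h4
    refine (show act Q g x = _ from h4).trans ?_
    rw [two_smul]
    abel
  set G := T.Φ T.dp + T.Φ T.p0 with hG
  have hG0 : G.det ≠ 0 := fun h => by
    obtain ⟨v, hv, hv0⟩ := Matrix.exists_mulVec_eq_zero_iff.mpr h
    exact hv (T.dp_add_p0_injective hv0)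
  have h1 : Gᵀ * gram Q = gram Q * (-(G * ((g : GL ι F) : Matrix ι ι F))) := by
    rw [hG, hmat, Matrix.transpose_add, add_mul, T.adjoint_dp, T.adjoint_p0, ← mul_add]
    congr 1
    rw [add_mul, mul_sub, mul_sub, mul_one, mul_one, mul_smul_comm, mul_smul_comm, T.dp_mul_p0, T.p0_idem,
      smul_zero, sub_zero, two_smul]
    abel
  have h5 := congrArg Matrix.det h1
  rw [Matrix.det_mul, Matrix.det_mul, Matrix.det_transpose, Matrix.det_neg, Matrix.det_mul, C.hι, pow_mul,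
    neg_one_sq, one_pow, one_mul, mul_comm G.det] at h5
  have h6 : ((g : GL ι F) : Matrix ι ι F).det = 1 :=
    mul_left_cancel₀ hG0 ((mul_left_cancel₀ C.gram_det_ne h5).symm.trans (mul_one _).symm)
  have h7 : detHom g = 1 := Units.ext ((detHom_coe g).trans h6)
  rw [hg, Fintype.card_fin] at h7
  by_contra hodd
  rw [Nat.not_even_iff_odd] at hodd
  rw [hodd.neg_one_pow] at h7
  exact C.h2 (by
    have h8 := congrArg Units.val h7
    rw [Units.val_neg, Units.val_one] at h8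
    linear_combination -h8)

theorem exists_fixed_part (ν : F) (hν : ν ≠ 0) :
    ∃ T0 : Matrix ι ι F, T0 * T.Φ T.p0 = T0 ∧ T.Φ T.p0 * T0 = T0 ∧
      T0ᵀ * gram Q * T0 = ν • (gram Q * T.Φ T.p0) := by
  let b := Module.finBasis F ↥T.fixed
  let E : (Fin (finrank F ↥T.fixed) → F) →ₗ[F] (ι → F) :=
    T.fixed.subtype.comp b.equivFun.symm.toLinearMap
  let Q0 : QuadraticForm F (Fin (finrank F ↥T.fixed) → F) := Q.comp E
  have hE : ∀ i, E (Pi.single i 1) = (b i : ι → F) := fun i => by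
    simp only [E, LinearMap.comp_apply, LinearEquiv.coe_coe, Submodule.subtype_apply]
    refine congrArg Subtype.val ?_
    rw [Basis.equivFun_symm_apply, Finset.sum_eq_single i (fun j _ hj => by simp [hj]) (by simp)]
    simp
  have hQ0 : ∀ x y, polar Q0 x y = polar Q (E x) (E y) := fun x y => by
    simp only [polar, Q0, QuadraticMap.comp_apply, map_add]
  have hgram : (Matrix.of fun i j : Fin (finrank F ↥T.fixed) => polar Q0 (Pi.single i 1) (Pi.single j 1)) =
      gramFam Q fun i => (b i : ι → F) := by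
    ext i j
    show polar Q0 _ _ = polar Q _ _
    rw [hQ0, hE, hE]
  have hν0 : ∀ x y, polar (ν • Q0) x y = ν * polar Q0 x y := fun x y => by
    simp only [polar, _root_.smul_apply, smul_eq_mul]
    ring
  have hnd0 : ∀ c : F, c ≠ 0 → (polarBilin (c • Q0)).Nondegenerate := by
    intro c hc
    rw [← CfsgLib.Orth.ndPolar_iff]
    intro x hx
    have hx0 : E x = 0 := T.fixed_nondeg _ (b.equivFun.symm x).2 fun y hy => by
      have h := hx (b.equivFun ⟨y, hy⟩)
      rw [show polar (c • Q0) x (b.equivFun ⟨y, hy⟩) = c * polar Q (E x) y by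
        simp only [polar, _root_.smul_apply, smul_eq_mul, Q0, QuadraticMap.comp_apply, map_add]
        rw [show E (b.equivFun ⟨y, hy⟩) = y by simp [E]]
        ring] at h
      rw [polar_comm]
      exact (mul_eq_zero.mp h).resolve_left hc
    have h' : b.equivFun.symm x = 0 := Subtype.ext hx0
    exact b.equivFun.symm.injective (by rw [h', map_zero])
  obtain ⟨e⟩ := CfsgLib.FormsDisc.equivalent_of_disc C.h2 (ν • Q0) Q0 (hnd0 ν hν)
    (by simpa using hnd0 1 one_ne_zero) (by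
      obtain ⟨k, hk⟩ := T.finrank_fixed_even
      refine ⟨ν ^ k * (gramFam Q fun i => (b i : ι → F)).det, ?_⟩
      rw [hgram, show (Matrix.of fun i j : Fin (finrank F ↥T.fixed) =>
          polar (ν • Q0) (Pi.single i 1) (Pi.single j 1)) = ν • gramFam Q fun i => (b i : ι → F) by
        rw [← hgram]; ext i j; exact hν0 _ _, Matrix.det_smul, Fintype.card_fin,
        show ν ^ finrank F ↥T.fixed = ν ^ (k + k) from congrArg _ hk, pow_add]
      ring)
  let π : (ι → F) →ₗ[F] ↥T.fixed := (Matrix.mulVecLin (T.Φ T.p0)).rangeRestrict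
  let L : (ι → F) →ₗ[F] (ι → F) := E.comp (e.toLinearEquiv.toLinearMap.comp (b.equivFun.toLinearMap.comp π))
  have hL0 : ∀ x, L (T.Φ T.p0 *ᵥ x) = L x := fun x => by
    have h : π (T.Φ T.p0 *ᵥ x) = π x := Subtype.ext (by
      show T.Φ T.p0 *ᵥ (T.Φ T.p0 *ᵥ x) = T.Φ T.p0 *ᵥ x
      rw [Matrix.mulVec_mulVec, T.p0_idem])
    simp only [L, LinearMap.comp_apply, h]
  have hLmem : ∀ x, T.Φ T.p0 *ᵥ L x = L x := fun x => T.mem_fixed.mp (Subtype.prop _)
  have hLQ : ∀ x, Q (L x) = ν * Q (T.Φ T.p0 *ᵥ x) := fun x => by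
    have h := e.map_app (b.equivFun (π x))
    rw [_root_.smul_apply, smul_eq_mul] at h
    refine (show Q (L x) = Q0 (e (b.equivFun (π x))) from rfl).trans (h.trans ?_)
    simp [Q0, E, π]
    exact Or.inl rfl
  refine ⟨LinearMap.toMatrix' L, ?_, ?_, ?_⟩
  · refine Matrix.toLin'.injective (LinearMap.ext fun x => ?_)
    simp only [Matrix.toLin'_apply, ← Matrix.mulVec_mulVec, LinearMap.toMatrix'_mulVec, hL0]
  · refine Matrix.toLin'.injective (LinearMap.ext fun x => ?_)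
    simp only [Matrix.toLin'_apply, ← Matrix.mulVec_mulVec, LinearMap.toMatrix'_mulVec, hLmem]
  · refine matrix_ext_dot fun x y => ?_
    simp only [Matrix.smul_mulVec, dotProduct_smul, smul_eq_mul, ← Matrix.mulVec_mulVec]
    rw [← polar_eq_dot, Matrix.dotProduct_mulVec, Matrix.vecMul_transpose, ← polar_eq_dot,
      LinearMap.toMatrix'_mulVec, LinearMap.toMatrix'_mulVec]
    have h : polar Q (T.Φ T.p0 *ᵥ x) (T.Φ T.p0 *ᵥ y) = polar Q x (T.Φ T.p0 *ᵥ y) := by
      rw [polar_mulVec_left T.adjoint_p0, Matrix.mulVec_mulVec, T.p0_idem]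
    rw [← h]
    simp only [polar, ← map_add, hLQ, ← Matrix.mulVec_add]
    ring

end SS

end Ctx

end CfsgLib.PGOQuot
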