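import Cfsg.Agent.Lib.PGOQuot.Invariants
import Cfsg.Agent.Lib.AutPSL.GraphSplit

/-!
A similarity commuting with an invertible skew-adjoint map is proper.
-/

set_option autoImplicit false

namespace CfsgLib.PGOQuot

open Matrix Cfsg QuadraticMap Module
open CfsgLib.OrthSpinor

variable {ι : Type} [Fintype ι] [DecidableEq ι] {F : Type*} [Field F] [Fintype F]
variable {Q : QuadraticForm F (ι → F)}

/-- A similarity of an alternating invertible matrix has determinant `μ^n`. -/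
theorem det_of_alternating_similitude {n : ℕ} (hι : Fintype.card ι = 2 * n) (hn : 1 ≤ n) {M : Matrix ι ι F}
    (hdiag : ∀ i, M i i = 0) (hskew : Mᵀ = -M) (hdet : M.det ≠ 0) {g : GL ι F} {c : Fˣ}
    (hg : (g : Matrix ι ι F)ᵀ * M * g = (c : F) • M) :
    Matrix.GeneralLinearGroup.det g = c ^ n := by
  obtain ⟨k, hk, H, H', h1, h2, hJ⟩ := CfsgLib.AutPSL.congr_alternating hdiag hskew hdet
  obtain rfl : k = n := by omega
  have : Nonempty (Fin k) := ⟨⟨0, by omega⟩⟩
  set g' := CfsgLib.AutPSL.conjEquiv H H' h1 h2 g with hg'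
  have hmem : (g' : Matrix (Fin k ⊕ Fin k) (Fin k ⊕ Fin k) F)ᵀ * Matrix.J (Fin k) F * g' =
      (c : F) • Matrix.J (Fin k) F := by
    rw [hg', CfsgLib.AutPSL.conjEquiv_coe, ← hJ, Matrix.transpose_mul, Matrix.transpose_mul]
    calc Hᵀ * ((g : Matrix ι ι F)ᵀ * H'ᵀ) * (Hᵀ * M * H) * (H' * (g : Matrix ι ι F) * H)
        = Hᵀ * ((g : Matrix ι ι F)ᵀ * ((H * H')ᵀ * M * (H * H')) * (g : Matrix ι ι F)) * H := by
          simp only [Matrix.transpose_mul, Matrix.mul_assoc]
      _ = _ := by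
          rw [h1, Matrix.transpose_one, Matrix.one_mul, Matrix.mul_one, hg, Matrix.mul_smul, Matrix.smul_mul]
  obtain ⟨d, A, hA⟩ := CfsgLib.AutPSL.simGroup_J_decomp k (g := g') ⟨c, hmem⟩
  have hdA : (g' : Matrix (Fin k ⊕ Fin k) (Fin k ⊕ Fin k) F)ᵀ * Matrix.J (Fin k) F * g' =
      (d : F) • Matrix.J (Fin k) F := by
    rw [hA, Units.val_mul, Matrix.transpose_mul, CfsgLib.AutPSL.spToGL_coe]
    calc (A.1)ᵀ * ((CfsgLib.AutPSL.halfScalar k d : Matrix (Fin k ⊕ Fin k) (Fin k ⊕ Fin k) F))ᵀ *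
          Matrix.J (Fin k) F *
          ((CfsgLib.AutPSL.halfScalar k d : Matrix (Fin k ⊕ Fin k) (Fin k ⊕ Fin k) F) * A.1) =
        (A.1)ᵀ * (((CfsgLib.AutPSL.halfScalar k d : Matrix (Fin k ⊕ Fin k) (Fin k ⊕ Fin k) F))ᵀ *
          Matrix.J (Fin k) F *
          (CfsgLib.AutPSL.halfScalar k d : Matrix (Fin k ⊕ Fin k) (Fin k ⊕ Fin k) F)) * A.1 := by
          simp only [Matrix.mul_assoc]
      _ = _ := by
          rw [CfsgLib.AutPSL.halfScalar_mul_J, Matrix.mul_smul, Matrix.smul_mul, SymplecticGroup.mem_iff'.mp A.2]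
  have hJ0 : Matrix.J (Fin k) F ≠ 0 := fun h => by
    have h' := Matrix.J_det_mul_J_det (Fin k) F
    rw [h, Matrix.det_zero, mul_zero] at h'
    exact zero_ne_one h'
  have hcd : c = d := Units.ext (smul_left_injective F hJ0 (hmem.symm.trans hdA))
  have hdg : Matrix.GeneralLinearGroup.det g' = Matrix.GeneralLinearGroup.det g :=
    CfsgLib.AutPSL.conjEquiv_det H H' h1 h2 g (Fintype.equivOfCardEq (by simp; omega))
  rw [← hdg, hA, map_mul, CfsgLib.AutPSL.det_halfScalar, hcd]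
  have hone : Matrix.GeneralLinearGroup.det (CfsgLib.AutPSL.spToGL A) = 1 := by
    apply Units.ext
    rw [Matrix.GeneralLinearGroup.val_det_apply]
    exact SymplecticGroup.det_eq_one A.2
  rw [hone, mul_one]

namespace Ctx

variable (C : Ctx Q)

theorem eps_eq_one_of_skew (D : GL ι F)
    (hD : ∀ x y, polar Q ((D : Matrix ι ι F) *ᵥ x) y = -polar Q x ((D : Matrix ι ι F) *ᵥ y))
    (g : ↥(simG Q))
    (hcomm : ∀ x, (D : Matrix ι ι F) *ᵥ (((g : GL ι F) : Matrix ι ι F) *ᵥ x) =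
      ((g : GL ι F) : Matrix ι ι F) *ᵥ ((D : Matrix ι ι F) *ᵥ x)) :
    C.eps g = 1 := by
  set B : LinearMap.BilinForm F (ι → F) :=
    LinearMap.compl₂ (polarBilin Q) (Matrix.mulVecLin (D : Matrix ι ι F)) with hB
  have hBa : ∀ x y, B x y = polar Q x ((D : Matrix ι ι F) *ᵥ y) := fun x y => rfl
  have hsk : ∀ x y, B x y = -B y x := by
    intro x y
    rw [hBa, hBa, polar_comm Q y, hD x y, neg_neg]
  set M := LinearMap.BilinForm.toMatrix' B with hM
  have hMa : ∀ i j, M i j = B (Pi.single i 1) (Pi.single j 1) := fun i j => by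
    rw [hM, LinearMap.BilinForm.toMatrix'_apply]
  have hskew : Mᵀ = -M := by
    ext i j
    rw [Matrix.transpose_apply, Matrix.neg_apply, hMa, hMa]
    exact hsk _ _
  have hdiag : ∀ i, M i i = 0 := fun i => by
    have h : (2 : F) * M i i = 0 := by
      have h' := hsk (Pi.single i 1) (Pi.single i 1)
      rw [hMa]
      linear_combination h'
    exact (mul_eq_zero.mp h).resolve_left C.h2
  have hBM : ∀ x y, B x y = x ⬝ᵥ (M *ᵥ y) := fun x y => by
    conv_lhs => rw [← Matrix.toBilin'_toMatrix' B]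
    rw [Matrix.toBilin'_apply']
  have hdet : M.det ≠ 0 := by
    intro h
    obtain ⟨v, hv, hv0⟩ := Matrix.exists_mulVec_eq_zero_iff.mpr h
    refine hv ?_
    have h1 : (D : Matrix ι ι F) *ᵥ v = 0 := C.hnd _ fun y => by
      rw [polar_comm, ← hBa, hBM, hv0, dotProduct_zero]
    have h3 := congrArg (fun a => ((D⁻¹ : GL ι F) : Matrix ι ι F) *ᵥ a) h1
    simpa [Matrix.mulVec_mulVec, ← Units.val_mul] using h3
  have hg : ((g : GL ι F) : Matrix ι ι F)ᵀ * M * ((g : GL ι F) : Matrix ι ι F) = (C.mu g : F) • M := by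
    rw [hM, ← LinearMap.toMatrix'_toLin' ((g : GL ι F) : Matrix ι ι F), ← LinearMap.BilinForm.toMatrix'_comp,
      ← map_smul]
    congr 1
    refine LinearMap.ext fun x => LinearMap.ext fun y => ?_
    simp only [LinearMap.BilinForm.comp_apply, LinearMap.smul_apply, Matrix.toLin'_apply, hBa, hcomm,
      smul_eq_mul]
    simp only [polar, ← Matrix.mulVec_add, C.mu_spec]
    ring
  rw [C.eps_apply, det_of_alternating_similitude C.hι (by have := C.hn; omega) hdiag hskew hdet hg,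
    mul_inv_cancel]

end Ctx

end CfsgLib.PGOQuot
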