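import Cfsg.Agent.Lib.PGOQuot.CentSS
import Cfsg.Agent.Lib.PGOQuot.Skew
import Mathlib.FieldTheory.Finite.GaloisField

/-!
Elements commuting with an isometry of odd prime order prime to the characteristic: a proper similarity
with non-square multiplier and a proper isometry of non-trivial spinor sign.
-/

set_option autoImplicit false
set_option linter.unusedSectionVars false
set_option linter.style.haveILetI false
set_option maxHeartbeats 800000

namespace CfsgLib.PGOQuot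

open Matrix Cfsg QuadraticMap Module Polynomial
open CfsgLib.OrthSpinor

universe u

variable {ι : Type} [Fintype ι] [DecidableEq ι] {F : Type u} [Field F] [Fintype F]

namespace Ctx

variable {Q : QuadraticForm F (ι → F)}

namespace SS

variable {C : Ctx Q} (T : SS C)

theorem fixed_mulVec {v : ι → F} (hv : v ∈ T.fixed) : act Q T.h v = v := by
  show T.H *ᵥ v = v
  rw [← T.mem_fixed.mp hv, T.H_fix]

theorem reflection_comm {v : ι → F} (hv : Q v ≠ 0) (hmem : v ∈ T.fixed) :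
    reflection hv * T.h = T.h * reflection hv := by
  have h := conj_reflection T.h hv
  rw [reflection_congr (T.fixed_mulVec hmem), mul_inv_eq_iff_eq_mul] at h
  exact h.symm

theorem p0_eq_zero (h : T.fixed = ⊥) : T.Φ T.p0 = 0 := by
  refine Matrix.toLin'.injective (LinearMap.ext fun x => ?_)
  have h1 : T.Φ T.p0 *ᵥ x ∈ T.fixed := ⟨x, rfl⟩
  rw [h, Submodule.mem_bot] at h1
  simpa using h1

theorem exists_fixed_norm (h : T.fixed ≠ ⊥) (c : F) : ∃ v ∈ T.fixed, Q v = c := by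
  refine CfsgLib.OrthCrit.exists_norm_mem C.h2 T.fixed_nondeg ?_ c
  obtain ⟨k, hk⟩ := T.finrank_fixed_even
  have h0 : finrank F ↥T.fixed ≠ 0 := fun e => h (Submodule.finrank_eq_zero.mp e)
  omega

theorem exists_sim_comm (S : Sim C) :
    ∃ k : ↥(simG Q), C.sq k = -1 ∧ C.eps k = 1 ∧ k * isoToSim T.h = isoToSim T.h * k := by
  obtain ⟨ν, hν, hns⟩ := exists_nonsquare' (F := F) C.h2
  obtain ⟨a, b, hab⟩ := exists_pell T.two_unit T.disc_unit (Ideal.Quotient.mk T.ann (Polynomial.C ν))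
  obtain ⟨fa, rfl⟩ := Ideal.Quotient.mk_surjective a
  obtain ⟨fb, rfl⟩ := Ideal.Quotient.mk_surjective b
  rw [← map_mul, ← map_mul, ← map_mul, ← map_sub, T.eq_iff] at hab
  obtain ⟨T0, hT0r, hT0l, hT0⟩ := T.exists_fixed_part ν hν
  set D := T.Φ T.dp with hD
  set P1 := T.Φ (1 - T.p0) with hP1
  set W := T.A fa + T.A fb * D with hW
  set W' := T.A fa - T.A fb * D with hW'
  have hP0P1 : T.Φ T.p0 * P1 = 0 := by rw [hP1, map_sub, map_one, mul_sub, mul_one, T.p0_idem, sub_self]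
  have hP1P0 : P1 * T.Φ T.p0 = 0 := by rw [hP1, ← T.Φ_comm, ← hP1, hP0P1]
  have hP1P1 : P1 * P1 = P1 := by
    conv_lhs => arg 1; rw [hP1, map_sub, map_one]
    rw [sub_mul, one_mul, hP0P1, sub_zero]
  have hP1adj : P1ᵀ * gram Q = gram Q * P1 := by
    rw [hP1, map_sub, map_one, Matrix.transpose_sub, Matrix.transpose_one, sub_mul, one_mul, T.adjoint_p0,
      mul_sub, mul_one]
  have hWadj : Wᵀ * gram Q = gram Q * W' := by
    rw [hW, hW', Matrix.transpose_add, Matrix.transpose_mul, add_mul, T.adjoint_A, mul_sub, mul_assoc,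
      T.adjoint_A, ← mul_assoc, hD, T.adjoint_dp, mul_assoc, neg_mul, T.A_comm, mul_neg, ← sub_eq_add_neg]
  have hWcomm : ∀ g : F[X], W * T.Φ g = T.Φ g * W := by
    intro g
    rw [hW, add_mul, mul_add, T.A_comm, mul_assoc, hD, T.Φ_comm T.dp g, ← mul_assoc, T.A_comm, mul_assoc]
  have hW'comm : ∀ g : F[X], W' * T.Φ g = T.Φ g * W' := by
    intro g
    rw [hW', sub_mul, mul_sub, T.A_comm, mul_assoc, hD, T.Φ_comm T.dp g, ← mul_assoc, T.A_comm, mul_assoc]
  set Kp := W * P1 with hKp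
  have hKadj : Kpᵀ * gram Q = gram Q * (P1 * W') := by
    rw [hKp, Matrix.transpose_mul, mul_assoc, hWadj, ← mul_assoc, hP1adj, mul_assoc]
  have hKK : Kpᵀ * gram Q * Kp = ν • (gram Q * P1) := by
    have h1 : W' * W = T.A (fa * fa - (X ^ 2 - Polynomial.C 4) * (fb * fb)) := by
      rw [hW, hW', sub_mul, mul_add, mul_add, map_sub, map_mul T.A, map_mul T.A (X ^ 2 - _), ← T.dp_sq,
        ← hD]
      have hDA : D * T.A fb = T.A fb * D := (T.A_comm fb T.dp).symm
      have hDA' : D * T.A fa = T.A fa * D := (T.A_comm fa T.dp).symm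
      have hab' : T.A fb * T.A fa = T.A fa * T.A fb := by rw [← map_mul, ← map_mul, mul_comm]
      have e1 : T.A fb * D * T.A fa = T.A fa * (T.A fb * D) := by
        rw [mul_assoc, hDA', ← mul_assoc, hab', mul_assoc]
      have e2 : T.A fb * D * (T.A fb * D) = D * D * T.A (fb * fb) := by
        rw [map_mul T.A, ← hDA, (show Commute (T.A fb) D from hDA.symm).mul_mul_mul_comm]
      rw [e1, e2]
      abel
    have hC : T.A (Polynomial.C ν) * P1 = ν • P1 := by
      rw [A, AlgHom.comp_apply, aeval_C, AlgHom.commutes, Algebra.algebraMap_eq_smul_one, smul_mul_assoc, one_mul]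
    rw [hKadj, hKp, mul_assoc, mul_assoc P1, ← mul_assoc W', h1, hab, hC, mul_smul_comm, hP1P1, mul_smul_comm]
  set K := T0 + Kp with hK
  have hKMK : Kᵀ * gram Q * K = ν • gram Q := by
    have c1 : Kpᵀ * gram Q * T0 = 0 := by
      rw [← hT0l, hKadj, mul_assoc, ← mul_assoc (P1 * W'), mul_assoc P1, hW'comm, ← mul_assoc P1, hP1P0,
        zero_mul, zero_mul, mul_zero]
    have c2 : T0ᵀ * gram Q * Kp = 0 := by
      rw [← hT0l, Matrix.transpose_mul, mul_assoc _ _ (gram Q), T.adjoint_p0, hKp, ← mul_assoc, mul_assoc _ _ W,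
        mul_assoc (gram Q), ← hWcomm, ← mul_assoc, ← mul_assoc, mul_assoc _ (T.Φ T.p0) P1, hP0P1, mul_zero]
    rw [hK, Matrix.transpose_add, add_mul, add_mul, mul_add, mul_add, c1, c2, hT0, hKK, add_zero, zero_add,
      ← smul_add, ← mul_add, hP1, map_sub, map_one, add_sub_cancel, mul_one]
  have hdet : K.det ≠ 0 := by
    intro h
    have h1 := congrArg Matrix.det hKMK
    rw [Matrix.det_mul, h, mul_zero, Matrix.det_smul] at h1
    exact mul_ne_zero (pow_ne_zero _ hν) C.gram_det_ne h1.symm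
  let g := Matrix.GeneralLinearGroup.mkOfDetNeZero K hdet
  have hsim : ∀ v, Q ((g : Matrix ι ι F) *ᵥ v) = ((Units.mk0 ν hν : Fˣ) : F) * Q v := by
    intro v
    show Q (K *ᵥ v) = ν * Q v
    refine mul_left_cancel₀ C.h2 ?_
    rw [mul_left_comm, ← CfsgLib.Classical.Quad.polar_self', ← CfsgLib.Classical.Quad.polar_self', polar_eq_dot,
      polar_eq_dot, Matrix.mulVec_mulVec, ← Matrix.vecMul_transpose, ← Matrix.dotProduct_mulVec,
      Matrix.mulVec_mulVec, ← mul_assoc, hKMK, Matrix.smul_mulVec, dotProduct_smul, smul_eq_mul]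
  let k : ↥(simG Q) := ⟨g, _, hsim⟩
  have hsq : C.sq k = -1 := by
    rw [sq, MonoidHom.comp_apply, C.mu_eq hsim, sqSign_eq_neg_one_iff]
    exact hns
  have hHK : K * T.Φ X = T.Φ X * K := by
    have e1 : T0 * T.Φ X = T0 := by
      conv_lhs => rw [← hT0r, mul_assoc, T.Φ_comm, T.X_mul_p0]
      exact hT0r
    have e2 : T.Φ X * T0 = T0 := by
      conv_lhs => rw [← hT0l, ← mul_assoc, T.X_mul_p0]
      exact hT0l
    rw [hK, add_mul, mul_add, e1, e2, hKp, mul_assoc W, hP1, T.Φ_comm, ← mul_assoc, hWcomm, mul_assoc]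
  have hcomm : k * isoToSim T.h = isoToSim T.h * k := by
    refine Subtype.ext (Units.ext ?_)
    show K * T.H = T.H * K
    rw [show T.H = T.Φ X from (aeval_X _).symm]
    exact hHK
  by_cases hfix : T.fixed = ⊥
  · refine ⟨k, hsq, ?_, hcomm⟩
    have h0 := T.p0_eq_zero hfix
    have hDdet : D.det ≠ 0 := fun h => by
      obtain ⟨v, hv, hv0⟩ := Matrix.exists_mulVec_eq_zero_iff.mpr h
      exact hv (T.dp_add_p0_injective (by rw [h0, add_zero]; exact hv0))
    refine C.eps_eq_one_of_skew (Matrix.GeneralLinearGroup.mkOfDetNeZero D hDdet) ?_ k ?_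
    · intro x y
      show polar Q (D *ᵥ x) y = -polar Q x (D *ᵥ y)
      rw [polar_mulVec_left T.adjoint_dp, Matrix.neg_mulVec, polar_neg_right, hD]
    · intro x
      show D *ᵥ (K *ᵥ x) = K *ᵥ (D *ᵥ x)
      rw [Matrix.mulVec_mulVec, Matrix.mulVec_mulVec, hK, mul_add, add_mul, hD]
      congr 2
      · conv_lhs => rw [← hT0l, ← mul_assoc, T.dp_mul_p0, zero_mul]
        conv_rhs => rw [← hT0r, mul_assoc, T.Φ_comm T.p0, T.dp_mul_p0, mul_zero]
      · rw [hKp, mul_assoc W, hP1, T.Φ_comm (1 - T.p0), ← mul_assoc, ← hWcomm, mul_assoc]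
  · rcases S.eps_sq k with he | he
    · exact ⟨k, hsq, he, hcomm⟩
    · obtain ⟨v, hv, hQv⟩ := T.exists_fixed_norm hfix 1
      have hv0 : Q v ≠ 0 := by rw [hQv]; exact one_ne_zero
      refine ⟨k * isoToSim (reflection hv0), ?_, ?_, ?_⟩
      · rw [map_mul, C.sq_isoToSim, hsq, mul_one]
      · rw [map_mul, C.eps_isoToSim, he, detHom_reflection, neg_mul_neg, one_mul]
      · rw [mul_assoc, ← map_mul, T.reflection_comm hv0 hv, map_mul, ← mul_assoc, hcomm, mul_assoc]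

theorem exists_z_fixed (h : T.fixed ≠ ⊥) :
    ∃ o : ↥(isometryGroup F ⇑Q), detHom o = 1 ∧ th o = -1 ∧ o * T.h = T.h * o := by
  obtain ⟨ν, hν, hns⟩ := exists_nonsquare' (F := F) C.h2
  obtain ⟨v, hv, hQv⟩ := T.exists_fixed_norm h 1
  obtain ⟨w, hw, hQw⟩ := T.exists_fixed_norm h ν
  have hv0 : Q v ≠ 0 := by rw [hQv]; exact one_ne_zero
  have hw0 : Q w ≠ 0 := by rw [hQw]; exact hν
  refine ⟨reflection hv0 * reflection hw0, ?_, ?_, ?_⟩
  · rw [map_mul, detHom_reflection, detHom_reflection, neg_mul_neg, one_mul]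
  · rw [map_mul, th, theta_reflection_of_square C.h2 one_ne_zero hv0 (by rw [hQv, mul_one]; exact IsSquare.one),
      theta_reflection_of_nonsquare C.h2 one_ne_zero hw0 (by rwa [hQw, one_mul]), mul_one]
  · rw [mul_assoc, T.reflection_comm hw0 hw, ← mul_assoc, T.reflection_comm hv0 hv, mul_assoc]

/-- The isometry of non-trivial spinor sign from a field quotient acting on a non-singular vector. -/
theorem exists_z_of_hom (h0 : T.Φ T.p0 = 0) {L : Type u} [Field L] [Finite L] [Algebra F L]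
    (π : F[X] →ₐ[F] L) (hπ : Function.Surjective π) (v : ι → F) (hQv : Q v ≠ 0)
    (wd : ∀ {f g : F[X]}, π f = π g → T.A f *ᵥ v = T.A g *ᵥ v) :
    ∃ o : ↥(isometryGroup F ⇑Q), detHom o = 1 ∧ th o = -1 ∧ o * T.h = T.h * o := by
  classical
  let φ : L →ₗ[F] (ι → F) :=
    { toFun := fun y => T.A (Function.surjInv hπ y) *ᵥ v
      map_add' := fun y z => by
        rw [← Matrix.add_mulVec, ← map_add]
        exact wd (by rw [map_add]; simp only [Function.surjInv_eq hπ])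
      map_smul' := fun c y => by
        rw [RingHom.id_apply, ← Matrix.smul_mulVec, ← map_smul]
        exact wd (by rw [map_smul]; simp only [Function.surjInv_eq hπ]) }
  have hφ : ∀ f, φ (π f) = T.A f *ᵥ v := fun f => wd (Function.surjInv_eq hπ _)
  set D := T.Φ T.dp with hD
  have hDinj : ∀ x, D *ᵥ x = 0 → x = 0 := fun x hx =>
    T.dp_add_p0_injective (by rw [h0, add_zero]; exact hx)
  set P : F[X] := X ^ 2 - Polynomial.C 4 with hP
  have hDD : ∀ x, D *ᵥ (D *ᵥ x) = T.A P *ᵥ x := fun x => by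
    rw [Matrix.mulVec_mulVec, T.dp_sq]
  have hAA : ∀ f g x, T.A f *ᵥ (T.A g *ᵥ x) = T.A (f * g) *ᵥ x := fun f g x => by
    rw [Matrix.mulVec_mulVec, map_mul]
  have hAD : ∀ f x, T.A f *ᵥ (D *ᵥ x) = D *ᵥ (T.A f *ᵥ x) := fun f x => by
    rw [Matrix.mulVec_mulVec, Matrix.mulVec_mulVec, T.A_comm]
  have pA : ∀ f x y, polar Q (T.A f *ᵥ x) y = polar Q x (T.A f *ᵥ y) := fun f x y =>
    polar_mulVec_left (T.adjoint_A f) x y
  have pD : ∀ x y, polar Q (D *ᵥ x) y = -polar Q x (D *ᵥ y) := fun x y => by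
    rw [hD, polar_mulVec_left T.adjoint_dp, Matrix.neg_mulVec, polar_neg_right]
  have key0 : ∀ f g, polar Q (T.A f *ᵥ v) (D *ᵥ (T.A g *ᵥ v)) = 0 := by
    intro f g
    have h1 : polar Q (T.A f *ᵥ v) (D *ᵥ (T.A g *ᵥ v)) = polar Q v (D *ᵥ (T.A (f * g) *ᵥ v)) := by
      rw [pA, hAD, hAA]
    have h3 : polar Q v (D *ᵥ (T.A (f * g) *ᵥ v)) = -polar Q v (D *ᵥ (T.A (f * g) *ᵥ v)) := by
      conv_rhs => rw [← neg_neg (polar Q v (D *ᵥ (T.A (f * g) *ᵥ v)))]
      rw [neg_neg, ← pD]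
      rw [polar_comm, ← hAD, pA]
    rw [h1]
    exact (mul_eq_zero.mp (show (2 : F) * _ = 0 by linear_combination h3)).resolve_left C.h2
  let τ : L →ₗ[F] F := (polarBilin Q v).comp φ
  have hτ : ∀ f, τ (π f) = polar Q v (T.A f *ᵥ v) := fun f => by
    show polar Q v (φ (π f)) = _
    rw [hφ]
  have hτ0 : τ ≠ 0 := fun e0 => by
    have h1 := hτ 1
    rw [e0, LinearMap.zero_apply, map_one, Matrix.one_mulVec, CfsgLib.Classical.Quad.polar_self'] at h1
    exact mul_ne_zero C.h2 hQv h1.symm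
  set δ := π P with hδ
  have hδ0 : δ ≠ 0 := fun e0 => by
    have h1 := hDinj _ (hDinj _ ((hDD v).trans ((wd (g := 0) (by rw [map_zero]; exact e0)).trans
      (by rw [map_zero, Matrix.zero_mulVec]))))
    exact hQv (by rw [h1, QuadraticMap.map_zero])
  obtain ⟨ν, hν, hns⟩ := exists_nonsquare' (F := F) C.h2
  obtain ⟨a, ha⟩ := FiniteField.norm_surjective F L ν
  have ha0 : a ≠ 0 := fun e0 => hν (by rw [← ha, e0, Algebra.norm_zero])
  let _ : Fintype L := Fintype.ofFinite _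
  have h2L : (2 : L) ≠ 0 := fun e0 => C.h2 ((algebraMap F L).injective (by
    rw [map_ofNat, map_zero]; exact e0))
  obtain ⟨α, β, hαβ⟩ := CfsgLib.OrthSpinor.binary_universal h2L (one_ne_zero) (neg_ne_zero.mpr hδ0) a
  obtain ⟨fa, rfl⟩ := hπ α
  obtain ⟨fb, rfl⟩ := hπ β
  obtain ⟨fi, hfi⟩ := hπ a⁻¹
  set fn := fa * fa - fb * fb * P with hfn
  have hπn : π fn = a := by
    rw [hfn, map_sub, map_mul, map_mul, map_mul, ← hαβ, hδ]; ring
  set W := T.A fa + T.A fb * D with hW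
  set W' := T.A fa - T.A fb * D with hW'
  have hWv : ∀ x, W *ᵥ x = T.A fa *ᵥ x + D *ᵥ (T.A fb *ᵥ x) := fun x => by
    rw [hW, Matrix.add_mulVec, ← Matrix.mulVec_mulVec, hAD]
  have hW'v : ∀ x, W' *ᵥ x = T.A fa *ᵥ x - D *ᵥ (T.A fb *ᵥ x) := fun x => by
    rw [hW', Matrix.sub_mulVec, ← Matrix.mulVec_mulVec, hAD]
  have pW : ∀ x y, polar Q (W *ᵥ x) y = polar Q x (W' *ᵥ y) := fun x y => by
    rw [hWv, hW'v, polar_add_left, polar_sub_right, pA, pD, pA, hAD, sub_eq_add_neg]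
  have hWD : ∀ x, W *ᵥ (D *ᵥ x) = D *ᵥ (W *ᵥ x) := fun x => by
    rw [hWv, hWv, Matrix.mulVec_add, hAD, hAD]
  have hW'D : ∀ x, W' *ᵥ (D *ᵥ x) = D *ᵥ (W' *ᵥ x) := fun x => by
    rw [hW'v, hW'v, Matrix.mulVec_sub, hAD, hAD]
  have hWW : ∀ x, W' *ᵥ (W *ᵥ x) = T.A fn *ᵥ x := fun x => by
    simp only [hWv, hW'v, Matrix.mulVec_add, hAA, hAD, hDD, hfn, map_sub, Matrix.sub_mulVec, mul_assoc,
      mul_comm]
    abel
  have hWW' : ∀ x, W *ᵥ (W' *ᵥ x) = T.A fn *ᵥ x := fun x => by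
    simp only [hWv, hW'v, Matrix.mulVec_sub, hAA, hAD, hDD, hfn, map_sub, Matrix.sub_mulVec, mul_assoc,
      mul_comm]
    abel
  let bs := Module.finBasis F L
  let rep := fun i => Function.surjInv hπ (bs i)
  have hrep : ∀ i, π (rep i) = bs i := fun i => Function.surjInv_eq hπ _
  let v0 := fun i => T.A (rep i) *ᵥ v
  let v1 := fun i => D *ᵥ (T.A (rep i) *ᵥ v)
  let v2 := fun i => W *ᵥ (D *ᵥ (T.A (rep i) *ᵥ v))
  have g0 : gramFam Q v0 = Matrix.of fun i j => τ (bs i * bs j) := by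
    ext i j
    show polar Q (v0 i) (v0 j) = τ (bs i * bs j)
    rw [← hrep, ← hrep, ← map_mul, hτ, pA, hAA]
  have pDD : ∀ f g, polar Q (D *ᵥ (T.A f *ᵥ v)) (D *ᵥ (T.A g *ᵥ v)) = τ (-δ * (π f * π g)) := by
    intro f g
    rw [pD, hDD, hAA, pA, hAA, neg_mul, map_neg, hδ, ← map_mul π, ← map_mul π, hτ]
    congr 4
    ring
  have g1 : gramFam Q v1 = Matrix.of fun i j => τ (-δ * (bs i * bs j)) := by
    ext i j
    show polar Q (v1 i) (v1 j) = _
    rw [pDD, hrep, hrep]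
    rfl
  have g2 : gramFam Q v2 = Matrix.of fun i j => τ (-δ * a * (bs i * bs j)) := by
    ext i j
    show polar Q (v2 i) (v2 j) = _
    rw [pW, hWW, hAD, hAA, pDD, map_mul π, hπn, hrep, hrep, Matrix.of_apply]
    congr 1
    ring
  obtain ⟨hd1, hG0⟩ := det_gram_tau bs τ hτ0 (-δ)
  obtain ⟨hd2, -⟩ := det_gram_tau bs τ hτ0 (-δ * a)
  rw [map_mul, ha] at hd2
  have hN : Algebra.norm F (-δ) ≠ 0 := Algebra.norm_ne_zero_iff.mpr (neg_ne_zero.mpr hδ0)
  have hdet0 : (gramFam Q v0).det ≠ 0 := by rw [g0]; exact hG0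
  have hdet1 : (gramFam Q v1).det ≠ 0 := by rw [g1, hd1]; exact mul_ne_zero hN hG0
  have hdet2 : (gramFam Q v2).det ≠ 0 := by rw [g2, hd2]; exact mul_ne_zero (mul_ne_zero hN hν) hG0
  obtain ⟨s1, hs1d, hs1t, hs1v, hs1o⟩ := C.exists_subspace_invol v1 hdet1
  obtain ⟨s2, hs2d, hs2t, hs2v, hs2o⟩ := C.exists_subspace_invol v2 hdet2
  refine ⟨s2 * s1, ?_, ?_, ?_⟩
  · rw [map_mul, hs1d, hs2d, ← mul_pow, neg_mul_neg, one_mul, one_pow]
  · have hu : Units.mk0 _ hdet2 = Units.mk0 ν hν * Units.mk0 _ hdet1 := Units.ext (by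
      simp only [Units.val_mul, Units.val_mk0, g1, g2, hd1, hd2]; ring)
    rw [map_mul, hs1t, hs2t, hu, map_mul]
    rw [show ∀ x y z : ℤˣ, x * (y * z) * (x * z) = y * ((x * x) * (z * z)) from fun x y z => by
      simp only [mul_comm, mul_left_comm], Int.units_mul_self, Int.units_mul_self, mul_one, mul_one,
      sqSign_eq_neg_one_iff]
    exact hns
  -- commutation
  have hlin1 : ∀ f, act Q s1 (D *ᵥ (T.A f *ᵥ v)) = -(D *ᵥ (T.A f *ᵥ v)) := by
    intro f
    have he1 : (Matrix.mulVecLin ((s1 : GL ι F) : Matrix ι ι F)).comp ((Matrix.mulVecLin D).comp φ) =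
        -((Matrix.mulVecLin D).comp φ) := bs.ext fun i => by
      simp only [LinearMap.comp_apply, Matrix.mulVecLin_apply, LinearMap.neg_apply]
      rw [← hrep, hφ]
      exact hs1v i
    have h1 := LinearMap.congr_fun he1 (π f)
    simp only [LinearMap.comp_apply, Matrix.mulVecLin_apply, LinearMap.neg_apply, hφ] at h1
    exact h1
  have hlin2 : ∀ f, act Q s2 (W *ᵥ (D *ᵥ (T.A f *ᵥ v))) = -(W *ᵥ (D *ᵥ (T.A f *ᵥ v))) := by
    intro f
    have he1 : (Matrix.mulVecLin ((s2 : GL ι F) : Matrix ι ι F)).comp ((Matrix.mulVecLin (W * D)).comp φ) =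
        -((Matrix.mulVecLin (W * D)).comp φ) := bs.ext fun i => by
      simp only [LinearMap.comp_apply, Matrix.mulVecLin_apply, LinearMap.neg_apply, ← Matrix.mulVec_mulVec]
      rw [← hrep, hφ]
      exact hs2v i
    have h1 := LinearMap.congr_fun he1 (π f)
    simp only [LinearMap.comp_apply, Matrix.mulVecLin_apply, LinearMap.neg_apply, hφ,
      ← Matrix.mulVec_mulVec] at h1
    exact h1
  set g := s2 * s1 with hg
  let K2 : Matrix ι ι F := W * W * T.A fi
  have hfix : ∀ f, T.A f *ᵥ v = T.A (fn * (fi * f)) *ᵥ v := fun f => wd (by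
    rw [map_mul, map_mul, hπn, hfi, ← mul_assoc, mul_inv_cancel₀ ha0, one_mul])
  have hgA : ∀ f, act Q g (T.A f *ᵥ v) = K2 *ᵥ (T.A f *ᵥ v) := by
    intro f
    rw [hg, act_mul, hs1o _ fun i => by
      show polar Q (D *ᵥ _) _ = 0
      rw [polar_comm]; exact key0 _ _]
    have e1 : T.A f *ᵥ v = W *ᵥ (T.A (fa * (fi * f)) *ᵥ v) -
        W *ᵥ (D *ᵥ (T.A (fb * (fi * f)) *ᵥ v)) := by
      rw [hfix f, ← hAA, ← hWW', hW'v, hAA, hAA, Matrix.mulVec_sub]
    conv_lhs => rw [e1, act_sub, hlin2]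
    rw [hs2o _ fun i => by
      show polar Q (W *ᵥ _) _ = 0
      rw [pW, hWW, hAA, polar_comm]; exact key0 _ _]
    simp only [K2, ← Matrix.mulVec_mulVec, sub_neg_eq_add, ← Matrix.mulVec_add]
    rw [hAA fi f, hWv (T.A (fi * f) *ᵥ v), hAA, hAA]
  have hgD : ∀ f, act Q g (D *ᵥ (T.A f *ᵥ v)) = K2 *ᵥ (D *ᵥ (T.A f *ᵥ v)) := by
    intro f
    rw [hg, act_mul, hlin1, act_neg]
    have e1 : D *ᵥ (T.A f *ᵥ v) = W *ᵥ (D *ᵥ (T.A (fa * (fi * f)) *ᵥ v)) -
        W *ᵥ (T.A (P * (fb * (fi * f))) *ᵥ v) := by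
      rw [hfix f, ← hAA, ← hWW', ← hWD, hW'v, Matrix.mulVec_sub, hDD, hAA, hAA, hAA, Matrix.mulVec_sub, mul_assoc P]
    conv_lhs => rw [e1, act_sub, hlin2]
    rw [hs2o _ fun i => by
      show polar Q (W *ᵥ _) _ = 0
      rw [pW, hWW, hAA, pD, neg_eq_zero]
      exact key0 _ _]
    simp only [K2, ← Matrix.mulVec_mulVec]
    conv_rhs => rw [hAD, hAA, hWD (T.A (fi * f) *ᵥ v), hWv (T.A (fi * f) *ᵥ v), Matrix.mulVec_add, hDD, hAA, hAA, hAA,
      Matrix.mulVec_add, mul_assoc P]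
    abel
  have hperp : ∀ x, (∀ f, polar Q (T.A f *ᵥ v) x = 0) → (∀ f, polar Q (D *ᵥ (T.A f *ᵥ v)) x = 0) →
      act Q g x = x := by
    intro x hx hx'
    rw [hg, act_mul, hs1o _ fun i => hx' _, hs2o _ fun i => ?_]
    show polar Q (W *ᵥ (D *ᵥ _)) x = 0
    rw [hWv, hAD, hAA, hAD, hDD, hAA, hAA, polar_add_left, hx', hx, add_zero]
  refine ext_act Q fun x => ?_
  rw [act_mul Q g T.h, act_mul Q T.h g]
  obtain ⟨c, hc⟩ := exists_coeff v0 hdet0 x
  obtain ⟨f, hf⟩ := hπ (∑ i, c i • bs i)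
  have hfv : T.A f *ᵥ v = ∑ i, c i • v0 i := by
    rw [← hφ, hf, map_sum]
    simp only [map_smul, ← hrep, hφ]
    rfl
  obtain ⟨c', hc'⟩ := exists_coeff v1 hdet1 (x - T.A f *ᵥ v)
  obtain ⟨f', hf'⟩ := hπ (∑ i, c' i • bs i)
  have hfv' : D *ᵥ (T.A f' *ᵥ v) = ∑ i, c' i • v1 i := by
    rw [← hφ, hf', map_sum, Matrix.mulVec_sum]
    simp only [map_smul, Matrix.mulVec_smul, ← hrep, hφ]
    rfl
  set y := x - T.A f *ᵥ v - D *ᵥ (T.A f' *ᵥ v) with hy
  have hy0 : ∀ f, polar Q (T.A f *ᵥ v) y = 0 := by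
    intro f1
    have he1 : (((polarBilin Q).flip y).comp φ) = 0 := bs.ext fun i => by
      show polar Q (φ (bs i)) y = 0
      rw [← hrep, hφ, hy, polar_sub_right, key0, sub_zero, hfv]
      exact hc i
    have h1 := LinearMap.congr_fun he1 (π f1)
    rw [LinearMap.comp_apply, hφ] at h1
    exact h1
  have hy1 : ∀ f, polar Q (D *ᵥ (T.A f *ᵥ v)) y = 0 := by
    intro f1
    have he1 : (((polarBilin Q).flip y).comp ((Matrix.mulVecLin D).comp φ)) = 0 := bs.ext fun i => by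
      show polar Q (D *ᵥ φ (bs i)) y = 0
      rw [← hrep, hφ, hy, hfv']
      exact hc' i
    have h1 := LinearMap.congr_fun he1 (π f1)
    rw [LinearMap.comp_apply, LinearMap.comp_apply, Matrix.mulVecLin_apply, hφ] at h1
    exact h1
  have hx : x = y + (T.A f *ᵥ v + D *ᵥ (T.A f' *ᵥ v)) := by rw [hy]; abel
  have hgx : act Q g x = y + K2 *ᵥ (T.A f *ᵥ v + D *ᵥ (T.A f' *ᵥ v)) := by
    rw [hx, act_add, act_add, hperp y hy0 hy1, hgA, hgD, Matrix.mulVec_add]
  have hK2 : ∀ q x, T.Φ q *ᵥ (K2 *ᵥ x) = K2 *ᵥ (T.Φ q *ᵥ x) := by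
    intro q x
    rw [Matrix.mulVec_mulVec, Matrix.mulVec_mulVec]
    congr 1
    show T.Φ q * (W * W * T.A fi) = W * W * T.A fi * T.Φ q
    have hWc : T.Φ q * W = W * T.Φ q := by
      rw [hW, mul_add, add_mul, ← T.A_comm fa q, ← mul_assoc, ← T.A_comm fb q, mul_assoc, hD, T.Φ_comm q,
        ← mul_assoc]
    rw [mul_assoc (W * W), T.A_comm, ← mul_assoc, ← mul_assoc, hWc, mul_assoc W, hWc, ← mul_assoc, mul_assoc]
  have hsp : ∀ x, T.Φ T.sp *ᵥ x = T.A X *ᵥ x := fun x => by rw [A, AlgHom.comp_apply, aeval_X]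
  have c1 : act Q g (T.Φ T.sp *ᵥ x) = T.Φ T.sp *ᵥ act Q g x := by
    have hy' : act Q g (T.Φ T.sp *ᵥ y) = T.Φ T.sp *ᵥ y := hperp _
      (fun f => by rw [hsp, ← pA, hAA]; exact hy0 _)
      (fun f => by rw [hsp, ← pA, hAD, hAA]; exact hy1 _)
    rw [hgx, Matrix.mulVec_add, hK2, hx, Matrix.mulVec_add, act_add, hy', Matrix.mulVec_add]
    simp only [hsp, hAA, hAD]
    rw [act_add, hgA, hgD, Matrix.mulVec_add]
  have c2 : act Q g (D *ᵥ x) = D *ᵥ act Q g x := by
    have hy' : act Q g (D *ᵥ y) = D *ᵥ y := hperp _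
      (fun f => by rw [← neg_eq_zero, ← pD]; exact hy1 _)
      (fun f => by rw [← neg_eq_zero, ← pD, hDD, hAA]; exact hy0 _)
    rw [hgx, Matrix.mulVec_add, hD, hK2, ← hD, hx, Matrix.mulVec_add, act_add, hy', Matrix.mulVec_add, hDD,
      hAA, act_add, hgA, hgD, Matrix.mulVec_add]
  show act Q g (T.H *ᵥ x) = T.H *ᵥ act Q g x
  have h2H : ∀ z, (2 : F) • (T.H *ᵥ z) = T.Φ T.sp *ᵥ z + D *ᵥ z := fun z => by
    rw [← Matrix.add_mulVec, hD, ← map_add, sp, dp, show X + T.hi + (X - T.hi) = X + X by abel, map_add,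
      show T.Φ X = T.H from aeval_X _, Matrix.add_mulVec, two_smul]
  refine smul_right_injective _ C.h2 ?_
  show (2 : F) • act Q g (T.H *ᵥ x) = (2 : F) • (T.H *ᵥ act Q g x)
  rw [← act_smul, h2H, h2H, act_add, c1, c2]

theorem exists_z_free (h : T.fixed = ⊥) :
    ∃ o : ↥(isometryGroup F ⇑Q), detHom o = 1 ∧ th o = -1 ∧ o * T.h = T.h * o := by
  classical
  have h0 := T.p0_eq_zero h
  have hP1 : T.Φ (1 - T.p0) = 1 := by rw [map_sub, map_one, h0, sub_zero]
  have heq : ∀ {f g : F[X]}, Ideal.Quotient.mk T.ann f = Ideal.Quotient.mk T.ann g → T.A f = T.A g :=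
    fun {f g} e => by simpa [hP1] using T.eq_iff.mp e
  haveI : Nonempty ι := Fintype.card_pos_iff.mp (by have := C.two_le_card; omega)
  haveI : Nontrivial T.Rg := Ideal.Quotient.nontrivial_iff.mpr fun e => by
    have h1 : (1 : F[X]) ∈ T.ann := e ▸ Submodule.mem_top
    rw [T.mem_ann, map_one, one_mul, hP1] at h1
    exact one_ne_zero h1
  haveI : IsArtinianRing T.Rg := inferInstance
  obtain ⟨M, hM⟩ := Ideal.exists_maximal T.Rg
  let ms : MaximalSpectrum T.Rg := ⟨M, hM⟩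
  set e : T.Rg := (IsArtinianRing.equivPi T.Rg).symm (Pi.single ms 1) with he
  have hem : ∀ m : MaximalSpectrum T.Rg, Ideal.Quotient.mk m.asIdeal e =
      (Pi.single ms 1 : ∀ m : MaximalSpectrum T.Rg, T.Rg ⧸ m.asIdeal) m := fun m =>
    congrFun ((IsArtinianRing.equivPi T.Rg).apply_symm_apply (Pi.single ms 1)) m
  have hke : ∀ y ∈ M, y * e = 0 := by
    intro y hy
    refine (IsArtinianRing.equivPi T.Rg).injective ?_
    rw [map_zero]
    funext m
    show Ideal.Quotient.mk m.asIdeal (y * e) = 0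
    rw [map_mul, hem]
    by_cases hms : m = ms
    · subst hms
      rw [show Ideal.Quotient.mk ms.asIdeal y = 0 from Ideal.Quotient.eq_zero_iff_mem.mpr hy, zero_mul]
    · rw [Pi.single_eq_of_ne hms, mul_zero]
  have hee : e * e = e := by
    rw [he, ← map_mul, ← Pi.single_mul, one_mul]
  have he0 : e ≠ 0 := by
    intro e0
    have h1 := hem ms
    rw [e0, map_zero, Pi.single_eq_same] at h1
    haveI := hM
    let _ := Ideal.Quotient.field M
    exact one_ne_zero h1.symm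
  obtain ⟨fe, hfe⟩ := Ideal.Quotient.mk_surjective e
  set E := T.A fe with hE
  have hEE : E * E = E := by
    rw [hE, ← map_mul]
    exact heq (by rw [map_mul, hfe, hee])
  have hE0 : E ≠ 0 := by
    intro e0
    refine he0 ?_
    rw [← hfe, Ideal.Quotient.eq_zero_iff_mem, T.mem_ann, ← hE, e0, zero_mul]
  set R := LinearMap.range (Matrix.mulVecLin E)
  have hR : R ≠ ⊥ := fun e0 => hE0 (Matrix.toLin'.injective (LinearMap.ext fun x => by
    have h1 : E *ᵥ x ∈ R := ⟨x, rfl⟩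
    rw [e0, Submodule.mem_bot] at h1
    simpa using h1))
  have hRfix : ∀ x ∈ R, E *ᵥ x = x := by
    rintro _ ⟨y, rfl⟩
    rw [Matrix.mulVecLin_apply, Matrix.mulVec_mulVec, hEE]
  obtain ⟨v, hvR, hQv⟩ := CfsgLib.OrthCrit.exists_anisotropic_mem (S := R) (fun x hx hxy => C.hnd x fun y => by
    rw [polar_comm, ← hRfix x hx, ← polar_mulVec_left (T.adjoint_A fe)]
    exact hxy _ ⟨y, rfl⟩) hR
  have hEv : E *ᵥ v = v := hRfix v hvR
  haveI := hM
  haveI hfin : Finite (T.Rg ⧸ M) := Finite.of_surjective _ Ideal.Quotient.mk_surjective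
  let _ : Field (T.Rg ⧸ M) := Ideal.Quotient.field M
  let π : F[X] →ₐ[F] (T.Rg ⧸ M) := (Ideal.Quotient.mkₐ F M).comp (Ideal.Quotient.mkₐ F T.ann)
  have hπ : Function.Surjective π := Ideal.Quotient.mk_surjective.comp Ideal.Quotient.mk_surjective
  have wd : ∀ {f g : F[X]}, π f = π g → T.A f *ᵥ v = T.A g *ᵥ v := by
    intro f g hfg
    have h1 : Ideal.Quotient.mk T.ann (f - g) ∈ M := by
      rw [← Ideal.Quotient.eq_zero_iff_mem]
      exact (map_sub π f g).trans (sub_eq_zero.mpr hfg)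
    have h3 : T.A ((f - g) * fe) = T.A 0 := heq (by rw [map_mul, hfe, hke _ h1, map_zero])
    have h5 : T.A f * E = T.A g * E := by
      rwa [map_mul, map_sub, map_zero, sub_mul, sub_eq_zero] at h3
    rw [← hEv, Matrix.mulVec_mulVec, Matrix.mulVec_mulVec, h5]
  exact T.exists_z_of_hom h0 π hπ v hQv (fun {_ _} e => wd e)

theorem exists_z : ∃ o : ↥(isometryGroup F ⇑Q), detHom o = 1 ∧ th o = -1 ∧ o * T.h = T.h * o := by
  by_cases h : T.fixed = ⊥
  · exact T.exists_z_free h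
  · exact T.exists_z_fixed h

end SS

end Ctx

end CfsgLib.PGOQuot
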