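import Cfsg.Agent.Lib.PGOQuot.Quotients
import Cfsg.Agent.Lib.PGOQuot.GraphInvol
import Cfsg.Agent.Lib.AutPSL.Split

/-!
The number of `PΩ`-classes in the `Inndiag`-class of an involutory graph automorphism.
-/

set_option autoImplicit false

namespace CfsgLib.PGOQuot

open Matrix Cfsg QuadraticMap Module
open CfsgLib.OrthSpinor

universe u

variable {ι : Type} [Fintype ι] [DecidableEq ι] {F : Type u} [Field F] [Fintype F]
variable {Q : QuadraticForm F (ι → F)}

namespace Ctx.Sim

variable {C : Ctx Q} (S : Sim C)

include S in
theorem graph_split_count (γ : ↥(simG Q)) (heps : C.eps γ = -1) (hγ2 : simAut γ * simAut γ = 1) :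
    (splitClassCount ((C.eps.ker).map simAut) (Cfsg.Inn (POmega F ⇑Q)) (simAut γ) = 1 ∨
      splitClassCount ((C.eps.ker).map simAut) (Cfsg.Inn (POmega F ⇑Q)) (simAut γ) = 2) ∧
    (th (negI (Q := Q)) = 1 →
      splitClassCount ((C.eps.ker).map simAut) (Cfsg.Inn (POmega F ⇑Q)) (simAut γ) = 2) := by
  set G := (C.eps.ker).map simAut with hG
  set T := Cfsg.Inn (POmega F ⇑Q) with hT
  have hTG : T ≤ G := by
    rintro _ ⟨x, rfl⟩
    induction x using QuotientGroup.induction_on with
    | _ w =>
      refine ⟨isoToSim w.1, ?_, simAut_omega w⟩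
      show C.eps _ = 1
      rw [C.eps_isoToSim]
      exact ((OrthSpinor.mem_Omega_iff C.h2 C.nondeg C.two_le_card one_ne_zero _).mp w.2).1
  rw [CfsgLib.AutPSL.splitClassCount_eq_relIndex G T hTG (fun h _ k hk => (innNormal _).conj_mem k hk h)]
  set R := (G ⊓ Subgroup.centralizer {simAut γ}) ⊔ T with hR
  have hB : th (negI (Q := Q)) = 1 → R.relIndex G = 2 := by
    intro h
    have hz := z_ne_one (C := C) h
    have hout : ∀ k : ↥(simG Q), simAut k ∈ R → outer k * outer γ = outer γ * outer k := by
      intro k hk
      have hle : R ≤ (Subgroup.centralizer {outer γ}).comap (QuotientGroup.mk' T) := by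
        refine sup_le ?_ ?_
        · rintro x ⟨-, hx⟩
          rw [Subgroup.mem_comap, Subgroup.mem_centralizer_singleton_iff]
          have hx' := congrArg (QuotientGroup.mk' T) (Subgroup.mem_centralizer_singleton_iff.mp hx)
          rw [map_mul, map_mul] at hx'
          exact hx'
        · intro x hx
          rw [Subgroup.mem_comap, Subgroup.mem_centralizer_singleton_iff,
            QuotientGroup.mk'_apply, (QuotientGroup.eq_one_iff x).mpr hx, one_mul, mul_one]
      exact Subgroup.mem_centralizer_singleton_iff.mp (hle hk)
    -- an element with image `z`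
    obtain ⟨c, hc⟩ := exists_scal_of_simAut_eq_one C.h2 C.hnd C.five_le_card
      (g := γ * γ) (by rw [map_mul, hγ2])
    obtain ⟨o, hod, hot, hcomm⟩ := C.exists_commuting_z γ heps c (Subtype.ext hc)
    have hko : simAut (isoToSim o) ∈ R := by
      refine Subgroup.mem_sup_left ⟨⟨isoToSim o, (C.eps_isoToSim o).trans hod, rfl⟩, ?_⟩
      refine Subgroup.mem_centralizer_singleton_iff.mpr ?_
      rw [← map_mul, ← map_mul, hcomm]
    have hzmem : outer (isoToSim o) = C.z := C.outer_proper_of_th hod hot
    refine Exists.elim (exists_hom_on_map simAut C.eps.ker R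
      ((C.sq).comp (C.eps.ker).subtype) ?_ ?_) fun φ hφ => by
        rw [relIndex_eq_card _ _ φ hφ.1 hφ.2]
        simp
    · intro x
      rcases Int.units_eq_one_or x with rfl | rfl
      · exact ⟨1, map_one _⟩
      · exact ⟨⟨S.g, S.heps⟩, S.hsq⟩
    · rintro ⟨k, hk⟩
      show simAut k ∈ R ↔ C.sq k = 1
      constructor
      · intro hkR
        rcases Int.units_eq_one_or (C.sq k) with h1 | h1
        · exact h1
        exfalso
        have hbz : S.b * C.z = C.z * S.b := S.b_z (by
          rcases Int.units_eq_one_or (th S.u) with h1 | h1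
          · exact Or.inl (S.b_sq_one (Or.inl h1))
          · exact Or.inr (S.b_sq h1))
        have hc0 := hout k hkR
        have hkb : outer k ∈ ({S.b⁻¹, C.z * S.b⁻¹} : Set (Out Q)) := by
          obtain ⟨e, he, h'⟩ := S.outer_cases k
          rcases h' with ⟨h3, -, -⟩ | ⟨h3, -, -⟩ | ⟨-, -, h3⟩ | ⟨-, h3, -⟩
          · rw [h1] at h3; exact absurd h3 (by decide)
          · rw [h1] at h3; exact absurd h3 (by decide)
          · rcases he with rfl | rfl
            · exact Or.inl (by rw [h3, one_mul])
            · exact Or.inr h3
          · rw [show C.eps k = 1 from hk] at h3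
            exact absurd (congrArg Units.val h3) (fun e => C.h2 (by
              simp at e
              linear_combination e))
        -- commuting with `b`
        have hzc : ∀ x : Out Q, x * C.z = C.z * x → Commute x (outer k) → Commute x S.b := by
          intro x hxz hxk
          rcases hkb with h3 | h3 <;> rw [h3] at hxk
          · simpa using hxk.inv_right
          · have h4 : Commute x (C.z⁻¹ * (C.z * S.b⁻¹)) := (Commute.inv_right hxz).mul_right hxk
            rw [inv_mul_cancel_left] at h4
            simpa using h4.inv_right
        have hγb : Commute (outer γ) (outer k) := hc0.symm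
        have hbad : ¬ Commute C.t S.b := by
          intro h3
          have h4 := S.b_t
          rw [← h3.eq, mul_inv_cancel_right] at h4
          exact hz (mul_left_cancel (h4.symm.trans (mul_one C.t).symm))
        refine hbad ?_
        obtain ⟨e, he, h'⟩ := S.outer_cases γ
        have hne : (1 : Fˣ) ≠ -1 := fun e => C.h2 (by
          have := congrArg Units.val e
          simp at this
          linear_combination this)
        have hez : e * C.z = C.z * e := by rcases he with rfl | rfl <;> simp
        have heb : Commute e S.b := by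
          rcases he with rfl | rfl
          · exact Commute.one_left _
          · exact hbz.symm
        rcases h' with ⟨-, h3, -⟩ | ⟨-, -, h3⟩ | ⟨-, h3, -⟩ | ⟨-, -, h3⟩
        · rw [heps] at h3; exact absurd h3.symm hne
        · rw [h3] at hγb
          have h5 := hzc (e * C.t) (((show Commute e C.z from hez).mul_left C.t_mul_z).eq) hγb
          have h6 := (heb.inv_left).mul_left h5
          rwa [inv_mul_cancel_left] at h6
        · rw [heps] at h3; exact absurd h3.symm hne
        · rw [h3] at hγb
          have h5 := hzc (e * C.t * S.b⁻¹)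
            ((((show Commute e C.z from hez).mul_left C.t_mul_z).mul_left
              (Commute.inv_left hbz)).eq) hγb
          have h6 := (heb.inv_left).mul_left (h5.mul_left (Commute.refl S.b))
          rwa [inv_mul_cancel_right, inv_mul_cancel_left] at h6
      · intro h1
        obtain ⟨c', o', rfl⟩ := C.exists_decomp h1
        have hd' : detHom o' = 1 := by
          have := show C.eps (scalSim c' * isoToSim o') = 1 from hk
          rwa [map_mul, C.eps_scalSim, C.eps_isoToSim, one_mul] at this
        have hout' : outer (scalSim c' * isoToSim o') = outer (isoToSim o') := by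
          rw [map_mul, C.outer_scal, one_mul]
        rcases C.outer_proper hd' with ⟨h3, -⟩ | ⟨h3, -⟩
        · exact Subgroup.mem_sup_right ((mem_map_Inn_iff _).mpr (hout'.trans h3))
        · have h4 : simAut (scalSim c' * isoToSim o' * (isoToSim o)⁻¹) ∈ R := by
            refine Subgroup.mem_sup_right ((mem_map_Inn_iff _).mpr ?_)
            rw [map_mul, map_inv, hout', h3, hzmem, mul_inv_cancel]
          have h5 := R.mul_mem h4 hko
          rwa [← map_mul, inv_mul_cancel_right] at h5
  refine ⟨?_, hB⟩
  rcases Int.units_eq_one_or (th (negI (Q := Q))) with h | h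
  · exact Or.inr (hB h)
  · obtain ⟨φ, hφ, hker⟩ := S.proper_two h
    have hidx : T.relIndex G = 2 := by rw [relIndex_eq_card _ _ φ hφ hker]; simp
    have hdvd : R.relIndex G ∣ T.relIndex G := Subgroup.relIndex_dvd_of_le_left (L := G) le_sup_right
    rw [hidx] at hdvd
    exact (Nat.dvd_prime Nat.prime_two).mp hdvd

end Ctx.Sim

end CfsgLib.PGOQuot
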