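import Cfsg.Agent.Lib.PGOQuot.GraphSplit
import Cfsg.Agent.Lib.PGOQuot.Skew

/-!
In dimension `4l`, no proper similarity with non-square multiplier centralises an involutory graph
automorphism modulo scalars; hence the splitting into two classes when `-1` is outside `Ω`.
-/

set_option autoImplicit false

namespace CfsgLib.PGOQuot

open Matrix Cfsg QuadraticMap Module
open CfsgLib.OrthSpinor

universe u

variable {ι : Type} [Fintype ι] [DecidableEq ι] {F : Type u} [Field F]

section Matrices

open Polynomial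

/-- `charpoly A * charpoly (-A)` for `A` squaring to a scalar. -/
theorem charpoly_mul_charpoly_neg (A : Matrix ι ι F) (lam : F) (hA : A * A = lam • (1 : Matrix ι ι F)) :
    A.charpoly * (-A).charpoly = (X ^ 2 - C lam) ^ Fintype.card ι := by
  have h1 : charmatrix A * charmatrix (-A) = Matrix.scalar ι (X ^ 2 - C lam) := by
    rw [charmatrix, charmatrix, map_neg, sub_neg_eq_add, sub_mul, mul_add, mul_add,
      ← (Matrix.scalar_commute X (fun _ => Commute.all _ _) (C.mapMatrix A)).eq, ← map_mul (Matrix.scalar ι),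
      ← map_mul C.mapMatrix, hA, map_sub (Matrix.scalar ι), pow_two]
    have h : C.mapMatrix (lam • (1 : Matrix ι ι F)) = Matrix.scalar ι (C lam) := by
      ext i j
      by_cases hij : i = j <;> simp [hij]
    rw [h]
    abel
  rw [Matrix.charpoly, Matrix.charpoly, ← Matrix.det_mul, h1, Matrix.scalar_apply, Matrix.det_diagonal,
    Finset.prod_const, Finset.card_univ]

/-- The determinant of `A` with `A ^ 2 = lam` and both signs of eigenvalue of equal multiplicity. -/
theorem det_of_sq_scalar {n : ℕ} (hι : Fintype.card ι = 2 * n) (h2 : (2 : F) ≠ 0)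
    (A : Matrix ι ι F) (lam : F) (hA : A * A = lam • (1 : Matrix ι ι F))
    (h : ¬ IsSquare lam ∨ ∃ k : GL ι F, (k : Matrix ι ι F) * A = -A * (k : Matrix ι ι F)) :
    A.det = (-lam) ^ n := by
  have hmul := charpoly_mul_charpoly_neg A lam hA
  have hmon : ((X : F[X]) ^ 2 - C lam).Monic := monic_X_pow_sub_C lam two_ne_zero
  have hpoly : A.charpoly = (X ^ 2 - C lam) ^ n := by
    rcases h with h | ⟨k, hk⟩
    · have hirr : Irreducible ((X : F[X]) ^ 2 - C lam) := by
        refine irreducible_of_degree_le_three_of_not_isRoot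
          (by rw [natDegree_X_pow_sub_C]; simp) fun x hx => h ⟨x, ?_⟩
        rw [IsRoot, eval_sub, eval_pow, eval_X, eval_C, sub_eq_zero] at hx
        rw [← hx, _root_.sq]
      obtain ⟨i, -, hi⟩ := (dvd_prime_pow hirr.prime _).mp (Dvd.intro _ hmul)
      have hi' := eq_of_monic_of_associated A.charpoly_monic (hmon.pow i) hi
      have hdeg := congrArg natDegree hi'
      rw [A.charpoly_natDegree_eq_dim, natDegree_pow, natDegree_X_pow_sub_C, hι] at hdeg
      rw [hi', show i = n by omega]
    · have hconj : (-A).charpoly = A.charpoly := by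
        rw [← Matrix.charpoly_units_conj k A, hk, Matrix.mul_assoc (-A), ← Matrix.coe_units_inv, ← Units.val_mul,
          mul_inv_cancel, Units.val_one, Matrix.mul_one]
      rw [hconj, hι, mul_comm 2 n, pow_mul, pow_two, pow_two] at hmul
      rcases mul_self_eq_mul_self_iff.mp hmul with e | e
      · rw [e, pow_two]
      · exfalso
        have hl := congrArg leadingCoeff e
        rw [leadingCoeff_neg, A.charpoly_monic.leadingCoeff,
          ← pow_two, (hmon.pow n).leadingCoeff] at hl
        exact h2 (by linear_combination hl)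
  rw [Matrix.det_eq_sign_charpoly_coeff, hpoly, hι, pow_mul, neg_one_sq, one_pow, one_mul,
    coeff_zero_eq_eval_zero, eval_pow, eval_sub, eval_pow, eval_X, eval_C, zero_pow two_ne_zero, zero_sub]

end Matrices

/-- `a ↦ P₊ + a P₋` for an involution `A`. -/
def involHom (h2 : (2 : F) ≠ 0) (A : Matrix ι ι F) (hA : A * A = 1) : F →* Matrix ι ι F where
  toFun a := ((1 + a) / 2) • (1 : Matrix ι ι F) + ((1 - a) / 2) • A
  map_one' := by
    rw [sub_self, zero_div, zero_smul, add_zero, one_add_one_eq_two, div_self h2, one_smul]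
  map_mul' a b := by
    simp only [mul_add, add_mul, Matrix.smul_mul, Matrix.mul_smul, Matrix.one_mul, Matrix.mul_one, hA,
      smul_smul]
    match_scalars <;> field_simp <;> ring

/-- An involutive isometry of determinant `-1` and a commuting similarity: the multiplier is a square. -/
theorem isSquare_of_commute_invol [Fintype F] (h2 : (2 : F) ≠ 0) (M A k : Matrix ι ι F) (hM : M.det ≠ 0)
    (hA : A * A = 1) (hAM : Aᵀ * M = M * A) (hdet : A.det = -1) (ν : Fˣ)
    (hk : kᵀ * M * k = (ν : F) • M) (hcomm : k * A = A * k) : IsSquare (ν : F) := by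
  set φ := involHom h2 A hA with hφ
  set P := φ 0 with hP
  set R := (1 : Matrix ι ι F) - P with hR
  have hPv : P = (2⁻¹ : F) • (1 : Matrix ι ι F) + (2⁻¹ : F) • A := by
    simp [hP, hφ, involHom]
  have hPP : P * P = P := by rw [hP, ← map_mul, mul_zero]
  have hPM : Pᵀ * M = M * P := by
    simp [hPv, Matrix.transpose_add, Matrix.transpose_smul, Matrix.add_mul, Matrix.mul_add, hAM]
  have hRM : Rᵀ * M = M * R := by
    rw [hR, Matrix.transpose_sub, Matrix.transpose_one, Matrix.sub_mul, Matrix.mul_sub, hPM,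
      Matrix.one_mul, Matrix.mul_one]
  have hkP : k * P = P * k := by
    simp [hPv, Matrix.mul_add, Matrix.add_mul, hcomm]
  have hkR : k * R = R * k := by rw [hR, Matrix.mul_sub, Matrix.sub_mul, hkP, Matrix.mul_one, Matrix.one_mul]
  have hPR : P * R = 0 := by rw [hR, Matrix.mul_sub, Matrix.mul_one, hPP, sub_self]
  have hRP : R * P = 0 := by rw [hR, Matrix.sub_mul, Matrix.one_mul, hPP, sub_self]
  have hRR : R * R = R := by rw [hR, Matrix.mul_sub, Matrix.mul_one, ← hR, hRP, sub_zero]
  have hν : φ (ν : F) = P + (ν : F) • R := by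
    rw [hR, hPv, hφ]
    simp only [involHom, MonoidHom.coe_mk, OneHom.coe_mk, smul_sub, smul_add, smul_smul]
    match_scalars <;> field_simp <;> ring
  have key : (P + k * R)ᵀ * M * (P + k * R) = M * φ (ν : F) := by
    have t1 : Pᵀ * M * (k * R) = 0 := by
      rw [hPM, Matrix.mul_assoc, ← Matrix.mul_assoc P, ← hkP, Matrix.mul_assoc k, hPR, Matrix.mul_zero,
        Matrix.mul_zero]
    have t2 : (k * R)ᵀ * M * P = 0 := by
      rw [hkR, Matrix.transpose_mul, Matrix.mul_assoc kᵀ, hRM, Matrix.mul_assoc, Matrix.mul_assoc, hRP,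
        Matrix.mul_zero, Matrix.mul_zero]
    have t3 : Pᵀ * M * P = M * P := by rw [hPM, Matrix.mul_assoc, hPP]
    have t4 : (k * R)ᵀ * M * (k * R) = (ν : F) • (M * R) := by
      rw [Matrix.transpose_mul, Matrix.mul_assoc Rᵀ, Matrix.mul_assoc Rᵀ, ← Matrix.mul_assoc (kᵀ * M), hk,
        Matrix.smul_mul, Matrix.mul_smul, ← Matrix.mul_assoc, hRM, Matrix.mul_assoc, hRR]
    rw [Matrix.transpose_add, Matrix.add_mul, Matrix.add_mul, Matrix.mul_add, Matrix.mul_add, t1, t2, t3,
      t4, add_zero, zero_add, hν, Matrix.mul_add, Matrix.mul_smul]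
  have hd := congrArg Matrix.det key
  rw [Matrix.det_mul, Matrix.det_mul, Matrix.det_mul, Matrix.det_transpose] at hd
  set d := (P + k * R).det
  have hfν : (φ (ν : F)).det = d * d := mul_left_cancel₀ hM (by rw [← hd]; ring)
  set f : Fˣ →* Fˣ := Units.map ((Matrix.detMonoidHom).comp φ) with hf
  obtain ⟨j, hj⟩ := f.map_cyclic
  have hneg : f (-1) = -1 := by
    refine Units.ext ?_
    show Matrix.det (φ ((-1 : Fˣ) : F)) = _
    rw [Units.val_neg, Units.val_one, show φ (-1 : F) = A by
      simp [hφ, involHom, one_add_one_eq_two, h2], hdet]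
  have hjodd : Odd j := by
    by_contra he
    rw [Int.not_odd_iff_even] at he
    have := (hj (-1)).symm.trans hneg
    rw [he.neg_one_zpow] at this
    have h' := congrArg Units.val this
    rw [Units.val_one, Units.val_neg, Units.val_one] at h'
    exact h2 (by linear_combination h')
  have hsq : sqSign (ν ^ j) = 1 := by
    rw [← hj, sqSign_eq_one_iff]
    exact ⟨d, hfν⟩
  rw [map_zpow] at hsq
  rcases Int.units_eq_one_or (sqSign ν) with h | h
  · exact (sqSign_eq_one_iff ν).mp h
  · rw [h, hjodd.neg_one_zpow] at hsq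
    exact absurd hsq (by decide)

namespace Ctx

variable [Fintype F] {Q : QuadraticForm F (ι → F)} (C : Ctx Q)

/-- The Gram matrix of the polar form. -/
noncomputable abbrev gram (Q : QuadraticForm F (ι → F)) : Matrix ι ι F :=
  LinearMap.BilinForm.toMatrix' (polarBilin Q)

theorem gram_sim (g : ↥(simG Q)) :
    ((g : GL ι F) : Matrix ι ι F)ᵀ * gram Q * ((g : GL ι F) : Matrix ι ι F) = (C.mu g : F) • gram Q := by
  rw [gram, ← LinearMap.toMatrix'_toLin' ((g : GL ι F) : Matrix ι ι F), ← LinearMap.BilinForm.toMatrix'_comp,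
    ← map_smul]
  congr 1
  refine LinearMap.ext fun x => LinearMap.ext fun y => ?_
  simp only [LinearMap.BilinForm.comp_apply, LinearMap.smul_apply, Matrix.toLin'_apply,
    polarBilin_apply_apply, smul_eq_mul]
  simp only [polar, ← Matrix.mulVec_add, C.mu_spec]
  ring

omit [Fintype F] in
include C in
theorem gram_det_ne : (gram Q).det ≠ 0 := by
  intro h
  obtain ⟨v, hv, hv0⟩ := Matrix.exists_mulVec_eq_zero_iff.mpr h
  refine hv (C.hnd v fun y => ?_)
  have h1 : polarBilin Q y v = 0 := by
    conv_lhs => rw [← Matrix.toBilin'_toMatrix' (polarBilin Q : LinearMap.BilinForm F (ι → F))]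
    rw [Matrix.toBilin'_apply', show LinearMap.BilinForm.toMatrix' (polarBilin Q) *ᵥ v = 0 from hv0,
      dotProduct_zero]
  rw [polar_comm]
  exact h1

include C in
/-- In dimension `4l`: a proper similarity centralising an involutory improper one modulo scalars has
square multiplier. -/
theorem sq_eq_one_of_commute (hn : Even C.n) (g k : ↥(simG Q)) (hg : C.eps g = -1) (lam c : Fˣ)
    (hgg : g * g = scalSim lam) (hkg : k * g = scalSim c * (g * k)) : C.sq k = 1 := by
  have hne : (1 : Fˣ) ≠ -1 := fun e => C.h2 (by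
    have := congrArg Units.val e
    simp at this
    linear_combination this)
  have hgM : ((g : GL ι F) : Matrix ι ι F) * ((g : GL ι F) : Matrix ι ι F) =
      (lam : F) • (1 : Matrix ι ι F) := by
    rw [← Units.val_mul, show (g : GL ι F) * (g : GL ι F) = scal lam from congrArg Subtype.val hgg]
    ext i j
    by_cases hij : i = j <;> simp [scal, hij]
  have hmu : C.mu g = lam ∨ C.mu g = -lam := by
    have h := congrArg C.mu hgg
    rw [map_mul, C.mu_scalSim] at h
    rcases mul_self_eq_mul_self_iff.mp (congrArg Units.val h) with h1 | h1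
    · exact Or.inl (Units.ext h1)
    · exact Or.inr (Units.ext (by rw [h1, Units.val_neg]))
  have hbad : ((g : GL ι F) : Matrix ι ι F).det = (-(lam : F)) ^ C.n → False := by
    intro hd
    refine hne (?_ : (1 : Fˣ) = -1)
    rw [← hg, C.eps_apply, eq_comm, mul_inv_eq_one]
    refine Units.ext ?_
    rw [Matrix.GeneralLinearGroup.val_det_apply, hd, hn.neg_pow, Units.val_pow_eq_pow_val]
    rcases hmu with h | h <;> rw [h]
    rw [Units.val_neg, hn.neg_pow]
  have hc : c = 1 ∨ c = -1 := by
    have h := congrArg C.mu hkg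
    rw [map_mul, map_mul, C.mu_scalSim, map_mul, mul_comm (C.mu g)] at h
    have h' : c * c = 1 := mul_eq_right.mp h.symm
    rcases mul_self_eq_one_iff.mp (congrArg Units.val h') with h1 | h1
    · exact Or.inl (Units.ext h1)
    · exact Or.inr (Units.ext (by rw [h1, Units.val_neg, Units.val_one]))
  have hkg' : ((k : GL ι F) : Matrix ι ι F) * ((g : GL ι F) : Matrix ι ι F) =
      (c : F) • (((g : GL ι F) : Matrix ι ι F) * ((k : GL ι F) : Matrix ι ι F)) := by
    have h := congrArg (fun x : ↥(simG Q) => ((x : GL ι F) : Matrix ι ι F)) hkg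
    simp only [Subgroup.coe_mul, Units.val_mul] at h
    rw [h]
    ext i j
    simp [scalSim, scal, Matrix.diagonal_mul]
  rcases hc with rfl | rfl
  swap
  · exfalso
    refine hbad (det_of_sq_scalar C.hι C.h2 _ _ hgM (Or.inr ⟨(k : GL ι F), ?_⟩))
    rw [hkg', Units.val_neg, Units.val_one, neg_one_smul, Matrix.neg_mul]
  rw [Units.val_one, one_smul] at hkg'
  by_cases hl : IsSquare (lam : F)
  swap
  · exact (hbad (det_of_sq_scalar C.hι C.h2 _ _ hgM (Or.inl hl))).elim
  rcases hmu with hmu | hmu
  swap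
  · exfalso
    refine hne ?_
    rw [← hg, C.eps_eq_one_of_skew (g : GL ι F) ?_ g fun x => rfl]
    intro x y
    obtain ⟨z, rfl⟩ : ∃ z, ((g : GL ι F) : Matrix ι ι F) *ᵥ z = y :=
      ⟨(((g : GL ι F)⁻¹ : GL ι F) : Matrix ι ι F) *ᵥ y, by
        rw [Matrix.mulVec_mulVec, ← Units.val_mul, mul_inv_cancel, Units.val_one, Matrix.one_mulVec]⟩
    rw [Matrix.mulVec_mulVec _ ((g : GL ι F) : Matrix ι ι F) ((g : GL ι F) : Matrix ι ι F), hgM,
      Matrix.smul_mulVec, Matrix.one_mulVec, polar_smul_right, smul_eq_mul]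
    simp only [polar, ← Matrix.mulVec_add, C.mu_spec, hmu, Units.val_neg]
    ring
  obtain ⟨r, hr⟩ := hl
  have hr0 : r ≠ 0 := fun h => lam.ne_zero (by rw [hr, h, mul_zero])
  set A := r⁻¹ • ((g : GL ι F) : Matrix ι ι F) with hA
  have hA1 : A * A = 1 := by
    rw [hA, Matrix.smul_mul, Matrix.mul_smul, hgM, smul_smul, smul_smul, hr]
    rw [show r⁻¹ * r⁻¹ * (r * r) = 1 by field_simp, one_smul]
  have hsim := C.gram_sim g
  rw [hmu, hr] at hsim
  have hAt : Aᵀ * gram Q * A = gram Q := by
    rw [hA, Matrix.transpose_smul, Matrix.smul_mul, Matrix.smul_mul, Matrix.mul_smul, hsim, smul_smul,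
      smul_smul]
    rw [show r⁻¹ * r⁻¹ * (r * r) = 1 by field_simp, one_smul]
  have hAM : Aᵀ * gram Q = gram Q * A := by
    conv_rhs => rw [← hAt]
    rw [Matrix.mul_assoc (Aᵀ * gram Q), hA1, Matrix.mul_one]
  have hdA : A.det = -1 := by
    rw [hA, Matrix.det_smul, C.hι]
    have h := hg
    rw [C.eps_apply, mul_inv_eq_iff_eq_mul, hmu] at h
    have h' := congrArg Units.val h
    rw [Matrix.GeneralLinearGroup.val_det_apply, Units.val_mul, Units.val_neg, Units.val_one,
      Units.val_pow_eq_pow_val, hr] at h'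
    rw [h', pow_mul, ← pow_two]
    field_simp
    rw [← mul_pow, one_div, inv_mul_cancel₀ (pow_ne_zero _ hr0), one_pow]
  rw [sq, MonoidHom.comp_apply, sqSign_eq_one_iff]
  refine isSquare_of_commute_invol C.h2 (gram Q) A _ C.gram_det_ne hA1 hAM hdA _ (C.gram_sim k) ?_
  rw [hA, Matrix.mul_smul, Matrix.smul_mul, hkg']

namespace Sim

variable {C} (S : Sim C)

include S in
theorem graph_split_two_of_even (hn : Even C.n) (hth : th (negI (Q := Q)) = -1) (γ : ↥(simG Q))
    (heps : C.eps γ = -1) (hγ2 : simAut γ * simAut γ = 1) :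
    splitClassCount ((C.eps.ker).map simAut) (Cfsg.Inn (POmega F ⇑Q)) (simAut γ) = 2 := by
  obtain ⟨φ, hφ, hker⟩ := S.proper_two hth
  have hidx : (Cfsg.Inn (POmega F ⇑Q)).relIndex ((C.eps.ker).map simAut) = 2 := by
    rw [relIndex_eq_card _ _ φ hφ hker]; simp
  have hTG : Cfsg.Inn (POmega F ⇑Q) ≤ (C.eps.ker).map simAut := by
    rintro _ ⟨x, rfl⟩
    induction x using QuotientGroup.induction_on with
    | _ w =>
      refine ⟨isoToSim w.1, ?_, simAut_omega w⟩
      show C.eps _ = 1
      rw [C.eps_isoToSim]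
      exact ((OrthSpinor.mem_Omega_iff C.h2 C.nondeg C.two_le_card one_ne_zero _).mp w.2).1
  rw [CfsgLib.AutPSL.splitClassCount_eq_relIndex _ _ hTG
    (fun h _ k hk => (innNormal _).conj_mem k hk h)]
  have hR : ((C.eps.ker).map simAut ⊓ Subgroup.centralizer {simAut γ}) ⊔ Cfsg.Inn (POmega F ⇑Q) =
      Cfsg.Inn (POmega F ⇑Q) := by
    refine sup_eq_right.mpr ?_
    rintro _ ⟨⟨k, hk, rfl⟩, hkc⟩
    have hkc' := Subgroup.mem_centralizer_singleton_iff.mp hkc
    obtain ⟨lam, hlam⟩ := exists_scal_of_simAut_eq_one C.h2 C.hnd C.five_le_card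
      (g := γ * γ) (by rw [map_mul, hγ2])
    obtain ⟨c, hc⟩ := exists_scal_of_simAut_eq_one C.h2 C.hnd C.five_le_card
      (g := k * γ * (γ * k)⁻¹) (by
        rw [map_mul, map_inv, map_mul, map_mul, hkc', mul_inv_cancel])
    have hsq : C.sq k = 1 := C.sq_eq_one_of_commute hn γ k heps lam c (Subtype.ext hlam) (by
      rw [← inv_mul_cancel_right (k * γ) (γ * k)]
      congr 1
      exact Subtype.ext hc)
    obtain ⟨c', o, rfl⟩ := C.exists_decomp hsq
    have hd : detHom o = 1 := by
      have := show C.eps (scalSim c' * isoToSim o) = 1 from hk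
      rwa [map_mul, C.eps_scalSim, C.eps_isoToSim, one_mul] at this
    rw [mem_map_Inn_iff, map_mul, C.outer_scal, one_mul]
    rcases C.outer_proper hd with ⟨h, -⟩ | ⟨h, -⟩
    · exact h
    · rw [h, C.z_eq_one_iff.mpr hth]
  rw [hR, hidx]

end Sim

end Ctx

end CfsgLib.PGOQuot
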