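import Mathlib
import Cfsg.Agent.Lib.Invol.Dihedral

/-!
Small abstract quotient structures.
-/

set_option autoImplicit false

namespace CfsgLib.PGOQuot

variable {G M X : Type*} [Group G] [Group M] [Group X]

/-- The homomorphism on an image subgroup given by an invariant on the source. -/
theorem exists_hom_on_map (A : G →* M) (K : Subgroup G) (L : Subgroup M) (ψ : ↥K →* X)
    (hsurj : Function.Surjective ψ) (hker : ∀ k : ↥K, A k ∈ L ↔ ψ k = 1) :
    ∃ φ : ↥(K.map A) →* X, Function.Surjective φ ∧ φ.ker = L.subgroupOf (K.map A) := by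
  let p : ↥K →* ↥(K.map A) := A.subgroupMap K
  have hp : Function.Surjective p := A.subgroupMap_surjective K
  have hle : p.ker ≤ ψ.ker := by
    intro k hk
    rw [MonoidHom.mem_ker] at hk ⊢
    rw [← hker k]
    have : A (k : G) = 1 := congrArg Subtype.val hk
    rw [this]
    exact L.one_mem
  refine ⟨p.liftOfSurjective hp ⟨ψ, hle⟩, ?_, ?_⟩
  · intro x
    obtain ⟨k, rfl⟩ := hsurj x
    exact ⟨p k, MonoidHom.liftOfRightInverse_comp_apply _ _ _ _ k⟩
  · ext y
    obtain ⟨k, rfl⟩ := hp y
    rw [MonoidHom.mem_ker, Subgroup.mem_subgroupOf,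
      show p.liftOfSurjective hp ⟨ψ, hle⟩ (p k) = ψ k from
        MonoidHom.liftOfRightInverse_comp_apply _ _ _ _ k]
    exact (hker k).symm

/-- The homomorphism on an image subgroup given by a copy of the image in a quotient. -/
theorem exists_hom_of_image (A : G →* M) (N : Subgroup M) [N.Normal] (K : Subgroup G) (f : X →* M ⧸ N)
    (hinj : ∀ x, f x = 1 → x = 1)
    (hK : ∀ k ∈ K, ∃ x, f x = QuotientGroup.mk' N (A k))
    (hX : ∀ x, ∃ k ∈ K, QuotientGroup.mk' N (A k) = f x) :
    ∃ φ : ↥(K.map A) →* X, Function.Surjective φ ∧ φ.ker = N.subgroupOf (K.map A) := by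
  have hf : Function.Injective f := (injective_iff_map_eq_one f).mpr hinj
  let B : ↥K →* M ⧸ N := (QuotientGroup.mk' N).comp (A.comp K.subtype)
  have hB : ∀ k : ↥K, B k ∈ f.range := fun k => hK k k.2
  let e := MonoidHom.ofInjective hf
  let ψ : ↥K →* X := e.symm.toMonoidHom.comp (B.codRestrict f.range hB)
  have hψ : ∀ k, f (ψ k) = B k := fun k => by
    have h := e.apply_symm_apply (B.codRestrict f.range hB k)
    have h' := congrArg Subtype.val h
    exact h'
  refine exists_hom_on_map A K N ψ (fun x => ?_) (fun k => ?_)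
  · obtain ⟨k, hk, hkx⟩ := hX x
    exact ⟨⟨k, hk⟩, hf (by rw [hψ]; exact hkx)⟩
  · rw [show A k ∈ N ↔ B k = 1 from (QuotientGroup.eq_one_iff _).symm, ← hψ k]
    exact ⟨hinj _, fun h => by rw [h, map_one]⟩

theorem relIndex_eq_card (K : Subgroup M) (N : Subgroup M) (φ : ↥K →* X)
    (hsurj : Function.Surjective φ) (hker : φ.ker = N.subgroupOf K) :
    N.relIndex K = Nat.card X := by
  rw [Subgroup.relIndex, ← hker, Subgroup.index_ker, MonoidHom.range_eq_top.mpr hsurj, Subgroup.card_top]

/-- Signs as `ZMod 2`. -/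
noncomputable def signEquiv : ℤˣ →* Multiplicative (ZMod 2) :=
  MonoidHom.mk' (fun u => if u = 1 then 1 else Multiplicative.ofAdd 1) (by decide)

theorem signEquiv_eq_one (u : ℤˣ) : signEquiv u = 1 ↔ u = 1 := by
  rcases Int.units_eq_one_or u with rfl | rfl <;> simp [signEquiv]

/-- The map from `ZMod 2` given by an involution. -/
def zmodTwoHom (a : M) (ha : a * a = 1) : Multiplicative (ZMod 2) →* M :=
  MonoidHom.mk' (fun x => if x = 1 then 1 else a) (by
    intro x y
    have h : ∀ z : Multiplicative (ZMod 2), z = 1 ∨ z = Multiplicative.ofAdd 1 := by decide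
    have h2 : (Multiplicative.ofAdd (1 : ZMod 2)) * Multiplicative.ofAdd 1 = 1 := by decide
    have h3 : Multiplicative.ofAdd (1 : ZMod 2) ≠ 1 := by decide
    rcases h x with rfl | rfl <;> rcases h y with rfl | rfl <;> simp [h2, h3, ha])

theorem zmodTwoHom_inj (a : M) (ha : a * a = 1) (h1 : a ≠ 1) :
    ∀ x, zmodTwoHom a ha x = 1 → x = 1 := by
  intro x hx
  by_contra hne
  exact h1 (by simpa [zmodTwoHom, hne] using hx)

theorem zmodTwoHom_one (a : M) (ha : a * a = 1) :
    zmodTwoHom a ha (Multiplicative.ofAdd 1) = a := by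
  simp [zmodTwoHom, show Multiplicative.ofAdd (1 : ZMod 2) ≠ 1 by decide]

/-- The map from the four group given by two commuting involutions. -/
def kleinHom (a b : M) (ha : a * a = 1) (hb : b * b = 1) (hab : a * b = b * a) :
    Multiplicative (ZMod 2 × ZMod 2) →* M :=
  MonoidHom.mk' (fun x => zmodTwoHom a ha (Multiplicative.ofAdd x.toAdd.1) *
      zmodTwoHom b hb (Multiplicative.ofAdd x.toAdd.2)) (by
    intro x y
    rw [toAdd_mul, Prod.fst_add, Prod.snd_add, ofAdd_add, ofAdd_add, map_mul, map_mul]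
    have hcomm : Commute (zmodTwoHom a ha (Multiplicative.ofAdd y.toAdd.1))
        (zmodTwoHom b hb (Multiplicative.ofAdd x.toAdd.2)) := by
      simp only [zmodTwoHom, MonoidHom.mk'_apply]
      split_ifs <;> first | exact Commute.one_left _ | exact Commute.one_right _ | exact hab
    rw [mul_assoc, mul_assoc, ← mul_assoc (zmodTwoHom a ha (Multiplicative.ofAdd y.toAdd.1)), hcomm.eq,
      mul_assoc])

theorem kleinHom_inj (a b : M) (ha : a * a = 1) (hb : b * b = 1) (hab : a * b = b * a)
    (h1 : a ≠ 1) (h2 : b ≠ 1) (h3 : a * b ≠ 1) :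
    ∀ x, kleinHom a b ha hb hab x = 1 → x = 1 := by
  have h : ∀ x : Multiplicative (ZMod 2 × ZMod 2), x = 1 ∨ x = Multiplicative.ofAdd (1, 0) ∨
      x = Multiplicative.ofAdd (0, 1) ∨ x = Multiplicative.ofAdd (1, 1) := by decide
  intro x hx
  rcases h x with rfl | rfl | rfl | rfl
  · rfl
  all_goals
    exfalso
    simp [kleinHom, zmodTwoHom_one] at hx
    first | exact h1 hx | exact h2 hx | exact h3 hx

/-- Generators of the image of `kleinHom`. -/
theorem mem_range_kleinHom (a b : M) (ha : a * a = 1) (hb : b * b = 1) (hab : a * b = b * a) :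
    a ∈ (kleinHom a b ha hb hab).range ∧ b ∈ (kleinHom a b ha hb hab).range :=
  ⟨⟨Multiplicative.ofAdd (1, 0), by simp [kleinHom, zmodTwoHom_one]⟩,
    ⟨Multiplicative.ofAdd (0, 1), by simp [kleinHom, zmodTwoHom_one]⟩⟩

/-- The map from `ZMod 4` given by an element of order dividing four. -/
def zmodFourHom (a : M) (ha : a ^ 4 = 1) : Multiplicative (ZMod 4) →* M :=
  MonoidHom.mk' (fun x => a ^ x.toAdd.val) (by
    intro x y
    rw [toAdd_mul, ZMod.val_add, ← pow_add, ← pow_eq_pow_mod _ ha])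

theorem zmodFourHom_inj (a : M) (ha : a ^ 4 = 1) (h2 : a ^ 2 ≠ 1) :
    ∀ x, zmodFourHom a ha x = 1 → x = 1 := by
  have h : ∀ x : Multiplicative (ZMod 4), x.toAdd.val = 0 ∧ x = 1 ∨ x.toAdd.val = 1 ∨ x.toAdd.val = 2 ∨
      x.toAdd.val = 3 := by decide
  intro x hx
  simp only [zmodFourHom, MonoidHom.mk'_apply] at hx
  rcases h x with h | h | h | h
  · exact h.2
  · rw [h, pow_one] at hx; exact absurd (by rw [hx, one_pow]) h2
  · rw [h] at hx; exact absurd hx h2
  · rw [h] at hx
    have ha' : a = 1 := by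
      calc a = a ^ 4 * (a ^ 3)⁻¹ := by group
        _ = 1 := by rw [ha, hx, inv_one, one_mul]
    exact absurd (by rw [ha', one_pow]) h2

theorem zmodFourHom_one (a : M) (ha : a ^ 4 = 1) : zmodFourHom a ha (Multiplicative.ofAdd 1) = a := by
  simp [zmodFourHom, show (1 : ZMod 4).val = 1 from rfl]

/-- An injectivity criterion for maps from the dihedral group of order eight. -/
theorem dihedralFour_inj (f : DihedralGroup 4 →* M) (h2 : f (DihedralGroup.r 2) ≠ 1) :
    ∀ x, f x = 1 → x = 1 := by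
  have h : ∀ x : DihedralGroup 4, x = 1 ∨ x = DihedralGroup.r 2 ∨
      ∃ g : DihedralGroup 4, g * x * g⁻¹ * x⁻¹ = DihedralGroup.r 2 := by decide
  intro x hx
  rcases h x with h | h | ⟨g, h⟩
  · exact h
  · exact absurd (h ▸ hx) h2
  · exact absurd (by rw [← h, map_mul, map_mul, map_mul, hx, map_inv, map_inv, hx]; simp) h2

end CfsgLib.PGOQuot
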