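import Cfsg.Agent.Lib.PGOQuot.Conj
import Cfsg.Agent.Lib.Orth.NegOne

/-!
The invariants of a similarity of a quadratic form in even dimension over a finite field of odd
order: the multiplier, its square class, and the proper sign `det g / μ(g)^n`.
-/

set_option autoImplicit false

namespace CfsgLib.PGOQuot

open Matrix Cfsg QuadraticMap Module
open CfsgLib.Classical.Quad (NDPolar)
open CfsgLib.OrthSpinor

variable {ι : Type} [Fintype ι] [DecidableEq ι] {F : Type*} [Field F]

/-- The hypotheses: a non-degenerate form in dimension `2n ≥ 6`, odd characteristic. -/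
structure Ctx (Q : QuadraticForm F (ι → F)) where
  n : ℕ
  hι : Fintype.card ι = 2 * n
  hn : 3 ≤ n
  h2 : (2 : F) ≠ 0
  hnd : NDPolar Q

/-- The square class of a unit, as a sign. -/
noncomputable def sqSign [Fintype F] : Fˣ →* ℤˣ :=
  MonoidHom.mk' (fun c => haveI := Classical.dec (IsSquare (c : F)); if IsSquare (c : F) then 1 else -1)
    (by
      intro a b
      by_cases ha : IsSquare (a : F) <;> by_cases hb : IsSquare (b : F)
      · simp [ha, hb, ha.mul hb]
      · have hab : ¬ IsSquare ((a * b : Fˣ) : F) := fun h => hb (by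
          have h' := h.mul ha.inv
          rwa [Units.val_mul, mul_right_comm, mul_inv_cancel₀ a.ne_zero, one_mul] at h')
        simp only [Units.val_mul] at hab
        simp [ha, hb, hab]
      · have hab : ¬ IsSquare ((a * b : Fˣ) : F) := fun h => ha (by
          have h' := h.mul hb.inv
          rwa [Units.val_mul, mul_assoc, mul_inv_cancel₀ b.ne_zero, mul_one] at h')
        simp only [Units.val_mul] at hab
        simp [ha, hb, hab]
      · simp [ha, hb, CfsgLib.OrthSpinor.isSquare_mul_of_not ha hb])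

theorem sqSign_eq_one_iff [Fintype F] (c : Fˣ) : sqSign c = 1 ↔ IsSquare (c : F) := by
  by_cases h : IsSquare (c : F) <;> simp [sqSign, h]

theorem sqSign_eq_neg_one_iff [Fintype F] (c : Fˣ) : sqSign c = -1 ↔ ¬ IsSquare (c : F) := by
  by_cases h : IsSquare (c : F) <;> simp [sqSign, h]

namespace Ctx

variable [Fintype F] {Q : QuadraticForm F (ι → F)} (C : Ctx Q)

include C in
theorem two_le_card : 2 ≤ Fintype.card ι := by have := C.hι; have := C.hn; omega

include C in
theorem five_le_card : 5 ≤ Fintype.card ι := by have := C.hι; have := C.hn; omega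

include C in
theorem nondeg : (QuadraticMap.polarBilin Q).Nondegenerate := CfsgLib.Orth.ndPolar_iff.mp C.hnd

include C in
theorem exists_Q : ∃ v, Q v = 1 := CfsgLib.OrthSpinor.exists_norm C.h2 C.nondeg C.two_le_card 1

include C in
theorem mult_unique {g : GL ι F} {c d : Fˣ}
    (hc : ∀ v, Q ((g : Matrix ι ι F) *ᵥ v) = (c : F) * Q v)
    (hd : ∀ v, Q ((g : Matrix ι ι F) *ᵥ v) = (d : F) * Q v) : c = d := by
  obtain ⟨v, hv⟩ := C.exists_Q
  have h := (hc v).symm.trans (hd v)
  rw [hv, mul_one, mul_one] at h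
  exact Units.ext h

/-- The multiplier. -/
noncomputable def mu : ↥(simG Q) →* Fˣ where
  toFun g := g.2.choose
  map_one' := C.mult_unique (1 : ↥(simG Q)).2.choose_spec (fun v => by simp)
  map_mul' a b := C.mult_unique (a * b).2.choose_spec (fun v => by
    show Q ((((a : GL ι F) * (b : GL ι F) : GL ι F) : Matrix ι ι F) *ᵥ v) = _
    rw [Units.val_mul, ← Matrix.mulVec_mulVec, a.2.choose_spec, b.2.choose_spec, Units.val_mul, mul_assoc])

theorem mu_spec (g : ↥(simG Q)) (v : ι → F) :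
    Q (((g : GL ι F) : Matrix ι ι F) *ᵥ v) = (C.mu g : F) * Q v := g.2.choose_spec v

theorem mu_eq {g : ↥(simG Q)} {c : Fˣ}
    (hc : ∀ v, Q (((g : GL ι F) : Matrix ι ι F) *ᵥ v) = (c : F) * Q v) : C.mu g = c :=
  C.mult_unique g.2.choose_spec hc

/-- The square class of the multiplier. -/
noncomputable def sq : ↥(simG Q) →* ℤˣ := sqSign.comp C.mu

/-- The proper sign. -/
noncomputable def eps : ↥(simG Q) →* Fˣ :=
  (Matrix.GeneralLinearGroup.det.comp (simG Q).subtype) * (((powMonoidHom C.n).comp C.mu)⁻¹)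

theorem eps_apply (g : ↥(simG Q)) :
    C.eps g = Matrix.GeneralLinearGroup.det (g : GL ι F) * (C.mu g ^ C.n)⁻¹ := rfl

/-- A scalar as a similarity. -/
def scalSim (c : Fˣ) : ↥(simG Q) := ⟨scal c, scal_mem_simG c⟩

theorem mu_scalSim (c : Fˣ) : C.mu (scalSim c) = c * c := C.mu_eq fun v => by
  show Q ((scal c : GL ι F).1 *ᵥ v) = _
  rw [scal_mulVec, QuadraticMap.map_smul, smul_eq_mul, Units.val_mul]

theorem sq_scalSim (c : Fˣ) : C.sq (scalSim c) = 1 := by
  rw [sq, MonoidHom.comp_apply, C.mu_scalSim, sqSign_eq_one_iff]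
  exact ⟨c, Units.val_mul c c⟩

theorem eps_scalSim (c : Fˣ) : C.eps (scalSim c) = 1 := by
  rw [C.eps_apply, C.mu_scalSim, mul_inv_eq_one]
  apply Units.ext
  show Matrix.det (Matrix.scalar ι (c : F)) = _
  rw [Matrix.scalar_apply, Matrix.det_diagonal, Finset.prod_const, Finset.card_univ, C.hι,
    Units.val_pow_eq_pow_val, Units.val_mul, pow_mul, _root_.sq]

theorem mu_isoToSim (o : ↥(isometryGroup F ⇑Q)) : C.mu (isoToSim o) = 1 := C.mu_eq fun v => by
  rw [Units.val_one, one_mul]; exact o.2 v v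

theorem sq_isoToSim (o : ↥(isometryGroup F ⇑Q)) : C.sq (isoToSim o) = 1 := by
  rw [sq, MonoidHom.comp_apply, C.mu_isoToSim, map_one]

theorem eps_isoToSim (o : ↥(isometryGroup F ⇑Q)) : C.eps (isoToSim o) = detHom o := by
  rw [C.eps_apply, C.mu_isoToSim, one_pow, inv_one, mul_one]
  rfl

/-- A similarity with square multiplier is a scalar times an isometry. -/
theorem exists_decomp {g : ↥(simG Q)} (hg : C.sq g = 1) :
    ∃ (c : Fˣ) (o : ↥(isometryGroup F ⇑Q)), g = scalSim c * isoToSim o := by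
  rw [sq, MonoidHom.comp_apply, sqSign_eq_one_iff] at hg
  obtain ⟨s, hs⟩ := hg
  have hs0 : s ≠ 0 := fun h => (C.mu g).ne_zero (by rw [hs, h, mul_zero])
  have hmem : (scal (Units.mk0 s hs0) : GL ι F)⁻¹ * g ∈ isometryGroup F ⇑Q := by
    intro u _
    show Q ((((scal (Units.mk0 s hs0))⁻¹ * (g : GL ι F) : GL ι F) : Matrix ι ι F) *ᵥ u) = Q u
    rw [← map_inv, Units.val_mul, ← Matrix.mulVec_mulVec, scal_mulVec, QuadraticMap.map_smul,
      C.mu_spec, hs, smul_eq_mul, Units.val_inv_eq_inv_val, Units.val_mk0]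
    field_simp
  exact ⟨Units.mk0 s hs0, ⟨_, hmem⟩, Subtype.ext (by
    show (g : GL ι F) = scal _ * ((scal _)⁻¹ * (g : GL ι F))
    rw [mul_inv_cancel_left])⟩

include C in
theorem detHom_sq (o : ↥(isometryGroup F ⇑Q)) : detHom o = 1 ∨ detHom o = -1 := by
  have h : (powMonoidHom 2).comp (detHom (Q := Q)) = 1 := by
    refine hom_ext C.h2 C.nondeg fun v hv => ?_
    simp [detHom_reflection]
  have h' := DFunLike.congr_fun h o
  simp only [MonoidHom.comp_apply, powMonoidHom_apply, MonoidHom.one_apply] at h'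
  rw [pow_two] at h'
  rcases mul_self_eq_one_iff.mp (congrArg Units.val h') with h1 | h1
  · exact Or.inl (Units.ext h1)
  · exact Or.inr (Units.ext (by rw [h1, Units.val_neg, Units.val_one]))

/-- `θ` with base norm one. -/
noncomputable abbrev th : ↥(isometryGroup F ⇑Q) →* ℤˣ := theta (Q := Q) 1

/-- The isometry `-1`. -/
def negI : ↥(isometryGroup F ⇑Q) :=
  ⟨scal (-1), fun u _ => show Q ((scal (-1 : Fˣ) : GL ι F).1 *ᵥ u) = Q u by
    rw [scal_mulVec, Units.val_neg, Units.val_one, neg_one_smul, QuadraticMap.map_neg]⟩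

include C in
theorem th_negI_eq_one_iff :
    th (negI (Q := Q)) = 1 ↔
      ∃ g : ↥(isometryGroup F ⇑Q), g ∈ Omega F ⇑Q ∧ ((g : GL ι F) : Matrix ι ι F) = -1 := by
  have hval : ((negI (Q := Q) : GL ι F) : Matrix ι ι F) = -1 := by
    apply Matrix.toLin'.injective
    refine LinearMap.ext fun x => ?_
    show (scal (-1 : Fˣ) : GL ι F).1 *ᵥ x = (-1 : Matrix ι ι F) *ᵥ x
    rw [scal_mulVec, Matrix.neg_mulVec, Matrix.one_mulVec, Units.val_neg, Units.val_one, neg_one_smul]
  have hd : detHom (negI (Q := Q)) = 1 := by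
    apply Units.ext
    rw [detHom_coe, hval, Matrix.det_neg, Matrix.det_one, mul_one, C.hι, pow_mul, neg_one_sq, one_pow,
      Units.val_one]
  constructor
  · exact fun h => ⟨negI, (OrthSpinor.mem_Omega_iff C.h2 C.nondeg C.two_le_card one_ne_zero _).mpr
      ⟨hd, h⟩, hval⟩
  · rintro ⟨g, hg, hg'⟩
    rw [show (negI (Q := Q)) = g from eq_of_matrix Q (by rw [hval, hg'])]
    exact ((OrthSpinor.mem_Omega_iff C.h2 C.nondeg C.two_le_card one_ne_zero g).mp hg).2

include C in
/-- Conjugating a reflection by a similarity. -/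
theorem conj_reflection_sim (g : ↥(simG Q)) {v : ι → F} (hv : Q v ≠ 0) :
    ∃ hw : Q (((g : GL ι F) : Matrix ι ι F) *ᵥ v) ≠ 0,
      conjIso g (reflection hv) = reflection hw := by
  have hw : Q (((g : GL ι F) : Matrix ι ι F) *ᵥ v) ≠ 0 := by
    rw [C.mu_spec]; exact mul_ne_zero (C.mu g).ne_zero hv
  have hp : ∀ x y, polar Q (((g : GL ι F) : Matrix ι ι F) *ᵥ x) (((g : GL ι F) : Matrix ι ι F) *ᵥ y) =
      (C.mu g : F) * polar Q x y := by
    intro x y
    simp only [polar, ← Matrix.mulVec_add, C.mu_spec]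
    ring
  refine ⟨hw, ext_act Q fun x => ?_⟩
  obtain ⟨y, rfl⟩ : ∃ y, ((g : GL ι F) : Matrix ι ι F) *ᵥ y = x :=
    ⟨(((g : GL ι F)⁻¹ : GL ι F) : Matrix ι ι F) *ᵥ x, by
      rw [Matrix.mulVec_mulVec, ← Units.val_mul, mul_inv_cancel, Units.val_one, Matrix.one_mulVec]⟩
  rw [act_reflection hw, hp, C.mu_spec]
  show ((((conjIso g (reflection hv) : ↥(isometryGroup F ⇑Q))) : GL ι F) : Matrix ι ι F) *ᵥ _ = _
  rw [conjIso_coe, Units.val_mul, Units.val_mul, ← Matrix.mulVec_mulVec, ← Matrix.mulVec_mulVec]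
  rw [show (((g : GL ι F)⁻¹ : GL ι F) : Matrix ι ι F) *ᵥ (((g : GL ι F) : Matrix ι ι F) *ᵥ y) = y by
    rw [Matrix.mulVec_mulVec, ← Units.val_mul, inv_mul_cancel, Units.val_one, Matrix.one_mulVec]]
  show ((g : GL ι F) : Matrix ι ι F) *ᵥ act Q (reflection hv) y = _
  rw [act_reflection hv, Matrix.mulVec_sub, Matrix.mulVec_smul]
  congr 2
  field_simp [(C.mu g).ne_zero]

end Ctx

end CfsgLib.PGOQuot
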