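import Cfsg.Agent.Lib.PGOQuot.Invariants
import Cfsg.Agent.Lib.PGOQuot.Groups

/-!
The groups `PGO(Q)`, `PSO(Q)` and the proper part modulo inner automorphisms of `PΩ(Q)`.
-/

set_option autoImplicit false

namespace CfsgLib.PGOQuot

open Matrix Cfsg QuadraticMap Module
open CfsgLib.OrthSpinor

universe u

variable {ι : Type} [Fintype ι] [DecidableEq ι] {F : Type u} [Field F]

instance innNormal (T : Type u) [Group T] : (Cfsg.Inn T).Normal :=
  ⟨fun _ ⟨x, hx⟩ e => ⟨e x, by
    subst hx
    ext y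
    simp [MulAut.conj_apply]⟩⟩

/-- The outer automorphism group of `PΩ(Q)`. -/
abbrev Out (Q : QuadraticForm F (ι → F)) : Type u :=
  MulAut (POmega F ⇑Q) ⧸ Cfsg.Inn (POmega F ⇑Q)

/-- The outer class of a similarity. -/
def outer {Q : QuadraticForm F (ι → F)} : ↥(simG Q) →* Out Q :=
  (QuotientGroup.mk' _).comp simAut

namespace Ctx

variable [Fintype F] {Q : QuadraticForm F (ι → F)} (C : Ctx Q)

include C in
theorem outer_scal (c : Fˣ) : outer (scalSim (Q := Q) c) = 1 := by
  have h : simAut (scalSim (Q := Q) c) = 1 := by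
    ext x
    induction x using QuotientGroup.induction_on with
    | _ s =>
      rw [simAut_mk, MulAut.one_apply]
      congr 1
      apply Subtype.ext
      apply Subtype.ext
      rw [conjOmega_coe]
      show scal c * _ * (scal c)⁻¹ = _
      rw [scal_comm, mul_inv_cancel_right]
  rw [outer, MonoidHom.comp_apply, h, map_one]

include C in
theorem outer_omega {o : ↥(isometryGroup F ⇑Q)} (hd : detHom o = 1) (ht : th o = 1) :
    outer (isoToSim o) = 1 := by
  have ho : o ∈ Omega F ⇑Q :=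
    (OrthSpinor.mem_Omega_iff C.h2 C.nondeg C.two_le_card one_ne_zero o).mpr ⟨hd, ht⟩
  rw [outer, MonoidHom.comp_apply, QuotientGroup.mk'_apply, QuotientGroup.eq_one_iff]
  exact ⟨QuotientGroup.mk ⟨o, ho⟩, (simAut_omega ⟨o, ho⟩).symm⟩

include C in
/-- The kernel of the outer action. -/
theorem exists_of_outer_eq_one {g : ↥(simG Q)} (hg : outer g = 1) :
    ∃ (c : Fˣ) (o : ↥(isometryGroup F ⇑Q)),
      g = scalSim c * isoToSim o ∧ detHom o = 1 ∧ th o = 1 := by
  rw [outer, MonoidHom.comp_apply, QuotientGroup.mk'_apply, QuotientGroup.eq_one_iff] at hg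
  obtain ⟨x, hx⟩ := hg
  induction x using QuotientGroup.induction_on with
  | _ w =>
    have h : simAut (g * (isoToSim (w : ↥(isometryGroup F ⇑Q)))⁻¹) = 1 := by
      rw [map_mul, map_inv, simAut_omega, ← hx, mul_inv_cancel]
    obtain ⟨c, hc⟩ := exists_scal_of_simAut_eq_one C.h2 C.hnd C.five_le_card h
    refine ⟨c, w, Subtype.ext ?_,
      ((OrthSpinor.mem_Omega_iff C.h2 C.nondeg C.two_le_card one_ne_zero _).mp w.2).1,
      ((OrthSpinor.mem_Omega_iff C.h2 C.nondeg C.two_le_card one_ne_zero _).mp w.2).2⟩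
    rw [Subgroup.coe_mul, Subgroup.coe_inv] at hc
    show (g : GL ι F) = scal c * _
    rw [← hc, inv_mul_cancel_right]

include C in
theorem sq_of_outer_eq_one {g : ↥(simG Q)} (hg : outer g = 1) : C.sq g = 1 ∧ C.eps g = 1 := by
  obtain ⟨c, o, rfl, hd, -⟩ := C.exists_of_outer_eq_one hg
  exact ⟨by rw [map_mul, C.sq_scalSim, C.sq_isoToSim, one_mul],
    by rw [map_mul, C.eps_scalSim, C.eps_isoToSim, hd, one_mul]⟩

include C in
theorem exists_reflections : ∃ (v w : ι → F) (hv : Q v ≠ 0) (hw : Q w ≠ 0),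
    th (reflection hv) = -1 ∧ th (reflection hw) = 1 := by
  obtain ⟨ν, hν, hns⟩ := exists_nonsquare' (F := F) C.h2
  obtain ⟨v, hv⟩ := C.exists_Q
  obtain ⟨w, hw⟩ := CfsgLib.OrthSpinor.exists_norm C.h2 C.nondeg C.two_le_card ν
  have hv0 : Q v ≠ 0 := hv ▸ one_ne_zero
  have hw0 : Q w ≠ 0 := hw ▸ hν
  exact ⟨v, w, hv0, hw0,
    theta_reflection_of_square C.h2 one_ne_zero hv0 (by rw [hv, mul_one]; exact IsSquare.one),
    theta_reflection_of_nonsquare C.h2 one_ne_zero hw0 (by rwa [hw, one_mul])⟩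

/-- A reflection of square norm. -/
noncomputable def r0 : ↥(isometryGroup F ⇑Q) := reflection C.exists_reflections.choose_spec.choose_spec.choose

theorem r0_spec : detHom C.r0 = -1 ∧ th C.r0 = -1 ∧ C.r0 * C.r0 = 1 :=
  ⟨detHom_reflection _, C.exists_reflections.choose_spec.choose_spec.choose_spec.choose_spec.1,
    reflection_mul_self _⟩

include C in
theorem exists_z0 : ∃ o : ↥(isometryGroup F ⇑Q), detHom o = 1 ∧ th o = -1 := by
  obtain ⟨v, w, hv, hw, h1, h2⟩ := C.exists_reflections
  exact ⟨reflection hv * reflection hw,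
    by rw [map_mul, detHom_reflection, detHom_reflection, neg_mul_neg, one_mul],
    by rw [map_mul, h1, h2, mul_one]⟩

/-- The class of `SO` modulo `Ω`. -/
noncomputable def z : Out Q := outer (isoToSim C.exists_z0.choose)

/-- The class of a reflection. -/
noncomputable def t : Out Q := outer (isoToSim C.r0)

theorem outer_proper {o : ↥(isometryGroup F ⇑Q)} (hd : detHom o = 1) :
    outer (isoToSim o) = 1 ∧ th o = 1 ∨ outer (isoToSim o) = C.z ∧ th o = -1 := by
  rcases Int.units_eq_one_or (th o) with h | h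
  · exact Or.inl ⟨C.outer_omega hd h, h⟩
  · obtain ⟨hd0, ht0⟩ := C.exists_z0.choose_spec
    have h1 : outer (isoToSim (C.exists_z0.choose⁻¹ * o)) = 1 :=
      C.outer_omega (by rw [map_mul, map_inv, hd0, hd, inv_one, one_mul])
        (by rw [map_mul, map_inv, ht0, h, inv_mul_cancel])
    rw [map_mul, map_inv, map_mul, map_inv, inv_mul_eq_one] at h1
    exact Or.inr ⟨h1.symm, h⟩

theorem outer_proper_of_th {o : ↥(isometryGroup F ⇑Q)} (hd : detHom o = 1) (ht : th o = -1) :
    outer (isoToSim o) = C.z := by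
  rcases C.outer_proper hd with ⟨-, h⟩ | ⟨h, -⟩
  · rw [ht] at h; exact absurd h (by decide)
  · exact h

theorem z_mul_z : C.z * C.z = 1 := by
  obtain ⟨hd0, ht0⟩ := C.exists_z0.choose_spec
  rw [z, ← map_mul, ← map_mul]
  exact C.outer_omega (by rw [map_mul, hd0, one_mul]) (by rw [map_mul, Int.units_mul_self])

theorem t_mul_t : C.t * C.t = 1 := by
  rw [t, ← map_mul, ← map_mul, C.r0_spec.2.2, map_one, map_one]

theorem t_mul_z : C.t * C.z = C.z * C.t := by
  obtain ⟨hd0, ht0⟩ := C.exists_z0.choose_spec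
  have h1 : outer (isoToSim (C.r0 * C.exists_z0.choose * C.r0)) = C.z :=
    C.outer_proper_of_th
      (by rw [map_mul, map_mul, hd0, C.r0_spec.1, mul_one, neg_mul_neg, one_mul])
      (by rw [map_mul, map_mul, ht0, C.r0_spec.2.1]; decide)
  rw [map_mul, map_mul, map_mul, map_mul] at h1
  calc C.t * C.z = C.t * C.z * (C.t * C.t) := by rw [C.t_mul_t, mul_one]
    _ = (C.t * C.z * C.t) * C.t := by group
    _ = C.z * C.t := by rw [show C.t * C.z * C.t = C.z from h1]

theorem z_eq_one_iff : C.z = 1 ↔ th (negI (Q := Q)) = -1 := by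
  obtain ⟨hd0, ht0⟩ := C.exists_z0.choose_spec
  constructor
  · intro h
    obtain ⟨c, o, hco, hd, ht⟩ := C.exists_of_outer_eq_one h
    have hmu := congrArg C.mu hco
    rw [C.mu_isoToSim, map_mul, C.mu_scalSim, C.mu_isoToSim, mul_one] at hmu
    have hc : c = 1 ∨ c = -1 := by
      rcases mul_self_eq_one_iff.mp (congrArg Units.val hmu.symm) with h1 | h1
      · exact Or.inl (Units.ext h1)
      · exact Or.inr (Units.ext (by rw [h1, Units.val_neg, Units.val_one]))
    rcases hc with rfl | rfl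
    · exfalso
      have he : C.exists_z0.choose = o := Subtype.ext (by
        have := congrArg Subtype.val hco
        simpa [scalSim] using this)
      rw [he, ht] at ht0
      exact absurd ht0 (by decide)
    · have he : C.exists_z0.choose = negI * o := Subtype.ext (congrArg (fun x : ↥(simG Q) => (x : GL ι F)) hco)
      rw [he, map_mul, ht, mul_one] at ht0
      exact ht0
  · intro h
    have hneg : outer (isoToSim (negI (Q := Q))) = 1 := C.outer_scal (-1)
    have hdn : detHom (negI (Q := Q)) = 1 := by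
      have := C.eps_scalSim (-1)
      rwa [show scalSim (Q := Q) (-1) = isoToSim negI from rfl, C.eps_isoToSim] at this
    rw [← hneg, C.outer_proper_of_th hdn h]

/-- A proper similarity with non-square multiplier, its square, and the sign `γ` of the square. -/
structure Sim where
  g : ↥(simG Q)
  hsq : C.sq g = -1
  heps : C.eps g = 1
  lam : Fˣ
  u : ↥(isometryGroup F ⇑Q)
  hu : g * g = scalSim lam * isoToSim u

namespace Sim

variable {C} (S : Sim C)

theorem det_u : detHom S.u = 1 := by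
  have h := congrArg C.eps S.hu
  rwa [map_mul, map_mul, S.heps, C.eps_scalSim, C.eps_isoToSim, one_mul, one_mul, eq_comm] at h

/-- The class of the similarity. -/
noncomputable def b : Out Q := outer S.g

theorem b_sq (h : th S.u = -1) : S.b * S.b = C.z := by
  rw [b, ← map_mul, S.hu, map_mul, C.outer_scal, one_mul]
  exact C.outer_proper_of_th S.det_u h

theorem b_sq_one (h : th S.u = 1 ∨ C.z = 1) : S.b * S.b = 1 := by
  rw [b, ← map_mul, S.hu, map_mul, C.outer_scal, one_mul]
  rcases C.outer_proper S.det_u with ⟨h', -⟩ | ⟨h', h''⟩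
  · exact h'
  · rcases h with h | h
    · rw [h] at h''; exact absurd h'' (by decide)
    · rw [h', h]

theorem b_t : S.b * C.t * S.b⁻¹ = C.t * C.z := by
  obtain ⟨hw, hconj⟩ := C.conj_reflection_sim S.g C.exists_reflections.choose_spec.choose_spec.choose
  have hθ : th (reflection hw) = 1 := by
    refine theta_reflection_of_nonsquare C.h2 one_ne_zero hw ?_
    rw [one_mul, C.mu_spec]
    have hns : ¬ IsSquare (C.mu S.g : F) := (sqSign_eq_neg_one_iff _).mp S.hsq
    intro hq
    have hv := C.r0_spec.2.1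
    by_cases hsq : IsSquare (Q C.exists_reflections.choose)
    · refine hns ?_
      have hv0 := C.exists_reflections.choose_spec.choose_spec.choose
      have := hq.mul hsq.inv
      rwa [mul_assoc, mul_inv_cancel₀ hv0, mul_one] at this
    · have hv0 := C.exists_reflections.choose_spec.choose_spec.choose
      have : th C.r0 = 1 := theta_reflection_of_nonsquare C.h2 one_ne_zero hv0 (by rwa [one_mul])
      rw [this] at hv
      exact absurd hv (by decide)
  have h1 : outer (isoToSim (C.r0 * conjIso S.g C.r0)) = C.z := by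
    refine C.outer_proper_of_th ?_ ?_
    · rw [r0, hconj, map_mul, detHom_reflection, detHom_reflection, neg_mul_neg, one_mul]
    · rw [map_mul, C.r0_spec.2.1, r0, hconj, hθ, mul_one]
  have h3 : isoToSim (conjIso S.g C.r0) = S.g * isoToSim C.r0 * S.g⁻¹ := Subtype.ext rfl
  rw [map_mul, h3, map_mul, map_mul, map_mul, map_inv] at h1
  rw [b, ← h1]
  show _ = C.t * (C.t * _)
  rw [← mul_assoc, C.t_mul_t, one_mul]
  rfl

theorem b_z (h : S.b * S.b = 1 ∨ S.b * S.b = C.z) : S.b * C.z = C.z * S.b := by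
  have h1 := S.b_t
  have h2 : S.b * S.b * C.t = C.t * (S.b * S.b) := by
    rcases h with h | h <;> rw [h]
    · rw [one_mul, mul_one]
    · exact C.t_mul_z.symm
  have hbt : S.b * C.t = C.t * C.z * S.b := by rw [← h1, inv_mul_cancel_right]
  have h3 : C.t * C.z * (S.b * C.z * S.b) = C.t * (S.b * S.b) := by
    rw [← h2]
    calc C.t * C.z * (S.b * C.z * S.b) = (C.t * C.z * S.b) * C.z * S.b := by group
      _ = S.b * (C.t * C.z) * S.b := by rw [← hbt]; group
      _ = S.b * (C.t * C.z * S.b) := by group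
      _ = S.b * (S.b * C.t) := by rw [← hbt]
      _ = S.b * S.b * C.t := by group
  rw [mul_assoc C.t] at h3
  have h4 := mul_left_cancel h3
  rw [← mul_assoc, ← mul_assoc] at h4
  have h5 := mul_right_cancel h4
  -- `h5 : z * b * z = b`
  calc S.b * C.z = C.z * S.b * C.z * C.z := by rw [h5]
    _ = C.z * S.b := by rw [mul_assoc, C.z_mul_z, mul_one]

include S in
theorem eps_sq (g : ↥(simG Q)) : C.eps g = 1 ∨ C.eps g = -1 := by
  have key : ∀ g' : ↥(simG Q), C.sq g' = 1 → C.eps g' = 1 ∨ C.eps g' = -1 := by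
    intro g' hg'
    obtain ⟨c, o, rfl⟩ := C.exists_decomp hg'
    rw [map_mul, C.eps_scalSim, C.eps_isoToSim, one_mul]
    exact C.detHom_sq o
  rcases Int.units_eq_one_or (C.sq g) with h | h
  · exact key g h
  · have := key (g * S.g) (by rw [map_mul, h, S.hsq]; decide)
    rwa [map_mul, S.heps, mul_one] at this

/-- Every outer class is a product of the generators. -/
theorem outer_cases (g : ↥(simG Q)) :
    ∃ e ∈ ({1, C.z} : Set (Out Q)),
      (C.sq g = 1 ∧ C.eps g = 1 ∧ outer g = e) ∨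
      (C.sq g = 1 ∧ C.eps g = -1 ∧ outer g = e * C.t) ∨
      (C.sq g = -1 ∧ C.eps g = 1 ∧ outer g = e * S.b⁻¹) ∨
      (C.sq g = -1 ∧ C.eps g = -1 ∧ outer g = e * C.t * S.b⁻¹) := by
  have key : ∀ g' : ↥(simG Q), C.sq g' = 1 → ∃ e ∈ ({1, C.z} : Set (Out Q)),
      (C.eps g' = 1 ∧ outer g' = e) ∨ (C.eps g' = -1 ∧ outer g' = e * C.t) := by
    intro g' hg'
    obtain ⟨c, o, rfl⟩ := C.exists_decomp hg'
    rw [map_mul, map_mul outer, C.eps_scalSim, C.eps_isoToSim, one_mul, C.outer_scal, one_mul]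
    rcases C.detHom_sq o with h | h
    · rcases C.outer_proper h with ⟨h', -⟩ | ⟨h', -⟩
      · exact ⟨1, Or.inl rfl, Or.inl ⟨h, h'⟩⟩
      · exact ⟨C.z, Or.inr rfl, Or.inl ⟨h, h'⟩⟩
    · have hd : detHom (o * C.r0) = 1 := by rw [map_mul, h, C.r0_spec.1, neg_mul_neg, one_mul]
      have e : outer (isoToSim o) = outer (isoToSim (o * C.r0)) * C.t := by
        rw [t, ← map_mul, ← map_mul, mul_assoc, C.r0_spec.2.2, mul_one]
      rcases C.outer_proper hd with ⟨h', -⟩ | ⟨h', -⟩
      · exact ⟨1, Or.inl rfl, Or.inr ⟨h, by rw [e, h']⟩⟩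
      · exact ⟨C.z, Or.inr rfl, Or.inr ⟨h, by rw [e, h']⟩⟩
  rcases Int.units_eq_one_or (C.sq g) with h | h
  · obtain ⟨e, he, h'⟩ := key g h
    exact ⟨e, he, h'.elim (fun h' => Or.inl ⟨h, h'⟩) fun h' => Or.inr (Or.inl ⟨h, h'⟩)⟩
  · obtain ⟨e, he, h'⟩ := key (g * S.g) (by rw [map_mul, h, S.hsq]; decide)
    rw [map_mul, map_mul outer, S.heps, mul_one] at h'
    refine ⟨e, he, ?_⟩
    rcases h' with ⟨h1, h3⟩ | ⟨h1, h3⟩
    · exact Or.inr (Or.inr (Or.inl ⟨h, h1, by rw [← h3, b, mul_inv_cancel_right]⟩))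
    · exact Or.inr (Or.inr (Or.inr ⟨h, h1, by rw [← h3, b, mul_inv_cancel_right]⟩))

end Sim

end Ctx

end CfsgLib.PGOQuot
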