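import Cfsg.Agent.Lib.PGOQuot.GraphTwo
import Cfsg.Agent.Lib.Descent.POmegaField

/-!
Semisimilarities of an arbitrary form: the automorphisms they induce form a group, the field part is
determined by the automorphism, and the obstruction to a semilinear involution.
-/

set_option autoImplicit false

namespace CfsgLib.PGOQuot

open Matrix Cfsg QuadraticMap Module
open CfsgLib.OrthSpinor
open CfsgLib.Descent (mapGL mapGL_coe map_mulVec_apply)

universe u

variable {ι : Type} [Fintype ι] [DecidableEq ι] {F : Type u} [Field F]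
variable {Q : QuadraticForm F (ι → F)}

theorem semi_iso_mem {g : GL ι F} {σ : F ≃+* F} (hp : IsSemisimilarityPair (⇑Q) g σ)
    (s : ↥(isometryGroup F ⇑Q)) :
    g * mapGL σ (s : GL ι F) * g⁻¹ ∈ isometryGroup F ⇑Q := by
  obtain ⟨c, hc⟩ := hp
  intro u _
  show Q (((g * mapGL σ (s : GL ι F) * g⁻¹ : GL ι F) : Matrix ι ι F) *ᵥ u) = Q u
  obtain ⟨w, rfl⟩ : ∃ w : ι → F, (g : Matrix ι ι F) *ᵥ (fun i => σ (w i)) = u := by
    refine ⟨fun i => σ.symm ((((g⁻¹ : GL ι F) : Matrix ι ι F) *ᵥ u) i), ?_⟩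
    simp only [RingEquiv.apply_symm_apply]
    rw [Matrix.mulVec_mulVec, ← Units.val_mul, mul_inv_cancel, Units.val_one, Matrix.one_mulVec]
  rw [Matrix.mulVec_mulVec, ← Units.val_mul, inv_mul_cancel_right, Units.val_mul, ← Matrix.mulVec_mulVec,
    mapGL_coe, ← map_mulVec_apply, hc, hc]
  rw [show Q (((s : GL ι F) : Matrix ι ι F) *ᵥ w) = Q w from s.2 w w]

/-- Conjugation by a semisimilarity on the isometry group. -/
def semiIso {g : GL ι F} {σ : F ≃+* F} (hp : IsSemisimilarityPair (⇑Q) g σ) :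
    ↥(isometryGroup F ⇑Q) →* ↥(isometryGroup F ⇑Q) where
  toFun s := ⟨_, semi_iso_mem hp s⟩
  map_one' := Subtype.ext (by simp)
  map_mul' s t := Subtype.ext (by simp [mul_assoc])

theorem semiIso_mem {g : GL ι F} {σ : F ≃+* F} (hp : IsSemisimilarityPair (⇑Q) g σ)
    {s : ↥(isometryGroup F ⇑Q)} (hs : s ∈ Omega F ⇑Q) : semiIso hp s ∈ Omega F ⇑Q := by
  have h : (Omega F ⇑Q).map (semiIso hp) ≤ Omega F ⇑Q := by
    rw [Omega, commutator_def, Subgroup.map_commutator]
    exact Subgroup.commutator_mono le_top le_top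
  exact h (Subgroup.mem_map_of_mem _ hs)

/-- Conjugation by a semisimilarity on `Ω`. -/
def semiOmega {g : GL ι F} {σ : F ≃+* F} (hp : IsSemisimilarityPair (⇑Q) g σ) :
    ↥(Omega F ⇑Q) →* ↥(Omega F ⇑Q) :=
  ((semiIso hp).comp (Omega F ⇑Q).subtype).codRestrict _ fun s => semiIso_mem hp s.2

theorem semiOmega_coe {g : GL ι F} {σ : F ≃+* F} (hp : IsSemisimilarityPair (⇑Q) g σ)
    (s : ↥(Omega F ⇑Q)) :
    (((semiOmega hp s : ↥(Omega F ⇑Q)) : ↥(isometryGroup F ⇑Q)) : GL ι F) =
      g * mapGL σ ((s : ↥(isometryGroup F ⇑Q)) : GL ι F) * g⁻¹ := rfl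

theorem induced_mk {g : GL ι F} {σ : F ≃+* F} (hp : IsSemisimilarityPair (⇑Q) g σ)
    {β : MulAut (POmega F ⇑Q)} (hb : IsInducedBySemilinearPOmega (⇑Q) g σ β) (s : ↥(Omega F ⇑Q)) :
    β (QuotientGroup.mk s) = QuotientGroup.mk (semiOmega hp s) := by
  refine hb s _ ?_
  rw [semiOmega_coe, Units.val_mul, Units.val_mul, mapGL_coe]

theorem pair_mul {g h : GL ι F} {σ τ : F ≃+* F} (h1 : IsSemisimilarityPair (⇑Q) g σ)
    (h2 : IsSemisimilarityPair (⇑Q) h τ) : IsSemisimilarityPair (⇑Q) (g * mapGL σ h) (σ * τ) := by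
  obtain ⟨c, hc⟩ := h1
  obtain ⟨d, hd⟩ := h2
  refine ⟨c * Units.map σ.toRingHom.toMonoidHom d, fun v => ?_⟩
  rw [Units.val_mul, ← Matrix.mulVec_mulVec, mapGL_coe]
  show Q (_ *ᵥ ((h : Matrix ι ι F).map σ *ᵥ fun i => σ (τ (v i)))) = _
  rw [← map_mulVec_apply, hc, hd, map_mul, Units.val_mul, mul_assoc]
  rfl

theorem induced_mul {g h : GL ι F} {σ τ : F ≃+* F} (hg : IsSemisimilarityPair (⇑Q) g σ)
    (hh : IsSemisimilarityPair (⇑Q) h τ)
    {β β' : MulAut (POmega F ⇑Q)} (hb : IsInducedBySemilinearPOmega (⇑Q) g σ β)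
    (hb' : IsInducedBySemilinearPOmega (⇑Q) h τ β') :
    IsInducedBySemilinearPOmega (⇑Q) (g * mapGL σ h) (σ * τ) (β * β') := by
  intro s s' hs
  rw [MulAut.mul_apply, induced_mk hh hb', induced_mk hg hb]
  refine congrArg _ (Subtype.ext (Subtype.ext (Units.ext ?_)))
  rw [hs, semiOmega_coe, semiOmega_coe]
  have e : ∀ x : GL ι F, g * mapGL σ (h * mapGL τ x * h⁻¹) * g⁻¹ =
      g * mapGL σ h * mapGL (σ * τ) x * (g * mapGL σ h)⁻¹ := by
    intro x
    rw [map_mul, map_mul, map_inv, show mapGL σ (mapGL τ x) = mapGL (σ * τ) x from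
      Units.ext (Matrix.ext fun _ _ => rfl)]
    group
  rw [e, Units.val_mul, Units.val_mul, mapGL_coe]

/-- Every element of the image of the semisimilarity group is induced by a semisimilarity. -/
theorem exists_of_mem_gamma [Finite F] {β : MulAut (POmega F ⇑Q)} (hβ : β ∈ gammaPOmega F ⇑Q) :
    ∃ (g : GL ι F) (σ : F ≃+* F), IsSemisimilarityPair (⇑Q) g σ ∧
      IsInducedBySemilinearPOmega (⇑Q) g σ β := by
  have : Finite (POmega F ⇑Q) := by unfold POmega; infer_instance
  have : Finite (MulAut (POmega F ⇑Q)) := Finite.of_injective _ DFunLike.coe_injective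
  have hone : ∃ (g : GL ι F) (σ : F ≃+* F), IsSemisimilarityPair (⇑Q) g σ ∧
      IsInducedBySemilinearPOmega (⇑Q) g σ (1 : MulAut (POmega F ⇑Q)) := by
    refine ⟨1, 1, ⟨1, fun v => ?_⟩, fun s s' hs => ?_⟩
    · rw [Units.val_one, Matrix.one_mulVec, Units.val_one, one_mul]
      rfl
    · rw [MulAut.one_apply]
      refine congrArg _ (Subtype.ext (Subtype.ext (Units.ext ?_)))
      rw [hs, Units.val_one, inv_one, Units.val_one, one_mul, mul_one]
      rfl
  refine Subgroup.closure_induction (p := fun β _ => ∃ (g : GL ι F) (σ : F ≃+* F),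
    IsSemisimilarityPair (⇑Q) g σ ∧ IsInducedBySemilinearPOmega (⇑Q) g σ β) (fun x hx => hx) hone
    (fun x y _ _ ⟨g, σ, h1, h2⟩ ⟨h, τ, h3, h4⟩ =>
      ⟨_, _, pair_mul h1 h3, induced_mul h1 h3 h2 h4⟩) ?_ hβ
  intro x _ ⟨g, σ, h1, h2⟩
  have hpow : ∀ k : ℕ, ∃ (g' : GL ι F) (σ' : F ≃+* F), IsSemisimilarityPair (⇑Q) g' σ' ∧
      IsInducedBySemilinearPOmega (⇑Q) g' σ' (x ^ k) := by
    intro k
    induction k with
    | zero => rw [pow_zero]; exact hone
    | succ k ih =>
      obtain ⟨g', σ', h3, h4⟩ := ih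
      rw [pow_succ]
      exact ⟨_, _, pair_mul h3 h1, induced_mul h3 h1 h4 h2⟩
  rw [← one_mul x⁻¹, ← pow_orderOf_eq_one x,
    show orderOf x = orderOf x - 1 + 1 by have := orderOf_pos x; omega, pow_succ, mul_inv_cancel_right]
  exact hpow _

variable [Fintype F]

/-- The field part of a semisimilarity inducing the identity is trivial, given enough traces of products
of elements of odd order. -/
theorem eq_one_of_induced_one (C : Ctx Q) {h : GL ι F} {τ : F ≃+* F}
    (hp : IsSemisimilarityPair (⇑Q) h τ) (hi : IsInducedBySemilinearPOmega (⇑Q) h τ 1)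
    (hrich : ∀ x : F, ∃ (s t : ↥(Omega F ⇑Q)) (k : ℕ), Odd (orderOf s) ∧ Odd (orderOf t) ∧
      ((((s * t : ↥(Omega F ⇑Q)) : ↥(isometryGroup F ⇑Q)) : GL ι F) : Matrix ι ι F).trace = 2 * x + k) :
    τ = 1 := by
  have hfix : ∀ s : ↥(Omega F ⇑Q), Odd (orderOf s) → semiOmega hp s = s := by
    intro s hs
    have hmk := induced_mk hp hi s
    rw [MulAut.one_apply] at hmk
    set z : ↥(Omega F ⇑Q) := s⁻¹ * semiOmega hp s with hz
    have hz1 : (QuotientGroup.mk z : POmega F ⇑Q) = 1 := by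
      rw [hz, QuotientGroup.mk_mul, ← hmk, QuotientGroup.mk_inv, inv_mul_cancel]
    have hsim : simAut (isoToSim (z : ↥(isometryGroup F ⇑Q))) = 1 := by
      rw [simAut_omega, hz1, map_one]
    obtain ⟨c, hc⟩ := exists_scal_of_simAut_eq_one C.h2 C.hnd C.five_le_card hsim
    have hcc : c * c = 1 := by
      rw [← C.mu_scalSim, show Ctx.scalSim (Q := Q) c = isoToSim (z : ↥(isometryGroup F ⇑Q)) from
        Subtype.ext hc.symm, C.mu_isoToSim]
    have hcomm : Commute s z := Subtype.ext (Subtype.ext (by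
      show ((s : ↥(isometryGroup F ⇑Q)) : GL ι F) * ((z : ↥(isometryGroup F ⇑Q)) : GL ι F) =
        ((z : ↥(isometryGroup F ⇑Q)) : GL ι F) * _
      rw [show ((z : ↥(isometryGroup F ⇑Q)) : GL ι F) = scal c from hc, ← scal_comm]))
    have hz2 : z ^ 2 = 1 := Subtype.ext (Subtype.ext (by
      show ((z : ↥(isometryGroup F ⇑Q)) : GL ι F) ^ 2 = 1
      rw [show ((z : ↥(isometryGroup F ⇑Q)) : GL ι F) = scal c from hc, ← map_pow, pow_two, hcc, map_one]))
    have hs' : semiOmega hp s = s * z := by rw [hz, mul_inv_cancel_left]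
    obtain ⟨j, hj⟩ := hs
    have hzr : z ^ orderOf s = 1 := by
      have h1 := congrArg (semiOmega hp) (pow_orderOf_eq_one s)
      rw [map_pow, map_one, hs', hcomm.mul_pow, pow_orderOf_eq_one, one_mul] at h1
      exact h1
    rw [hj, pow_succ, pow_mul, hz2, one_pow, one_mul] at hzr
    rw [hs', hzr, mul_one]
  refine RingEquiv.ext fun x => ?_
  obtain ⟨s, t, k, hs, ht, htr⟩ := hrich x
  have hst : semiOmega hp (s * t) = s * t := by rw [map_mul, hfix s hs, hfix t ht]
  have h1 := congrArg (fun y : ↥(Omega F ⇑Q) =>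
    (((y : ↥(isometryGroup F ⇑Q)) : GL ι F) : Matrix ι ι F).trace) hst
  simp only [semiOmega_coe, Units.val_mul, mapGL_coe, Matrix.trace_units_conj] at h1
  change Matrix.trace (Matrix.map _ (τ.toAddEquiv.toAddMonoidHom)) = _ at h1
  rw [← AddMonoidHom.map_trace] at h1
  rw [htr] at h1
  simp only [AddEquiv.coe_toAddMonoidHom, RingEquiv.toAddEquiv_eq_coe, RingEquiv.coe_toAddEquiv,
    map_add, map_mul, map_natCast, map_ofNat, add_left_inj] at h1
  exact mul_left_cancel₀ C.h2 h1

/-- A semilinear involution forces the discriminant to be a square. -/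
theorem isSquare_det_of_semi_involution (C : Ctx Q) {g : GL ι F} {σ : F ≃+* F}
    (hp : IsSemisimilarityPair (⇑Q) g σ) (hσσ : ∀ x, σ (σ x) = x) (hσ : σ ≠ 1) (lam : Fˣ)
    (hgg : g * mapGL σ g = scal lam) :
    IsSquare (Ctx.gram Q).det ∧ IsSquare (-1 : F) := by
  obtain ⟨y, hy⟩ : ∃ y, σ y ≠ y := by
    by_contra h
    exact hσ (RingEquiv.ext fun x => by
      by_contra hx
      exact h ⟨x, hx⟩)
  have key : ∀ x, σ x = x → IsSquare x := by
    intro x hx
    by_contra hns
    set F0 := CfsgLib.AutPSL.fixedField σ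
    let _ : Fintype ↥F0 := Fintype.ofFinite _
    set w := y - σ y
    have hw : σ w = -w := by simp [w, map_sub, hσσ]
    have hw0 : w ≠ 0 := sub_ne_zero.mpr (Ne.symm hy)
    have h20 : (2 : ↥F0) ≠ 0 := fun e => C.h2 (by
      have h := congrArg F0.subtype e
      rwa [map_ofNat, map_zero] at h)
    let X : ↥F0 := ⟨x, show σ x = x from hx⟩
    let W : ↥F0 := ⟨w * w, show σ (w * w) = w * w by rw [map_mul, hw, neg_mul_neg]⟩
    have hX : ¬ IsSquare X := fun ⟨s, hs⟩ => hns ⟨(s : F), congrArg (fun z : ↥F0 => (z : F)) hs⟩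
    have hW : ¬ IsSquare W := by
      rintro ⟨⟨s, hs'⟩, hs⟩
      have h1 : w * w = s * s := congrArg (fun z : ↥F0 => (z : F)) hs
      rw [CfsgLib.AutPSL.mem_fixedField] at hs'
      have h3 : σ w = w := by
        rcases mul_self_eq_mul_self_iff.mp h1 with e | e
        · rw [e, hs']
        · rw [e, map_neg, hs']
      rw [hw] at h3
      exact hw0 ((mul_eq_zero.mp (show (2 : F) * w = 0 by linear_combination -h3)).resolve_left C.h2)
    obtain ⟨s, hs⟩ := CfsgLib.OrthSpinor.isSquare_mul_of_not hX hW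
    have h1 : x * (w * w) = (s : F) * (s : F) := congrArg (fun z : ↥F0 => (z : F)) hs
    exact hns ⟨(s : F) / w, by field_simp; linear_combination h1⟩
  obtain ⟨c, hc⟩ := hp
  set M := Ctx.gram Q with hM
  have hMa : ∀ i j, M i j = polar Q (Pi.single i 1) (Pi.single j 1) := fun i j => by
    rw [hM, Ctx.gram, LinearMap.BilinForm.toMatrix'_apply]
    rfl
  have hgM : (g : Matrix ι ι F)ᵀ * M * (g : Matrix ι ι F) = (c : F) • M.map σ := by
    rw [hM, Ctx.gram, ← LinearMap.toMatrix'_toLin' (g : Matrix ι ι F),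
      ← LinearMap.BilinForm.toMatrix'_comp]
    ext i j
    have hsg : ∀ i : ι, (fun l => σ ((Pi.single i (1 : F) : ι → F) l)) = Pi.single i 1 := fun i => by
      funext l
      by_cases hl : l = i <;> simp [hl]
    rw [LinearMap.BilinForm.toMatrix'_apply, LinearMap.BilinForm.comp_apply, Matrix.smul_apply,
      Matrix.map_apply, LinearMap.BilinForm.toMatrix'_apply, polarBilin_apply_apply, polarBilin_apply_apply,
      Matrix.toLin'_apply, Matrix.toLin'_apply, smul_eq_mul]
    conv_lhs => rw [← hsg i, ← hsg j]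
    simp only [polar, ← Matrix.mulVec_add]
    rw [show ((fun l => σ ((Pi.single i (1 : F) : ι → F) l)) + fun l => σ ((Pi.single j (1 : F) : ι → F) l)) =
      fun l => σ ((Pi.single i 1 + Pi.single j 1 : ι → F) l) from funext fun l => (map_add σ _ _).symm]
    rw [hc, hc, hc, map_sub, map_sub]
    ring
  have hd := congrArg Matrix.det hgM
  rw [Matrix.det_mul, Matrix.det_mul, Matrix.det_transpose, Matrix.det_smul, C.hι,
    show M.map σ = σ.toRingHom.mapMatrix M from rfl, ← RingHom.map_det] at hd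
  change _ = (c : F) ^ (2 * C.n) * σ M.det at hd
  set dg := (g : Matrix ι ι F).det
  have hdg0 : dg ≠ 0 := Matrix.GeneralLinearGroup.det_ne_zero g
  set D := M.det
  have hD : D ≠ 0 := C.gram_det_ne
  -- the multiplier of the square
  have hlam : (lam : F) * lam = (c : F) * σ c := by
    obtain ⟨v, hv⟩ := C.exists_Q
    have h1 : Q (((g * mapGL σ g : GL ι F) : Matrix ι ι F) *ᵥ v) = (lam : F) * lam := by
      rw [hgg, scal_mulVec, QuadraticMap.map_smul, hv, smul_eq_mul, mul_one]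
    rw [Units.val_mul, ← Matrix.mulVec_mulVec, mapGL_coe,
      show v = fun i => σ (σ (v i)) from funext fun i => (hσσ _).symm, ← map_mulVec_apply, hc, hc,
      map_mul, hσσ, hv, mul_one] at h1
    exact h1.symm
  have hdet2 : dg * σ dg = (lam : F) ^ (2 * C.n) := by
    have h1 := congrArg (fun x : GL ι F => (x : Matrix ι ι F).det) hgg
    simp only [Units.val_mul, Matrix.det_mul, mapGL_coe] at h1
    rw [show (g : Matrix ι ι F).map σ = σ.toRingHom.mapMatrix (g : Matrix ι ι F) from rfl,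
      ← RingHom.map_det] at h1
    refine h1.trans ?_
    show Matrix.det (Matrix.scalar ι (lam : F)) = _
    rw [Matrix.scalar_apply, Matrix.det_diagonal, Finset.prod_const, Finset.card_univ, C.hι]
  set e := dg / (c : F) ^ C.n
  have he2 : e * e * D = σ D := by
    have hc0 : (c : F) ^ C.n ≠ 0 := pow_ne_zero _ c.ne_zero
    simp only [e]
    field_simp
    rw [pow_mul'] at hd
    linear_combination hd
  have hee : e * σ e = 1 := by
    simp only [e, map_div₀, map_pow, div_mul_div_comm, hdet2, ← mul_pow, ← hlam]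
    rw [pow_mul, pow_two, div_self (pow_ne_zero _ (mul_ne_zero lam.ne_zero lam.ne_zero))]
  have he0 : e ≠ 0 := left_ne_zero_of_mul_eq_one hee
  obtain ⟨z, hz⟩ : ∃ z, z + σ e * σ z ≠ 0 := by
    by_contra h
    push Not at h
    have h1 := h 1
    rw [map_one, mul_one] at h1
    have h3 := h y
    exact hy (by linear_combination σ y * h1 - h3)
  set w := z + σ e * σ z
  have hw : σ w = e * w := by
    simp only [w, map_add, map_mul, hσσ]
    linear_combination (-σ z) * hee
  refine ⟨?_, key _ (by rw [map_neg, map_one])⟩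
  obtain ⟨s, hs⟩ := key (D / (w * w)) (by
    rw [map_div₀, map_mul, hw, ← he2]
    field_simp)
  exact ⟨s * w, by rw [div_eq_iff (mul_ne_zero hz hz)] at hs; rw [hs]; ring⟩

end CfsgLib.PGOQuot
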