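import Cfsg.Agent.Lib.PGOQuot.Minus
import Cfsg.Agent.Lib.PGOQuot.Semi

/-!
An involutory automorphism of `PΩ⁻` from the semisimilarity group that is not inner-diagonal is induced by an
improper similarity.
-/

set_option autoImplicit false

namespace CfsgLib.PGOQuot.Minus

open Matrix Cfsg QuadraticMap Module
open scoped commutatorElement
open CfsgLib.OrthSpinor
open CfsgLib.OrthCrit (plusForm minusForm)
open CfsgLib.Descent (mapGL mapGL_coe)

universe u

variable {F : Type u} [Field F] {m : ℕ}

/-- A root subgroup of `GL_m`. -/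
def tv (i j : Fin m) (hij : i ≠ j) : Multiplicative F →* GL (Fin m) F where
  toFun x := ⟨Matrix.transvection i j x.toAdd, Matrix.transvection i j (-x.toAdd),
    by rw [Matrix.transvection_mul_transvection_same i j hij, add_neg_cancel, Matrix.transvection_zero],
    by rw [Matrix.transvection_mul_transvection_same i j hij, neg_add_cancel, Matrix.transvection_zero]⟩
  map_one' := Units.ext (by simp)
  map_mul' x y := Units.ext (by simp [Matrix.transvection_mul_transvection_same i j hij])

/-- The Levi matrix. -/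
def leviMat : GL (Fin m) F →* Matrix (Idx m) (Idx m) F where
  toFun A := Matrix.fromBlocks (Matrix.fromBlocks (A : Matrix (Fin m) (Fin m) F) 0 0
    ((A⁻¹ : GL (Fin m) F) : Matrix (Fin m) (Fin m) F)ᵀ) 0 0 1
  map_one' := by simp [Matrix.fromBlocks_one]
  map_mul' A B := by
    simp [Matrix.fromBlocks_multiply, ← Matrix.transpose_mul]

theorem levi_mem (a b : F) (A : GL (Fin m) F) :
    (leviMat (F := F) (m := m)).toHomUnits A ∈ isometryGroup F ⇑(minusForm m F a b) := by
  intro v _
  show Cfsg.quadFormMinus m F a b (leviMat A *ᵥ v) = Cfsg.quadFormMinus m F a b v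
  have h1 : ((fun i => v (.inl (.inl i))) : Fin m → F) ⬝ᵥ (fun i => v (.inl (.inr i))) =
      ((A : Matrix (Fin m) (Fin m) F) *ᵥ fun i => v (.inl (.inl i))) ⬝ᵥ
        ((((A⁻¹ : GL (Fin m) F) : Matrix (Fin m) (Fin m) F)ᵀ) *ᵥ fun i => v (.inl (.inr i))) := by
    rw [Matrix.dotProduct_mulVec, Matrix.vecMul_transpose, Matrix.mulVec_mulVec, ← Units.val_mul,
      inv_mul_cancel, Units.val_one, Matrix.one_mulVec]
  simp only [Cfsg.quadFormMinus, leviMat, MonoidHom.coe_mk, OneHom.coe_mk, Matrix.fromBlocks_mulVec,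
    Sum.elim_inl, Sum.elim_inr, Matrix.zero_mulVec, add_zero, zero_add, Matrix.one_mulVec, Function.comp_def]
  exact congrArg (· + _) h1.symm

/-- The Levi subgroup `GL_m` of the isometries. -/
noncomputable def levi (a b : F) : GL (Fin m) F →* ↥(isometryGroup F ⇑(minusForm m F a b)) :=
  ((leviMat (F := F) (m := m)).toHomUnits).codRestrict _ (levi_mem a b)

theorem tv_commutator (i j : Fin m) (hij : i ≠ j) (h2 : (2 : F) ≠ 0) (x : F) :
    ∃ d e : GL (Fin m) F, ⁅d, e⁆ = tv i j hij (Multiplicative.ofAdd x) := by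
  classical
  let d : GL (Fin m) F := Matrix.GeneralLinearGroup.mkOfDetNeZero
    (Matrix.diagonal (Function.update 1 i (-1))) (by
      rw [Matrix.det_diagonal, Finset.prod_ne_zero_iff]
      intro k _
      by_cases hk : k = i <;> simp [hk])
  refine ⟨d, tv i j hij (Multiplicative.ofAdd (-x / 2)), ?_⟩
  set y := -x / 2
  have hd : d * tv i j hij (Multiplicative.ofAdd y) = tv i j hij (Multiplicative.ofAdd (-y)) * d := by
    refine Units.ext ?_
    show Matrix.diagonal (Function.update 1 i (-1)) * Matrix.transvection i j y =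
      Matrix.transvection i j (-y) * Matrix.diagonal (Function.update (1 : Fin m → F) i (-1))
    ext k l
    rw [Matrix.diagonal_mul, Matrix.mul_diagonal]
    by_cases hk : i = k <;> by_cases hl : j = l
    · subst hk hl; simp [Matrix.transvection, hij, hij.symm]
    · subst hk
      by_cases hl' : i = l
      · subst hl'; simp [Matrix.transvection, hij.symm]
      · simp [Matrix.transvection, hl, hl']
    · subst hl
      by_cases hk' : k = j
      · subst hk'; simp [Matrix.transvection, hk, Ne.symm hk]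
      · simp [Matrix.transvection, hk, hk', Ne.symm hk]
    · by_cases hkl : k = l
      · subst hkl; simp [Matrix.transvection, hk, mul_comm]
      · simp [Matrix.transvection, hk, hl, hkl]
  rw [commutatorElement_def, hd, mul_inv_cancel_right, ← map_inv, ← map_mul, ← ofAdd_neg, ← ofAdd_add]
  congr 2
  simp only [y]
  field_simp
  ring

variable [Fintype F]

theorem orderOf_tv_odd (hodd : Odd (Fintype.card F)) (i j : Fin m) (hij : i ≠ j) (x : F) :
    Odd (orderOf (tv i j hij (Multiplicative.ofAdd x))) :=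
  (show Odd (Fintype.card (Multiplicative F)) by rwa [Fintype.card_multiplicative]).of_dvd_nat
    ((orderOf_map_dvd _ _).trans orderOf_dvd_card)

theorem rich (hodd : Odd (Fintype.card F)) (hm : 3 ≤ m) (a b x : F) :
    ∃ (s t : ↥(Omega F ⇑(minusForm m F a b))) (k : ℕ), Odd (orderOf s) ∧ Odd (orderOf t) ∧
      ((((s * t : ↥(Omega F ⇑(minusForm m F a b))) : ↥(isometryGroup F ⇑(minusForm m F a b))) :
        GL (Idx m) F) : Matrix (Idx m) (Idx m) F).trace = 2 * x + k := by
  have h2 := two_ne_zero' (F := F) hodd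
  let i : Fin m := ⟨0, by omega⟩
  let j : Fin m := ⟨1, by omega⟩
  have hij : i ≠ j := by simp [i, j, Fin.ext_iff]
  have hmem : ∀ (i j : Fin m) (h : i ≠ j) (x : F),
      levi a b (tv i j h (Multiplicative.ofAdd x)) ∈ Omega F ⇑(minusForm m F a b) := by
    intro i j h x
    obtain ⟨d, e, hde⟩ := tv_commutator i j h h2 x
    rw [← hde, map_commutatorElement, Omega, commutator_def]
    exact Subgroup.commutator_mem_commutator (Subgroup.mem_top _) (Subgroup.mem_top _)
  have ho : ∀ (i j : Fin m) (h : i ≠ j) (x : F),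
      Odd (orderOf (⟨_, hmem i j h x⟩ : ↥(Omega F ⇑(minusForm m F a b)))) := by
    intro i j h x
    rw [Subgroup.orderOf_mk]
    exact (orderOf_tv_odd hodd i j h x).of_dvd_nat (orderOf_map_dvd (levi a b) _)
  refine ⟨⟨_, hmem i j hij x⟩, ⟨_, hmem j i hij.symm 1⟩, 2 * m + 2, ho _ _ _ _, ho _ _ _ _, ?_⟩
  rw [Subgroup.coe_mul, ← map_mul]
  show Matrix.trace (leviMat (tv i j hij (Multiplicative.ofAdd x) *
    tv j i hij.symm (Multiplicative.ofAdd 1))) = _
  have htr : ∀ (i j : Fin m) (h : i ≠ j) (x y : F),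
      (Matrix.transvection i j x * Matrix.transvection j i y).trace = m + x * y := by
    intro i j h x y
    rw [Matrix.transvection, Matrix.transvection, Matrix.add_mul, Matrix.mul_add, Matrix.mul_add,
      Matrix.one_mul, Matrix.one_mul, Matrix.mul_one, Matrix.single_mul_single_same, Matrix.trace_add,
      Matrix.trace_add, Matrix.trace_add, Matrix.trace_one, Fintype.card_fin,
      Matrix.trace_single_eq_of_ne _ _ _ h, Matrix.trace_single_eq_of_ne _ _ _ h.symm,
      Matrix.trace_single_eq_same]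
    ring
  simp only [leviMat, MonoidHom.coe_mk, OneHom.coe_mk]
  rw [Matrix.trace, Fintype.sum_sum_type, Fintype.sum_sum_type]
  simp only [Matrix.diag_apply, Matrix.fromBlocks_apply₁₁, Matrix.fromBlocks_apply₂₂, Matrix.transpose_apply,
    Matrix.one_apply_eq, Finset.sum_const, Finset.card_univ, Fintype.card_fin]
  show Matrix.trace _ + Matrix.trace _ + _ = _
  rw [_root_.mul_inv_rev, Units.val_mul, Units.val_mul]
  show Matrix.trace (Matrix.transvection i j x * Matrix.transvection j i 1) +
    Matrix.trace (Matrix.transvection j i (-1) * Matrix.transvection i j (-x)) + _ = _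
  rw [htr i j hij, htr j i hij.symm]
  push_cast
  simp
  ring

/-- An involution in the image of the semisimilarity group comes from a similarity. -/
theorem involution_eq_simAut (hodd : Odd (Fintype.card F)) (hm : 3 ≤ m) {a b : F} (hab : Aniso a b)
    {γ : MulAut (POmega F ⇑(minusForm m F a b))} (hγ : γ ∈ gammaPOmega F ⇑(minusForm m F a b))
    (hγ2 : γ * γ = 1) : ∃ g : ↥(simG (minusForm m F a b)), γ = simAut g := by
  classical
  set C := ctx (F := F) hodd hm hab
  obtain ⟨g, σ, hp, hi⟩ := exists_of_mem_gamma hγ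
  have hp2 := pair_mul hp hp
  have hi2 : IsInducedBySemilinearPOmega (⇑(minusForm m F a b)) (g * mapGL σ g) (σ * σ) 1 :=
    hγ2 ▸ induced_mul hp hp hi hi
  have hσσ : σ * σ = 1 := eq_one_of_induced_one C hp2 hi2 fun x => rich hodd hm a b x
  by_cases hσ : σ = 1
  · subst hσ
    obtain ⟨c, hc⟩ := hp
    let g' : ↥(simG (minusForm m F a b)) := ⟨g, c, hc⟩
    exact ⟨g', (induced_iff g' γ).mp hi⟩
  exfalso
  obtain ⟨c, hc⟩ := hp2
  rw [hσσ] at hc hi2
  let G : ↥(simG (minusForm m F a b)) := ⟨g * mapGL σ g, c, hc⟩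
  obtain ⟨lam, hlam⟩ := exists_scal_of_simAut_eq_one C.h2 C.hnd C.five_le_card
    (g := G) ((induced_iff G 1).mp hi2).symm
  obtain ⟨⟨s, hs⟩, ⟨i, hi'⟩⟩ := isSquare_det_of_semi_involution C hp
    (fun x => RingEquiv.ext_iff.mp hσσ x) hσ lam hlam
  set N : Matrix (Fin m ⊕ Fin m) (Fin m ⊕ Fin m) F := Matrix.fromBlocks 0 1 1 0
  have hM : Ctx.gram (minusForm m F a b) = Matrix.fromBlocks N 0 0 !![2, a; a, 2 * b] := by
    ext k l
    rw [Ctx.gram, LinearMap.BilinForm.toMatrix'_apply, polarBilin_apply_apply]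
    rcases k with (k | k) | k <;> rcases l with (l | l) | l <;>
      (try fin_cases k) <;> (try fin_cases l) <;>
      simp [N, CfsgLib.OrthCrit.polar_minusForm, CfsgLib.OrthCrit.polar_plusForm, Pi.single_apply,
        Matrix.one_apply, Cfsg.quadFormMinus, eq_comm]
  have hN : N.det = 1 ∨ N.det = -1 := by
    refine mul_self_eq_one_iff.mp ?_
    rw [← Matrix.det_mul]
    simp [N, Matrix.fromBlocks_multiply, Matrix.fromBlocks_one]
  rw [hM, Matrix.det_fromBlocks_zero₂₁, Matrix.det_fin_two_of] at hs
  have hns : ¬ IsSquare (a ^ 2 - 4 * b) := by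
    rintro ⟨r, hr⟩
    refine C.h2 ((hab (-a + r) 2 ?_).2)
    linear_combination -hr
  rcases hN with h | h <;> rw [h] at hs
  · exact hns ⟨i * s, by linear_combination -hs + s * s * hi'⟩
  · exact hns ⟨s, by linear_combination hs⟩

end CfsgLib.PGOQuot.Minus
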