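import Cfsg.Agent.Lib.PGOQuot.CentSim
import Cfsg.Agent.Lib.PGOQuot.Quotients
import Cfsg.Agent.Lib.Descent.POmegaField

/-!
Fusion of semisimple classes of odd prime order in `PΩ(Q)` under the similarities.
-/

set_option autoImplicit false

namespace CfsgLib.PGOQuot

open Matrix Cfsg QuadraticMap Module
open CfsgLib.OrthSpinor

universe u

variable {ι : Type} [Fintype ι] [DecidableEq ι] {F : Type u} [Field F] [Fintype F]
variable {Q : QuadraticForm F (ι → F)}

omit [Fintype F] in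
theorem poAut_eq (Q : QuadraticForm F (ι → F)) :
    poAut F ⇑Q = (isoToSim (Q := Q)).range.map simAut :=
  autSubgroupOf_eq _ _ fun _ =>
    ⟨fun ⟨g, hg, h⟩ => ⟨isoToSim ⟨g, hg⟩, ⟨⟨g, hg⟩, rfl⟩, h⟩,
      fun ⟨_, ⟨o, rfl⟩, h⟩ => ⟨o, o.2, h⟩⟩

omit [Fintype F] in
theorem isConjUnder_mono {X : Type*} [Group X] {H K : Subgroup X} (h : H ≤ K) {x y : X}
    (hc : IsConjUnder H x y) : IsConjUnder K x y :=
  hc.elim fun g hg => ⟨g, h hg.1, hg.2⟩

omit [Fintype F] in
theorem isConjUnder_of_decomp {X : Type*} [Group X] {H : Subgroup X} {x y g : X}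
    (hy : y = g * x * g⁻¹) {t c : X} (ht : t ∈ H) (hg : g = t * c) (hc : Commute c x) :
    IsConjUnder H x y := by
  refine ⟨t, ht, ?_⟩
  rw [hy, hg, _root_.mul_inv_rev,
    show t * c * x * (c⁻¹ * t⁻¹) = t * (c * x * c⁻¹) * t⁻¹ by group, hc.eq, mul_inv_cancel_right]

namespace Ctx

variable (C : Ctx Q)

include C in
/-- A similarity inducing an automorphism of odd order `r` has a lift which is an isometry of order
dividing `r`. -/
theorem exists_iso_lift {x : MulAut (POmega F ⇑Q)} {g : ↥(simG Q)} (hx : simAut g = x) {r : ℕ}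
    (hro : Odd r) (hxr : x ^ r = 1) :
    ∃ h : ↥(isometryGroup F ⇑Q), h ^ r = 1 ∧ simAut (isoToSim h) = x := by
  obtain ⟨s, hs⟩ := hro
  obtain ⟨c, hc⟩ := exists_scal_of_simAut_eq_one C.h2 C.hnd C.five_le_card
    (g := g ^ r) (by rw [map_pow, hx, hxr])
  have hc' : g ^ r = scalSim c := Subtype.ext hc
  have hμ : C.mu g ^ r = c * c := by rw [← map_pow, hc', C.mu_scalSim]
  set t : Fˣ := c * (C.mu g ^ s)⁻¹
  have ht : t * t = C.mu g := by
    rw [mul_mul_mul_comm, ← hμ, hs, ← mul_inv, ← pow_add, ← two_mul, pow_succ',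
      mul_inv_cancel_right]
  have hscal : simAut (scalSim (Q := Q) t⁻¹) = 1 := CfsgLib.Descent.simAut_scal _
  set g1 : ↥(simG Q) := g * scalSim t⁻¹ with hg1
  have hμ1 : C.mu g1 = 1 := by
    rw [hg1, map_mul, C.mu_scalSim, ← mul_inv, ht, mul_inv_cancel]
  let o : ↥(isometryGroup F ⇑Q) := ⟨(g1 : GL ι F), fun u _ => by
    show Q (((g1 : GL ι F) : Matrix ι ι F) *ᵥ u) = Q u
    rw [C.mu_spec, hμ1, Units.val_one, one_mul]⟩
  have ho : isoToSim o = g1 := Subtype.ext rfl
  have hcomm : Commute g (scalSim (Q := Q) t⁻¹) := Subtype.ext (scal_comm t⁻¹ (g : GL ι F)).symm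
  set e : Fˣ := c * (t⁻¹) ^ r
  have hor : g1 ^ r = scalSim e := by
    rw [hg1, hcomm.mul_pow, hc']
    refine Subtype.ext ?_
    rw [Subgroup.coe_mul, SubmonoidClass.coe_pow]
    show scal c * scal t⁻¹ ^ r = scal e
    rw [← map_pow, ← map_mul]
  have he : e * e = 1 := by
    rw [← C.mu_scalSim, ← hor, map_pow, hμ1, one_pow]
  let he' : ↥(isometryGroup F ⇑Q) := ⟨scal e, fun u _ => by
    show Q ((scal e : GL ι F).1 *ᵥ u) = Q u
    rw [scal_mulVec, QuadraticMap.map_smul, ← Units.val_mul, he, Units.val_one, one_smul]⟩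
  refine ⟨o * he', ?_, ?_⟩
  · apply Subtype.ext
    show ((g1 : GL ι F) * scal e) ^ r = 1
    rw [(show Commute (g1 : GL ι F) (scal e) from (scal_comm e _).symm).mul_pow, ← SubmonoidClass.coe_pow, hor]
    show scal e * scal e ^ r = 1
    rw [← map_pow, ← map_mul, hs, pow_succ, pow_mul, pow_two, he, one_pow, one_mul, he, map_one]
  · rw [map_mul, map_mul, ho, hg1, map_mul, hx, hscal, mul_one,
      show isoToSim he' = scalSim (Q := Q) e from Subtype.ext rfl]
    rw [show simAut (scalSim (Q := Q) e) = 1 from CfsgLib.Descent.simAut_scal _, mul_one]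

variable {C} in
theorem Sim.semisimple_fusion (S : Sim C) {x : MulAut (POmega F ⇑Q)} (hx : x ∈ pgoAut F ⇑Q)
    {r : ℕ} (hr : r.Prime) (hro : Odd r) (hrF : (r : F) ≠ 0) (hxr : orderOf x = r) :
    (∀ y, (IsConjUnder (Cfsg.Inn (POmega F ⇑Q)) x y ↔ IsConjUnder ((C.eps.ker).map simAut) x y) ∧
        (IsConjUnder (psoAut F ⇑Q) x y ↔ IsConjUnder ((C.eps.ker).map simAut) x y)) ∧
      ∀ y, IsConjUnder (poAut F ⇑Q) x y ↔ IsConjUnder (pgoAut F ⇑Q) x y := by
  rw [pgoAut_eq] at hx ⊢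
  obtain ⟨g, -, hg⟩ := hx
  obtain ⟨h, hh, rfl⟩ := C.exists_iso_lift hg hro (hxr ▸ pow_orderOf_eq_one x)
  let T : SS C := ⟨h, r, hr, hro, hrF, hh⟩
  obtain ⟨k, hk1, hk2, hk3⟩ := T.exists_sim_comm S
  obtain ⟨z, hz1, hz2, hz3⟩ := T.exists_z
  have hkx : Commute (simAut k) (simAut (isoToSim h)) := (show Commute k (isoToSim h) from hk3).map simAut
  have hzx : Commute (simAut (isoToSim z)) (simAut (isoToSim h)) :=
    (show Commute (isoToSim z) (isoToSim h) from (show Commute z h from hz3).map isoToSim).map simAut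
  have hinn : Cfsg.Inn (POmega F ⇑Q) ≤ psoAut F ⇑Q := by
    rw [psoAut_eq]
    rintro _ ⟨y, rfl⟩
    induction y using QuotientGroup.induction_on with
    | _ w =>
      exact ⟨isoToSim w.1, mem_soSub_iff.mpr ⟨w.1,
        ((OrthSpinor.mem_Omega_iff C.h2 C.nondeg C.two_le_card one_ne_zero _).mp w.2).1, rfl⟩, simAut_omega w⟩
  have hpso : psoAut F ⇑Q ≤ (C.eps.ker).map simAut := by
    rw [psoAut_eq]
    refine Subgroup.map_mono fun g hg => ?_
    obtain ⟨o, ho, rfl⟩ := mem_soSub_iff.mp hg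
    exact (C.eps_isoToSim o).trans ho
  have key : ∀ g : ↥(simG Q), C.eps g = 1 →
      ∃ t c, t ∈ Cfsg.Inn (POmega F ⇑Q) ∧ simAut g = t * c ∧ Commute c (simAut (isoToSim h)) := by
    have key1 : ∀ g : ↥(simG Q), C.eps g = 1 → C.sq g = 1 →
        ∃ t c, t ∈ Cfsg.Inn (POmega F ⇑Q) ∧ simAut g = t * c ∧ Commute c (simAut (isoToSim h)) := by
      intro g he hs
      obtain ⟨c, o, rfl⟩ := C.exists_decomp hs
      rw [map_mul, C.eps_scalSim, C.eps_isoToSim, one_mul] at he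
      have hsc : simAut (scalSim (Q := Q) c * isoToSim o) = simAut (isoToSim o) := by
        rw [map_mul, show simAut (scalSim (Q := Q) c) = 1 from CfsgLib.Descent.simAut_scal _, one_mul]
      rw [hsc]
      rcases Int.units_eq_one_or (th o) with ht | ht
      · exact ⟨simAut (isoToSim o), 1, (mem_map_Inn_iff _).mpr (C.outer_omega he ht), (mul_one _).symm,
          Commute.one_left _⟩
      · refine ⟨simAut (isoToSim (o * z⁻¹)), simAut (isoToSim z), (mem_map_Inn_iff _).mpr (C.outer_omega ?_ ?_),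
          ?_, hzx⟩
        · rw [map_mul, map_inv, he, hz1, inv_one, mul_one]
        · rw [map_mul, map_inv, ht, hz2, mul_inv_cancel]
        · rw [← map_mul, ← map_mul, inv_mul_cancel_right]
    intro g he
    rcases Int.units_eq_one_or (C.sq g) with hs | hs
    · exact key1 g he hs
    · obtain ⟨t, c, ht, htc, hcx⟩ := key1 (g * k) (by rw [map_mul, he, hk2, one_mul])
        (by rw [map_mul, hs, hk1]; decide)
      refine ⟨t, c * (simAut k)⁻¹, ht, ?_, hcx.mul_left hkx.inv_left⟩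
      rw [← mul_assoc, ← htc, map_mul, mul_inv_cancel_right]
  have hback : ∀ y, IsConjUnder ((C.eps.ker).map simAut) (simAut (isoToSim h)) y →
      IsConjUnder (Cfsg.Inn (POmega F ⇑Q)) (simAut (isoToSim h)) y := by
    rintro y ⟨_, ⟨g, hg, rfl⟩, hy⟩
    obtain ⟨t, c, ht, htc, hcx⟩ := key g hg
    exact isConjUnder_of_decomp hy ht htc hcx
  refine ⟨fun y => ⟨⟨isConjUnder_mono (hinn.trans hpso), hback y⟩,
    ⟨isConjUnder_mono hpso, fun hy => isConjUnder_mono hinn (hback y hy)⟩⟩, fun y => ?_⟩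
  rw [poAut_eq]
  refine ⟨isConjUnder_mono (Subgroup.map_mono le_top), ?_⟩
  rintro ⟨_, ⟨g, -, rfl⟩, hy⟩
  have key2 : ∀ g : ↥(simG Q), C.sq g = 1 → simAut g ∈ (isoToSim (Q := Q)).range.map simAut := by
    intro g hs
    obtain ⟨c, o, rfl⟩ := C.exists_decomp hs
    exact ⟨isoToSim o, ⟨o, rfl⟩, by
      rw [map_mul, show simAut (scalSim (Q := Q) c) = 1 from CfsgLib.Descent.simAut_scal _, one_mul]⟩
  rcases Int.units_eq_one_or (C.sq g) with hs | hs
  · exact ⟨simAut g, key2 g hs, hy⟩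
  · exact isConjUnder_of_decomp hy (key2 (g * k) (by rw [map_mul, hs, hk1]; decide))
      (show simAut g = simAut (g * k) * (simAut k)⁻¹ by rw [map_mul, mul_inv_cancel_right]) hkx.inv_left

end Ctx

end CfsgLib.PGOQuot
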